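import Cfsg.Agent.Lib.Involutions.PrincipalSeries
import Cfsg.Agent.Lib.GLTwo.Classes
import Cfsg.Agent.Lib.GLTwo.Lines
import Cfsg.Agent.Lib.CharsMore.CharAlg
import Cfsg.Agent.Lib.CharApps.Galois
import Cfsg.Agent.Lib.CharApps.Basic
import Cfsg.Agent.Lib.Chars.Misc
import Mathlib

/-!
# General facts used for the character tables of the two by two linear groups
-/

set_option linter.unusedSectionVars false
set_option linter.style.haveILetI false

namespace CfsgLib.CharsMore.TwoByTwo

open Cfsg
open scoped ComplexConjugate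

section Gen

variable {G : Type*} [Group G] [Fintype G]

/-- A character is orthogonal to an irreducible character outside its decomposition. -/
lemma inner_nat_comm {φ ψ : G → ℂ} (hφ : IsCharacter G φ) (hψ : IsCharacter G ψ) :
    classInner φ ψ = classInner ψ φ := (CharsMore.conj_inner hφ hψ).symm

/-- A virtual character of norm two is a signed sum of two different irreducible characters. -/
lemma exists_two_of_norm_two {θ : G → ℂ} (hθ : IsGeneralizedCharacter G θ)
    (h : classInner θ θ = 2) :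
    ∃ (a b : IrrCharacter G) (s t : ℤ), a ≠ b ∧ s * s = 1 ∧ t * t = 1 ∧
      θ = (s : ℂ) • (a : G → ℂ) + (t : ℂ) • (b : G → ℂ) ∧
      classInner θ (a : G → ℂ) = s ∧ classInner θ (b : G → ℂ) = t := by
  classical
  let _ := Chars.irrFintype G
  obtain ⟨hc, hm⟩ := Chars.isGeneralized_iff_inner.mp hθ
  choose m hm using hm
  have hsum : (∑ χ : IrrCharacter G, m χ * m χ) = 2 := by
    have := Chars.inner_eq_sum hc θ
    simp only [hm, h, map_intCast] at this
    exact_mod_cast this.symm
  have hle : ∀ χ, m χ * m χ = 0 ∨ m χ * m χ = 1 := by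
    intro χ
    have h1 : m χ * m χ ≤ 2 := hsum ▸ Finset.single_le_sum (fun i _ => mul_self_nonneg (m i))
      (Finset.mem_univ χ)
    have h2 : -1 ≤ m χ ∧ m χ ≤ 1 := by constructor <;> nlinarith
    obtain ⟨h3, h4⟩ := h2
    interval_cases (m χ) <;> simp
  set S := Finset.univ.filter fun χ => m χ * m χ = 1
  have hS : S.card = 2 := by
    have h1 : (∑ χ : IrrCharacter G, m χ * m χ) = (S.card : ℤ) := by
      rw [Finset.card_eq_sum_ones, Finset.sum_filter, Nat.cast_sum]
      refine Finset.sum_congr rfl fun χ _ => ?_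
      rcases hle χ with h0 | h0 <;> simp [h0]
    rw [hsum] at h1
    exact_mod_cast h1.symm
  obtain ⟨a, b, hab, hSab⟩ := Finset.card_eq_two.1 hS
  have hma : a ∈ S := by rw [hSab]; simp
  have hmb : b ∈ S := by rw [hSab]; simp
  refine ⟨a, b, m a, m b, hab, (Finset.mem_filter.1 hma).2, (Finset.mem_filter.1 hmb).2, ?_, hm a, hm b⟩
  conv_lhs => rw [Chars.classFun_eq_sum hc]
  rw [← Finset.sum_subset (Finset.subset_univ S), hSab, Finset.sum_pair hab, hm, hm]
  intro χ _ hχ
  have : m χ * m χ = 0 := (hle χ).resolve_right fun h1 => hχ (Finset.mem_filter.2 ⟨Finset.mem_univ _, h1⟩)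
  rw [hm, mul_self_eq_zero.1 this, Int.cast_zero, zero_smul]

/-- A character of norm two is a sum of two different irreducible characters. -/
lemma exists_two_of_char {φ : G → ℂ} (hφ : IsCharacter G φ) (h : classInner φ φ = 2) :
    ∃ a b : IrrCharacter G, a ≠ b ∧ φ = (a : G → ℂ) + (b : G → ℂ) ∧
      classInner φ (a : G → ℂ) = 1 ∧ classInner φ (b : G → ℂ) = 1 := by
  obtain ⟨a, b, s, t, hab, hs, ht, hθ, ha, hb⟩ :=
    exists_two_of_norm_two ⟨φ, 0, hφ, Chars.isCharacter_zero, (sub_zero φ).symm⟩ h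
  have key : ∀ (c : IrrCharacter G) (u : ℤ), u * u = 1 → classInner φ (c : G → ℂ) = u → u = 1 := by
    intro c u hu hc
    obtain ⟨k, hk⟩ := Chars.inner_irr_right_nat hφ c
    have h1 : u = (k : ℤ) := by exact_mod_cast hc.symm.trans hk
    rcases Int.eq_one_or_neg_one_of_mul_eq_one hu with h2 | h2 <;> omega
  rw [key a s hs ha] at hθ ha
  rw [key b t ht hb] at hθ hb
  exact ⟨a, b, hab, by simpa using hθ, by simpa using ha, by simpa using hb⟩

/-- An algebraic integer solving a linear equation over the integers is an integer. -/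
lemma exists_int_mul {c : ℂ} (hc : IsIntegral ℤ c) {d e : ℤ} (hd : d ≠ 0) (h : (d : ℂ) * c = e) :
    ∃ m : ℤ, c = m ∧ d * m = e := by
  have hd' : (d : ℂ) ≠ 0 := Int.cast_ne_zero.2 hd
  obtain ⟨m, hm⟩ := CharApps.exists_int_of_rat hc ⟨(e : ℚ) / d, by
    push_cast
    rw [eq_comm, eq_div_iff hd', mul_comm, h]⟩
  exact ⟨m, hm.symm, by rw [← hm] at h; exact_mod_cast h⟩

/-- The squares of the degrees sum to the order. -/
lemma sum_deg_sq [Fintype (IrrCharacter G)] :
    ∑ χ : IrrCharacter G, charDegree (χ : G → ℂ) ^ 2 = Nat.card G := by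
  classical
  have h := Chars.sum_degree_mul (G := G) 1
  rw [if_pos rfl] at h
  simp only [CharApps.deg_eq, ← sq] at h
  exact_mod_cast h

end Gen

section Field

variable {F : Type*} [Field F] [Fintype F] [DecidableEq F]

noncomputable instance : Fintype (MulChar F ℂ) := Fintype.ofFinite _

lemma card_mulChar : Fintype.card (MulChar F ℂ) = Fintype.card F - 1 := by
  rw [← Nat.card_eq_fintype_card, MulChar.card_eq_card_units_of_hasEnoughRootsOfUnity,
    Nat.card_eq_fintype_card, Fintype.card_units]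

lemma sum_mulChar_apply {a : F} (ha : a ≠ 0) :
    ∑ χ : MulChar F ℂ, χ a = if a = 1 then ((Fintype.card F - 1 : ℕ) : ℂ) else 0 := by
  split_ifs with h
  · subst h
    simp [card_mulChar]
  · obtain ⟨μ, hμ⟩ := MulChar.exists_apply_ne_one_of_hasEnoughRootsOfUnity F ℂ h
    have h1 : μ a * ∑ χ : MulChar F ℂ, χ a = ∑ χ : MulChar F ℂ, χ a := by
      rw [Finset.mul_sum]
      exact Fintype.sum_equiv (Equiv.mulLeft μ) _ _ fun χ => by simp
    have h2 : (μ a - 1) * ∑ χ : MulChar F ℂ, χ a = 0 := by rw [sub_mul, h1, one_mul, sub_self]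
    exact (mul_eq_zero.1 h2).resolve_left fun h3 => hμ (sub_eq_zero.1 h3)



lemma two_lt_card_of_odd (hodd : Odd (Fintype.card F)) : 2 < Fintype.card F := by
  have h1 : 1 < Fintype.card F := Fintype.one_lt_card
  obtain ⟨k, hk⟩ := hodd
  omega

lemma ringChar_ne_two (hodd : Odd (Fintype.card F)) : ringChar F ≠ 2 := fun h => by
  have := FiniteField.even_card_iff_char_two.1 h
  rw [Nat.odd_iff] at hodd
  omega

end Field

end CfsgLib.CharsMore.TwoByTwo
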