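import Cfsg.Agent.Lib.CharsMore.TwoByTwo.Torus
import Cfsg.Agent.S2433

/-!
# The cuspidal characters attached to a non-split torus
-/

set_option autoImplicit false
set_option linter.unusedSectionVars false
set_option linter.style.haveILetI false

namespace CfsgLib.CharsMore.TwoByTwo

open Cfsg CfsgLib.GLTwo
open scoped ComplexConjugate

variable {F : Type*} [Field F] [Fintype F] [DecidableEq F]

local notation "SL₂" => Matrix.SpecialLinearGroup (Fin 2) F

noncomputable local instance : Fintype ↥(borelSL F) := Fintype.ofFinite _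
noncomputable local instance : DecidableEq (MulChar F ℂ) := _root_.Classical.decEq _
noncomputable local instance : Fintype (IrrCharacter SL₂) := Chars.irrFintype _
noncomputable local instance : DecidableEq (IrrCharacter SL₂) := _root_.Classical.decEq _

variable (hodd : Odd (Fintype.card F))
include hodd

lemma piSL_elliptic (α : MulChar F ℂ) {g : SL₂} (h : Elliptic g) : piSL α g = 0 :=
  (Cfsg.Agent.S2433.result hodd α g).2.1 h

lemma piSL_scalar (α : MulChar F ℂ) {g : SL₂} (h : IsScalar2 (g : Matrix (Fin 2) (Fin 2) F)) :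
    piSL α g = ((Fintype.card F : ℂ) + 1) * α ((g : Matrix (Fin 2) (Fin 2) F) 0 0) :=
  (Cfsg.Agent.S2433.result hodd α g).2.2.2 h.1 h.2.1 h.2.2

/-- The element is unipotent up to sign, with eigenvalue `a`. -/
def IsUnip (g : SL₂) (a : F) : Prop :=
  ¬ IsScalar2 (g : Matrix (Fin 2) (Fin 2) F) ∧ a * a = 1 ∧ ∀ α : MulChar F ℂ, piSL α g = α a

/-- Every element is central, unipotent up to sign, elliptic, or split regular. -/
lemma classify (g : SL₂) :
    IsScalar2 (g : Matrix (Fin 2) (Fin 2) F) ∨ (∃ a, IsUnip g a) ∨ Elliptic g ∨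
      (¬ IsScalar2 (g : Matrix (Fin 2) (Fin 2) F) ∧ ∃ a b : F, a * b = 1 ∧
        ∀ α : MulChar F ℂ, piSL α g = α a + α b) := by
  by_cases hs : IsScalar2 (g : Matrix (Fin 2) (Fin 2) F)
  · exact Or.inl hs
  by_cases he : Elliptic g
  · exact Or.inr (Or.inr (Or.inl he))
  obtain ⟨x, hx⟩ := exists_eigen_conj he
  set w := x⁻¹ * g * x with hw
  have hgw : ∀ α : MulChar F ℂ, piSL α g = piSL α w := fun α => by
    have := Chars.isClassFunction_of_isCharacter (isChar_piSL α) g x⁻¹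
    rw [inv_inv] at this
    exact this.symm
  have hws : ¬ IsScalar2 (w : Matrix (Fin 2) (Fin 2) F) := fun h => hs (by
    have hz := mem_center_sl.2 h
    have e : g = w := by
      calc g = x * w * x⁻¹ := by rw [hw]; group
        _ = w := by rw [Subgroup.mem_center_iff.1 hz x, mul_inv_cancel_right]
    exact e ▸ h)
  have h10 := mem_borelSL.1 hx
  have hd : (w : Matrix (Fin 2) (Fin 2) F) 0 0 * (w : Matrix (Fin 2) (Fin 2) F) 1 1 = 1 := diag_mul ⟨w, hx⟩
  by_cases ha : (w : Matrix (Fin 2) (Fin 2) F) 0 0 ^ 2 = 1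
  · have h00 : (w : Matrix (Fin 2) (Fin 2) F) 0 0 = (w : Matrix (Fin 2) (Fin 2) F) 1 1 := by
      have h0 : (w : Matrix (Fin 2) (Fin 2) F) 0 0 ≠ 0 := left_ne_zero_of_mul_eq_one hd
      exact mul_left_cancel₀ h0 (by rw [← sq, ha, hd])
    refine Or.inr (Or.inl ⟨(w : Matrix (Fin 2) (Fin 2) F) 0 0, hs, by rw [← sq, ha], fun α => ?_⟩)
    rw [hgw]
    exact (Cfsg.Agent.S2433.result hodd α w).2.2.1 h10 h00 fun h01 => hws ⟨h01, h10, h00⟩
  · refine Or.inr (Or.inr (Or.inr ⟨hs, _, _, hd, fun α => ?_⟩))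
    rw [hgw]
    set a := (w : Matrix (Fin 2) (Fin 2) F) 0 0
    set b := (w : Matrix (Fin 2) (Fin 2) F) 1 1
    let d : SL₂ := mkSL !![a, 0; 0, b] (by rw [Matrix.det_fin_two_of]; linear_combination hd)
    have hne : a ≠ b := fun e => ha (by rw [sq]; nth_rewrite 2 [e]; exact hd)
    have ht : (w : Matrix (Fin 2) (Fin 2) F).trace ^ 2 ≠ 4 := fun e => hne (by
      rw [Matrix.trace_fin_two] at e
      have : (a - b) * (a - b) = 0 := by linear_combination e - 4 * hd
      exact sub_eq_zero.1 (mul_self_eq_zero.1 this))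
    have hc : IsConj w d := sl_isConj_of_norm_surj hws (fun h => hne (by simpa [d, coe_mkSL] using h.2.2))
      (by simp [d, coe_mkSL, Matrix.trace_fin_two, a, b])
      (fun r => norm_surj_odd (ringChar_ne_two hodd) ht r)
    rw [classFun_apply_of_isConj (Chars.isClassFunction_of_isCharacter (isChar_piSL α)) hc]
    exact (Cfsg.Agent.S2433.result hodd α d).1 (by simp [d, coe_mkSL]) (by simp [d, coe_mkSL])
      (by simpa [d, coe_mkSL] using ha)

omit hodd

/-- The product of a principal series function with a translate of the trivial one. -/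
noncomputable def auxA (α : MulChar F ℂ) : SL₂ → ℂ := fun g => piSL α g * (piSL (1 : MulChar F ℂ) g - 2)

lemma isGen_auxA (α : MulChar F ℂ) : IsGeneralizedCharacter SL₂ (auxA α) := by
  refine ⟨fun g => piSL α g * piSL (1 : MulChar F ℂ) g, fun g => piSL α g * 2,
    Chars.isCharacter_mul (isChar_piSL α) (isChar_piSL 1), ?_, funext fun g => ?_⟩
  · have := Chars.isCharacter_add (isChar_piSL α) (isChar_piSL α)
    convert this using 1
    funext g
    rw [Pi.add_apply, mul_two]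
  · simp [auxA, mul_sub]

lemma one_mulChar_apply {a : F} (ha : a ≠ 0) : (1 : MulChar F ℂ) a = 1 := MulChar.one_apply (IsUnit.mk0 a ha)

lemma mulChar_sq_apply (α : MulChar F ℂ) {a : F} (ha : a * a = 1) : α a * α a = 1 := by
  rw [← map_mul, ha, map_one]

include hodd

lemma auxA_scalar (α : MulChar F ℂ) {g : SL₂} (h : IsScalar2 (g : Matrix (Fin 2) (Fin 2) F)) :
    auxA α g = ((Fintype.card F : ℂ) ^ 2 - 1) * α ((g : Matrix (Fin 2) (Fin 2) F) 0 0) := by
  rw [auxA, piSL_scalar hodd α h, piSL_scalar hodd 1 h, one_mulChar_apply ?_]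
  · ring
  · intro h0
    rcases scalar_sl h with e | e <;> rw [h0] at e
    · exact zero_ne_one e
    · exact one_ne_zero (neg_eq_zero.1 e.symm)

lemma auxA_unip (α : MulChar F ℂ) {g : SL₂} {a : F} (h : IsUnip g a) : auxA α g = -α a := by
  rw [auxA, h.2.2, h.2.2, one_mulChar_apply (left_ne_zero_of_mul_eq_one h.2.1)]
  ring

lemma auxA_other (α : MulChar F ℂ) {g : SL₂} (h : Elliptic g ∨ ∃ a b : F, a * b = 1 ∧
    ∀ α : MulChar F ℂ, piSL α g = α a + α b) : auxA α g = 0 := by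
  rcases h with h | ⟨a, b, hab, h⟩
  · rw [auxA, piSL_elliptic hodd α h, zero_mul]
  · rw [auxA, h, h, one_mulChar_apply (left_ne_zero_of_mul_eq_one hab),
      one_mulChar_apply (right_ne_zero_of_mul_eq_one hab)]
    norm_num

lemma scalar_iff_mem (g : SL₂) : IsScalar2 (g : Matrix (Fin 2) (Fin 2) F) ↔ g ∈ ({1, negOne F} : Finset SL₂) := by
  rw [Finset.mem_insert, Finset.mem_singleton, ← mem_center_sl]
  exact ⟨center_eq_or, fun h => by rcases h with rfl | rfl <;> [exact Subgroup.one_mem _; exact negOne_mem_center]⟩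

lemma sum_auxA_one : ∑ g : SL₂, auxA (1 : MulChar F ℂ) g = 0 := by
  have h1 : ∑ g : SL₂, piSL (1 : MulChar F ℂ) g * conj (piSL (1 : MulChar F ℂ) g) = 2 * (Nat.card SL₂ : ℂ) := by
    have := inner_piSL (1 : MulChar F ℂ) 1
    rw [inv_one, Chars.inner_def, inv_mul_eq_iff_eq_mul₀ (Chars.card_ne_zero _)] at this
    rw [this]; simp; ring
  have h2 : ∑ g : SL₂, piSL (1 : MulChar F ℂ) g = (Nat.card SL₂ : ℂ) := by
    have := inner_piSL_one_one (F := F)
    rw [Chars.inner_def, inv_mul_eq_iff_eq_mul₀ (Chars.card_ne_zero _)] at this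
    simpa using this
  have hr : ∀ g : SL₂, conj (piSL (1 : MulChar F ℂ) g) = piSL (1 : MulChar F ℂ) g := by
    intro g
    rcases classify hodd g with h | ⟨a, h⟩ | h | ⟨-, a, b, hab, h⟩
    · rw [piSL_scalar hodd 1 h, one_mulChar_apply]
      · simp
      · intro h0
        rcases scalar_sl h with e | e <;> rw [h0] at e
        · exact zero_ne_one e
        · exact one_ne_zero (neg_eq_zero.1 e.symm)
    · rw [h.2.2, one_mulChar_apply (left_ne_zero_of_mul_eq_one h.2.1), map_one]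
    · rw [piSL_elliptic hodd 1 h, map_zero]
    · rw [h, one_mulChar_apply (left_ne_zero_of_mul_eq_one hab),
        one_mulChar_apply (right_ne_zero_of_mul_eq_one hab)]
      simp
  simp only [hr] at h1
  simp only [auxA, mul_sub, Finset.sum_sub_distrib, ← Finset.sum_mul, h1, h2]
  ring

lemma inner_auxA_self (α : MulChar F ℂ) :
    classInner (auxA α) (auxA α) = 2 * (Fintype.card F : ℂ) := by
  have hsum : ∑ g : SL₂, auxA α g * conj (auxA α g) =
      2 * (Fintype.card F : ℂ) ^ 2 * ((Fintype.card F : ℂ) ^ 2 - 1) := by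
    have h := sum_auxA_one hodd
    have key : ∀ g : SL₂, auxA α g * conj (auxA α g) + auxA (1 : MulChar F ℂ) g =
        if g ∈ ({1, negOne F} : Finset SL₂) then (Fintype.card F : ℂ) ^ 2 * ((Fintype.card F : ℂ) ^ 2 - 1) else 0 := by
      intro g
      have hconj : ∀ a : F, a * a = 1 → α a * conj (α a) = 1 := fun a ha => by
        rw [starRingEnd_apply, MulChar.star_apply', ← MulChar.mul_apply, mul_inv_cancel,
          one_mulChar_apply (left_ne_zero_of_mul_eq_one ha)]
      rcases classify hodd g with hg | ⟨a, hg⟩ | hg | ⟨hns, hg⟩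
      · have ha : (g : Matrix (Fin 2) (Fin 2) F) 0 0 * (g : Matrix (Fin 2) (Fin 2) F) 0 0 = 1 := by
          rcases scalar_sl hg with e | e <;> rw [e] <;> ring
        rw [if_pos ((scalar_iff_mem hodd g).1 hg), auxA_scalar hodd α hg, auxA_scalar hodd 1 hg,
          one_mulChar_apply (left_ne_zero_of_mul_eq_one ha)]
        simp only [map_mul, map_sub, map_pow, map_natCast, map_one]
        linear_combination ((Fintype.card F : ℂ) ^ 2 - 1) ^ 2 * hconj _ ha
      · rw [if_neg fun hm => hg.1 ((scalar_iff_mem hodd g).2 hm), auxA_unip hodd α hg, auxA_unip hodd 1 hg,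
          one_mulChar_apply (left_ne_zero_of_mul_eq_one hg.2.1), map_neg, neg_mul_neg, hconj a hg.2.1]
        ring
      · rw [if_neg fun hm => hg.not_scalar ((scalar_iff_mem hodd g).2 hm), auxA_other hodd α (Or.inl hg),
          auxA_other hodd 1 (Or.inl hg)]
        ring
      · rw [if_neg fun hm => hns ((scalar_iff_mem hodd g).2 hm), auxA_other hodd α (Or.inr hg),
          auxA_other hodd 1 (Or.inr hg)]
        ring
    have := Finset.sum_congr rfl fun g (_ : g ∈ Finset.univ) => key g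
    rw [Finset.sum_add_distrib, h, add_zero, Finset.sum_ite_mem, Finset.univ_inter, Finset.sum_const,
      Finset.card_pair (one_ne_negOne hodd)] at this
    rw [this]
    simp; ring
  rw [Chars.inner_def, hsum, inv_mul_eq_iff_eq_mul₀ (Chars.card_ne_zero _), card_sl]
  push_cast [Nat.one_le_pow 2 (Fintype.card F) Fintype.card_pos]
  ring

omit hodd

variable (C : Subgroup (Matrix.SpecialLinearGroup (Fin 2) F))

/-- The function induced from a linear character of the torus. -/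
noncomputable def indC (θ : C →* ℂˣ) : SL₂ → ℂ := indFun C fun c => (θ c : ℂ)

/-- The candidate cuspidal function. -/
noncomputable def cuspFun (α : MulChar F ℂ) (θ : C →* ℂˣ) : SL₂ → ℂ := auxA α - indC C θ

variable {C}

lemma isGen_cuspFun (α : MulChar F ℂ) (θ : C →* ℂˣ) : IsGeneralizedCharacter SL₂ (cuspFun C α θ) := by
  obtain ⟨χ, ψ, hχ, hψ, e⟩ := isGen_auxA α
  refine ⟨χ, ψ + indC C θ, hχ, Chars.isCharacter_add hψ ?_, ?_⟩
  · exact Chars.isCharacter_indFun _ (Chars.isCharacter_of_irr (Chars.isIrrCharacter_linear θ))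
  · rw [cuspFun, e]; abel

variable (hC : IsCyclic C) (hcard : Nat.card C = Fintype.card F + 1)

include hodd hC hcard

lemma extendByZero_indC_eq_zero (θ : C →* ℂˣ) {g : SL₂} (hg : ¬ Elliptic g)
    (hs : ¬ IsScalar2 (g : Matrix (Fin 2) (Fin 2) F)) : indC C θ g = 0 := by
  rw [indC, Chars.indFun_apply, Finset.sum_eq_zero, mul_zero]
  intro x _
  refine Chars.extendByZero_of_not_mem _ _ fun hm => ?_
  have hne : x⁻¹ * g * x ∉ Subgroup.center SL₂ := fun h => hs (mem_center_sl.1 (by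
    have e : g = x⁻¹ * g * x := by
      calc g = x * (x⁻¹ * g * x) * x⁻¹ := by group
        _ = _ := by rw [Subgroup.mem_center_iff.1 h x, mul_inv_cancel_right]
    exact e ▸ h))
  have := not_elliptic_conj (x := x⁻¹) hg
  rw [inv_inv] at this
  exact this (elliptic_of_mem hodd hcard hm hne)

lemma indC_central (θ : C →* ℂˣ) (z : C) (hz : (z : SL₂) ∈ Subgroup.center SL₂) :
    indC C θ z = (Fintype.card F : ℂ) * ((Fintype.card F : ℂ) - 1) * (θ z : ℂ) := by
  have h1 : ∀ x : SL₂, x⁻¹ * (z : SL₂) * x = z := fun x => by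
    rw [mul_assoc, ← Subgroup.mem_center_iff.1 hz x, inv_mul_cancel_left]
  rw [indC, Chars.indFun_apply]
  simp only [h1, Finset.sum_const, Finset.card_univ, nsmul_eq_mul, Chars.extendByZero_coe]
  rw [← Nat.card_eq_fintype_card, card_sl, hcard]
  push_cast [Nat.one_le_pow 2 (Fintype.card F) Fintype.card_pos]
  have : (Fintype.card F : ℂ) + 1 ≠ 0 := by exact_mod_cast Nat.succ_ne_zero (Fintype.card F)
  field_simp
  ring

lemma indC_elliptic (θ : C →* ℂˣ) (c : C) (hz : (c : SL₂) ∉ Subgroup.center SL₂) :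
    indC C θ c = (θ c : ℂ) + ((θ c)⁻¹ : ℂˣ) := by
  classical
  obtain ⟨y, hy, hne⟩ := exists_conj_inv hodd hcard hC c.2 hz
  have h1 : ∀ x : SL₂, x⁻¹ * (c : SL₂) * x = c ↔ x ∈ C := fun x => by
    constructor
    · intro h
      refine mem_of_comm hodd hcard hC c.2 hz ?_
      rw [mul_assoc, inv_mul_eq_iff_eq_mul] at h
      exact h.symm
    · intro h
      rw [mul_assoc, comm_of_mem hodd hcard hC c.2 h, inv_mul_cancel_left]
  have h2 : ∀ x : SL₂, x⁻¹ * (c : SL₂) * x = (c : SL₂)⁻¹ ↔ x * y⁻¹ ∈ C := fun x => by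
    rw [← h1, ← hy]
    constructor
    · intro h
      calc (x * y⁻¹)⁻¹ * (c : SL₂) * (x * y⁻¹) = y * (x⁻¹ * (c : SL₂) * x) * y⁻¹ := by group
        _ = _ := by rw [h]; group
    · intro h
      calc x⁻¹ * (c : SL₂) * x = y⁻¹ * ((x * y⁻¹)⁻¹ * (c : SL₂) * (x * y⁻¹)) * y := by group
        _ = _ := by rw [h]
  have key : ∀ x : SL₂, extendByZero C (fun c => (θ c : ℂ)) (x⁻¹ * (c : SL₂) * x) =
      (if x ∈ C then (θ c : ℂ) else 0) + (if x * y⁻¹ ∈ C then (((θ c)⁻¹ : ℂˣ) : ℂ) else 0) := by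
    intro x
    by_cases hx : x ∈ C
    · have hx' : ¬ x * y⁻¹ ∈ C := fun h => hne (((h2 x).2 h).symm.trans ((h1 x).2 hx))
      rw [if_pos hx, if_neg hx', add_zero, (h1 x).2 hx, Chars.extendByZero_coe]
    · rw [if_neg hx, zero_add]
      by_cases hx' : x * y⁻¹ ∈ C
      · rw [if_pos hx', (h2 x).2 hx', ← Subgroup.coe_inv, Chars.extendByZero_coe, map_inv]
      · rw [if_neg hx', Chars.extendByZero_of_not_mem]
        intro hm
        have ht : (x⁻¹ * (c : SL₂) * x : SL₂).1.trace = (c : SL₂).1.trace := by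
          rw [Matrix.SpecialLinearGroup.coe_mul, Matrix.trace_mul_comm, ← Matrix.SpecialLinearGroup.coe_mul,
            mul_inv_cancel_left]
        rcases eq_or_inv_of_trace hodd hcard hC c.2 hz hm ht with e | e
        · exact hx ((h1 x).1 e)
        · exact hx' ((h2 x).1 e)
  rw [indC, Chars.indFun_apply, Finset.sum_congr rfl fun x _ => key x, Finset.sum_add_distrib]
  have hcc : (Finset.univ.filter fun x : SL₂ => x ∈ C).card = Nat.card C := by
    rw [Nat.card_eq_fintype_card, Fintype.card_subtype]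
  have hcc' : (Finset.univ.filter fun x : SL₂ => x * y⁻¹ ∈ C).card = Nat.card C := by
    rw [← hcc]
    exact Finset.card_equiv (Equiv.mulRight y⁻¹) fun x => by simp
  rw [← Finset.sum_filter, ← Finset.sum_filter, Finset.sum_const, Finset.sum_const, hcc, hcc', nsmul_eq_mul,
    nsmul_eq_mul, ← mul_add, ← mul_assoc, inv_mul_cancel₀ (Nat.cast_ne_zero.2 Nat.card_pos.ne'), one_mul]

/-- The condition tying the split and non-split parameters together. -/
def Linked (α : MulChar F ℂ) (θ : C →* ℂˣ) : Prop :=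
  ∀ z : C, (z : SL₂) ∈ Subgroup.center SL₂ → (θ z : ℂ) = α (((z : SL₂) : Matrix (Fin 2) (Fin 2) F) 0 0)

lemma exists_linked (θ : C →* ℂˣ) : ∃ α : MulChar F ℂ, Linked α θ := by
  let z : C := ⟨negOne F, negOne_mem hodd hcard hC⟩
  have hz2 : (θ z : ℂ) * (θ z : ℂ) = 1 := by
    rw [← Units.val_mul, ← map_mul, show z * z = 1 from Subtype.ext (Subtype.ext (by
      simp [z, coe_negOne, Matrix.one_fin_two])), map_one, Units.val_one]
  obtain ⟨α, hα⟩ : ∃ α : MulChar F ℂ, α (-1) = (θ z : ℂ) := by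
    rcases mul_self_eq_one_iff.1 hz2 with e | e
    · exact ⟨1, by rw [e, one_mulChar_apply (neg_ne_zero.2 one_ne_zero)]⟩
    · obtain ⟨α, hα⟩ := MulChar.exists_apply_ne_one_of_hasEnoughRootsOfUnity F ℂ (neg_one_ne_one' hodd)
      refine ⟨α, ?_⟩
      rw [e]
      exact (mul_self_eq_one_iff.1 (mulChar_sq_apply α (by ring : (-1 : F) * -1 = 1))).resolve_left hα
  refine ⟨α, fun w hw => ?_⟩
  rcases center_eq_or hw with e | e
  · rw [show w = 1 from Subtype.ext e, map_one, OneMemClass.coe_one]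
    simp
  · rw [show w = z from Subtype.ext e, ← hα]
    simp [z, coe_negOne]

lemma cuspFun_elliptic (α : MulChar F ℂ) (θ : C →* ℂˣ) (c : C) (hz : (c : SL₂) ∉ Subgroup.center SL₂) :
    cuspFun C α θ c = -((θ c : ℂ) + ((θ c)⁻¹ : ℂˣ)) := by
  rw [cuspFun, Pi.sub_apply, auxA_other hodd α (Or.inl (elliptic_of_mem hodd hcard c.2 hz)),
    indC_elliptic hodd hC hcard θ c hz, zero_sub]

lemma cuspFun_central {α : MulChar F ℂ} {θ : C →* ℂˣ} (hl : Linked α θ) (z : C)
    (hz : (z : SL₂) ∈ Subgroup.center SL₂) :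
    cuspFun C α θ z = ((Fintype.card F : ℂ) - 1) * (θ z : ℂ) := by
  rw [cuspFun, Pi.sub_apply, auxA_scalar hodd α (mem_center_sl.1 hz), indC_central hodd hC hcard θ z hz, ← hl z hz]
  ring

lemma cuspFun_one {α : MulChar F ℂ} {θ : C →* ℂˣ} (hl : Linked α θ) :
    cuspFun C α θ 1 = (Fintype.card F : ℂ) - 1 := by
  have := cuspFun_central hodd hC hcard hl 1 (Subgroup.one_mem _)
  rwa [map_one, Units.val_one, mul_one, OneMemClass.coe_one] at this

lemma cuspFun_uSL (α : MulChar F ℂ) (θ : C →* ℂˣ) {x : F} (hx : x ≠ 0) :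
    cuspFun C α θ (uSL x) = -1 := by
  have hns : ¬ IsScalar2 ((uSL x : SL₂) : Matrix (Fin 2) (Fin 2) F) := by simp [coe_uSL, IsScalar2, hx]
  have he : ¬ Elliptic (uSL x : SL₂) := fun h => h 1 ![1, 0] (fun e => one_ne_zero (congrFun e 0 :)) (by
    ext i; fin_cases i <;> simp [coe_uSL, Matrix.mulVec, dotProduct, Fin.sum_univ_two])
  have hu : ∀ β : MulChar F ℂ, piSL β (uSL x) = β 1 := fun β => by
    have := (Cfsg.Agent.S2433.result hodd β (uSL x)).2.2.1 rfl rfl (by simpa [coe_uSL] using hx)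
    exact this
  rw [cuspFun, Pi.sub_apply, auxA, hu, hu, extendByZero_indC_eq_zero hodd hC hcard θ he hns, map_one, map_one]
  ring

lemma cuspFun_diag (α : MulChar F ℂ) (θ : C →* ℂˣ) {g : SL₂} (h01 : (g : Matrix (Fin 2) (Fin 2) F) 0 1 = 0)
    (h10 : (g : Matrix (Fin 2) (Fin 2) F) 1 0 = 0) (ha : (g : Matrix (Fin 2) (Fin 2) F) 0 0 ^ 2 ≠ 1) :
    cuspFun C α θ g = 0 := by
  have hd : (g : Matrix (Fin 2) (Fin 2) F) 0 0 * (g : Matrix (Fin 2) (Fin 2) F) 1 1 = 1 :=
    diag_mul ⟨g, mem_borelSL.2 h10⟩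
  have hns : ¬ IsScalar2 (g : Matrix (Fin 2) (Fin 2) F) := fun h => ha (by rw [sq]; nth_rewrite 2 [h.2.2]; exact hd)
  have he : ¬ Elliptic g := fun h => h ((g : Matrix (Fin 2) (Fin 2) F) 0 0) ![1, 0]
    (fun e => one_ne_zero (congrFun e 0 :)) (by
      ext i; fin_cases i <;> simp [Matrix.mulVec, dotProduct, Fin.sum_univ_two, h10])
  rw [cuspFun, Pi.sub_apply, extendByZero_indC_eq_zero hodd hC hcard θ he hns,
    auxA_other hodd α (Or.inr ⟨_, _, hd, fun β => (Cfsg.Agent.S2433.result hodd β g).1 h01 h10 ha⟩), sub_zero]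

lemma uSumSL_cuspFun {α : MulChar F ℂ} {θ : C →* ℂˣ} (hl : Linked α θ) : uSumSL (cuspFun C α θ) = 0 := by
  rw [uSumSL, ← Finset.add_sum_erase _ _ (Finset.mem_univ 0), uSL_zero, cuspFun_one hodd hC hcard hl,
    Finset.sum_congr rfl fun x hx => cuspFun_uSL hodd hC hcard α θ (Finset.ne_of_mem_erase hx),
    Finset.sum_const, Finset.card_erase_of_mem (Finset.mem_univ _), Finset.card_univ, nsmul_eq_mul,
    Nat.cast_sub Fintype.card_pos, Nat.cast_one]
  ring

lemma inner_cuspFun_self {α : MulChar F ℂ} {θ : C →* ℂˣ} (hl : Linked α θ) (hθ : ∃ c : C, θ c ^ 2 ≠ 1) :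
    classInner (cuspFun C α θ) (cuspFun C α θ) = 1 := by
  classical
  have hq1 : (Fintype.card F : ℂ) + 1 ≠ 0 := by exact_mod_cast Nat.succ_ne_zero (Fintype.card F)
  let z : C := ⟨negOne F, negOne_mem hodd hcard hC⟩
  have hcz : ∀ c : C, (c : SL₂) ∈ Subgroup.center SL₂ ↔ c ∈ ({1, z} : Finset C) := fun c => by
    simp only [Finset.mem_insert, Finset.mem_singleton]
    constructor
    · intro h
      rcases center_eq_or h with e | e
      · exact Or.inl (Subtype.ext e)
      · exact Or.inr (Subtype.ext e)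
    · rintro (rfl | rfl)
      · exact Subgroup.one_mem _
      · exact negOne_mem_center
  have hz1 : (1 : C) ≠ z := fun e => one_ne_negOne hodd (congrArg Subtype.val e :)
  have hconj : ∀ c : C, conj (θ c : ℂ) = (((θ c)⁻¹ : ℂˣ) : ℂ) := fun c => by
    have := Chars.char_inv (Chars.isCharacter_of_irr (Chars.isIrrCharacter_linear θ)) c
    rw [← this, map_inv]
  have hzz : ∀ c : C, (c : SL₂) ∈ Subgroup.center SL₂ → (θ c : ℂ) * (θ c : ℂ) = 1 := fun c hc => by
    rw [hl c hc]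
    refine mulChar_sq_apply α ?_
    rcases scalar_sl (mem_center_sl.1 hc) with e | e <;> rw [e] <;> ring
  have hzinv : ∀ c : C, (c : SL₂) ∈ Subgroup.center SL₂ → (((θ c)⁻¹ : ℂˣ) : ℂ) = (θ c : ℂ) := fun c hc => by
    rw [Units.val_inv_eq_inv_val]; exact inv_eq_of_mul_eq_one_left (hzz c hc)
  have e1 : classInner (auxA α) (indC C θ) = 2 * ((Fintype.card F : ℂ) - 1) := by
    rw [indC, Chars.inner_indFun_right _ _ (Chars.isClassFunction_of_isGeneralized (isGen_auxA α)),
      Chars.inner_def, hcard, inv_mul_eq_iff_eq_mul₀ (by exact_mod_cast Nat.succ_ne_zero (Fintype.card F))]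
    have key : ∀ c : C, auxA α (c : SL₂) * conj (θ c : ℂ) =
        if c ∈ ({1, z} : Finset C) then (Fintype.card F : ℂ) ^ 2 - 1 else 0 := by
      intro c
      by_cases hc : (c : SL₂) ∈ Subgroup.center SL₂
      · rw [if_pos ((hcz c).1 hc), auxA_scalar hodd α (mem_center_sl.1 hc), ← hl c hc, hconj, hzinv c hc,
          mul_assoc, hzz c hc, mul_one]
      · rw [if_neg fun h => hc ((hcz c).2 h), auxA_other hodd α (Or.inl (elliptic_of_mem hodd hcard c.2 hc)),
          zero_mul]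
    rw [Finset.sum_congr rfl fun c _ => key c, Finset.sum_ite_mem, Finset.univ_inter, Finset.sum_const,
      Finset.card_pair hz1]
    push_cast
    simp only [nsmul_eq_mul, Nat.cast_ofNat]
    ring
  have e2 : classInner (indC C θ) (indC C θ) = 2 * (Fintype.card F : ℂ) - 3 := by
    have hcl : IsClassFunction SL₂ (indC C θ) := Chars.isClassFunction_indFun _ _
    conv_lhs => arg 1; rw [indC]
    rw [Chars.inner_indFun _ _ hcl, Chars.inner_def, hcard,
      inv_mul_eq_iff_eq_mul₀ (by exact_mod_cast Nat.succ_ne_zero (Fintype.card F))]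
    have key : ∀ c : C, (θ c : ℂ) * conj (indC C θ (c : SL₂)) = (1 + (θ c : ℂ) ^ 2) +
        if c ∈ ({1, z} : Finset C) then (Fintype.card F : ℂ) * ((Fintype.card F : ℂ) - 1) - 2 else 0 := by
      intro c
      by_cases hc : (c : SL₂) ∈ Subgroup.center SL₂
      · rw [if_pos ((hcz c).1 hc), indC_central hodd hC hcard θ c hc, map_mul, hconj, hzinv c hc]
        simp only [map_mul, map_sub, map_natCast, map_one]
        linear_combination ((Fintype.card F : ℂ) * ((Fintype.card F : ℂ) - 1) - 1) * hzz c hc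
      · rw [if_neg fun h => hc ((hcz c).2 h), indC_elliptic hodd hC hcard θ c hc, map_add, hconj,
          ← map_inv θ, hconj, map_inv θ, inv_inv, mul_add, Units.mul_inv, add_zero]
        ring
    rw [Finset.sum_congr rfl fun c _ => key c, Finset.sum_add_distrib, Finset.sum_ite_mem, Finset.univ_inter,
      Finset.sum_const, Finset.card_pair hz1, Finset.sum_add_distrib]
    have hsq : ∑ c : C, (θ c : ℂ) ^ 2 = 0 := by
      obtain ⟨d, hd⟩ := hθ
      have h1 : (θ d : ℂ) ^ 2 * ∑ c : C, (θ c : ℂ) ^ 2 = ∑ c : C, (θ c : ℂ) ^ 2 := by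
        rw [Finset.mul_sum]
        exact Fintype.sum_equiv (Equiv.mulLeft d) _ _ fun c => by simp [mul_pow]
      have h2 : (θ d : ℂ) ^ 2 ≠ 1 := fun h => hd (Units.ext (by rw [Units.val_pow_eq_pow_val, h, Units.val_one]))
      exact (mul_left_eq_self₀.1 h1).resolve_left h2
    rw [hsq, Finset.sum_const, Finset.card_univ, ← Nat.card_eq_fintype_card, hcard]
    push_cast
    simp only [nsmul_eq_mul, Nat.cast_ofNat]
    push_cast
    ring
  have e1' : classInner (indC C θ) (auxA α) = 2 * ((Fintype.card F : ℂ) - 1) := by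
    rw [← Chars.inner_conj, e1, map_mul, map_sub, map_natCast, map_one, map_ofNat]
  rw [cuspFun, Chars.inner_sub_left, Chars.inner_sub_right, Chars.inner_sub_right, inner_auxA_self hodd,
    e1, e1', e2]
  ring

lemma isIrr_cuspFun {α : MulChar F ℂ} {θ : C →* ℂˣ} (hl : Linked α θ) (hθ : ∃ c : C, θ c ^ 2 ≠ 1) :
    IsIrrCharacter SL₂ (cuspFun C α θ) := by
  refine Chars.irr_of_norm_one (isGen_cuspFun α θ) (inner_cuspFun_self hodd hC hcard hl hθ) ?_
  rw [cuspFun_one hodd hC hcard hl]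
  have : (1 : ℝ) ≤ Fintype.card F := by exact_mod_cast Fintype.card_pos
  rw [Complex.sub_re, Complex.natCast_re, Complex.one_re]
  linarith

lemma mem_cBigSL_of_uSum {χ : IrrCharacter SL₂} (h0 : uSumSL (χ : SL₂ → ℂ) = 0)
    (h1 : (χ : SL₂ → ℂ) 1 = (Fintype.card F : ℂ) - 1) : χ ∈ cBigSL (F := F) := by
  have hq := two_lt_card_of_odd hodd
  have hd : charDegree (χ : SL₂ → ℂ) = Fintype.card F - 1 := deg_eq_of_val (by
    rw [h1]; push_cast [(by omega : 1 ≤ Fintype.card F)]; rfl)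
  have hq0 : (Fintype.card F : ℂ) ≠ 0 := by exact_mod_cast (by omega : Fintype.card F ≠ 0)
  have hc : χ ∈ cSetSL := by
    rcases sl_cases_odd hodd χ with h | h | h | h | h
    · rw [show (χ : SL₂ → ℂ) = fun _ => 1 from congrArg Subtype.val h, uSumSL_one] at h0
      exact absurd h0 hq0
    · rw [show (χ : SL₂ → ℂ) = stSL from congrArg Subtype.val h, uSumSL_stSL] at h0
      exact absurd h0 hq0
    · obtain ⟨β, -, e⟩ := mem_pSetSL.1 h
      rw [e, uSumSL_piSL] at h0
      exact absurd h0 (mul_ne_zero two_ne_zero hq0)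
    · rw [uSumSL_half hodd χ.2 (of_mem_hSetSL hodd h).1] at h0
      exact absurd h0 hq0
    · exact h
  simp [cBigSL, hc, hd]

lemma exists_cuspIrr (θ : C →* ℂˣ) (hθ : ∃ c : C, θ c ^ 2 ≠ 1) :
    ∃ (α : MulChar F ℂ) (χ : IrrCharacter SL₂), Linked α θ ∧ χ ∈ cBigSL ∧
      (χ : SL₂ → ℂ) = cuspFun C α θ := by
  obtain ⟨α, hl⟩ := exists_linked hodd hC hcard θ
  exact ⟨α, ⟨_, isIrr_cuspFun hodd hC hcard hl hθ⟩, hl,
    mem_cBigSL_of_uSum hodd hC hcard (uSumSL_cuspFun hodd hC hcard hl) (cuspFun_one hodd hC hcard hl), rfl⟩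

omit hodd in
lemma exists_faithful : ∃ μ : C →* ℂˣ, Function.Injective μ := by
  obtain ⟨g, hg⟩ := hC.exists_generator
  have hn : Fintype.card F + 1 ≠ 0 := Nat.succ_ne_zero _
  have hζ := Complex.isPrimitiveRoot_exp (Fintype.card F + 1) hn
  have ho : orderOf g = Fintype.card F + 1 := by rw [orderOf_eq_card_of_forall_mem_zpowers hg, hcard]
  have ho' : orderOf (hζ.isUnit hn).unit = orderOf g := by
    rw [ho, ← (hζ.isUnit_unit hn).eq_orderOf]
  refine ⟨monoidHomOfForallMemZpowers hg ho'.dvd, (injective_iff_map_eq_one _).2 fun x hx => ?_⟩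
  obtain ⟨n, rfl⟩ := Subgroup.mem_zpowers_iff.1 (hg x)
  rw [map_zpow, monoidHomOfForallMemZpowers_apply_gen, ← orderOf_dvd_iff_zpow_eq_one, ho'] at hx
  exact orderOf_dvd_iff_zpow_eq_one.1 hx

/-- The table of the full degree cuspidal characters on the torus. -/
lemma torus_table (μ : C →* ℂˣ) (hμ : Function.Injective μ) :
    (∀ χ ∈ cBigSL (F := F), ∃ (α : MulChar F ℂ) (θ : C →* ℂˣ), Linked α θ ∧ (∃ c : C, θ c ^ 2 ≠ 1) ∧
      (χ : SL₂ → ℂ) = cuspFun C α θ) ∧
    ∀ c : C, (c : SL₂) ∉ Subgroup.center SL₂ → ∑ χ ∈ cBigSL (F := F), (χ : SL₂ → ℂ) (c : SL₂) =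
      1 + (μ c : ℂ) ^ ((Fintype.card F + 1) / 2) := by
  classical
  have hq := two_lt_card_of_odd hodd
  obtain ⟨k, hk⟩ := id hodd
  have hh : (Fintype.card F + 1) / 2 = k + 1 := by omega
  obtain ⟨g, hg⟩ := hC.exists_generator
  have ho : orderOf g = Fintype.card F + 1 := by rw [orderOf_eq_card_of_forall_mem_zpowers hg, hcard]
  have hgz : (g : SL₂) ∉ Subgroup.center SL₂ := fun h => by
    have h2 : (g : SL₂) ^ 2 = 1 := by
      rcases center_eq_or h with e | e <;> rw [e]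
      · exact one_pow _
      · refine Subtype.ext ?_
        rw [sq, Matrix.SpecialLinearGroup.coe_mul, coe_negOne, Matrix.SpecialLinearGroup.coe_one]
        simp [Matrix.one_fin_two]
    have := orderOf_dvd_of_pow_eq_one (x := g) (n := 2) (Subtype.ext h2)
    rw [ho] at this
    have := Nat.le_of_dvd two_pos this
    omega
  have hext : ∀ θ θ' : C →* ℂˣ, θ g = θ' g → θ = θ' := fun θ θ' h => MonoidHom.ext fun x => by
    obtain ⟨n, rfl⟩ := Subgroup.mem_zpowers_iff.1 (hg x)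
    rw [map_zpow, map_zpow, h]
  have hcomm : commutator C = ⊥ := by
    rw [commutator_def, Subgroup.commutator_eq_bot_iff_le_centralizer]
    exact fun x _ => Subgroup.mem_centralizer_iff.2 fun y _ =>
      Subtype.ext (comm_of_mem hodd hcard hC y.2 x.2)
  have hcardHom : Nat.card (C →* ℂˣ) = Fintype.card F + 1 := by
    rw [Chars.card_monoidHom_units, hcomm, Subgroup.index_bot, hcard]
  have : Finite (C →* ℂˣ) := Nat.finite_of_card_ne_zero (by omega)
  let _ : Fintype (C →* ℂˣ) := Fintype.ofFinite _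
  let θ₀ : C →* ℂˣ := μ ^ (k + 1)
  have hθ₀g : (θ₀ g : ℂˣ) = -1 := by
    have h2 : ((θ₀ g : ℂˣ) : ℂ) * (θ₀ g : ℂˣ) = 1 := by
      rw [← Units.val_mul, MonoidHom.pow_apply, ← pow_add, ← map_pow, show k + 1 + (k + 1) = orderOf g by omega,
        pow_orderOf_eq_one, map_one, Units.val_one]
    refine Units.ext ((mul_self_eq_one_iff.1 h2).resolve_left fun h1 => ?_)
    have := orderOf_dvd_of_pow_eq_one (x := g) (n := k + 1) (hμ (by
      rw [map_pow, map_one]; exact Units.ext h1))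
    rw [ho] at this
    have := Nat.le_of_dvd (by omega) this
    omega
  set N := Finset.univ.filter fun θ : C →* ℂˣ => ∃ c : C, θ c ^ 2 ≠ 1 with hN
  have hone0 : (1 : C →* ℂˣ) ≠ θ₀ := fun e => by
    have := congrArg (fun f : C →* ℂˣ => ((f g : ℂˣ) : ℂ)) e
    simp only [MonoidHom.one_apply, Units.val_one, hθ₀g, Units.val_neg] at this
    norm_num at this
  have hNc : Nᶜ = {1, θ₀} := by
    ext θ
    simp only [hN, Finset.mem_compl, Finset.mem_filter, Finset.mem_univ, true_and, not_exists, not_not,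
      Finset.mem_insert, Finset.mem_singleton]
    constructor
    · intro h
      rcases mul_self_eq_one_iff.1 (show ((θ g : ℂˣ) : ℂ) * (θ g : ℂˣ) = 1 by
        rw [← Units.val_mul, ← sq, h, Units.val_one]) with e | e
      · exact Or.inl (hext _ _ (Units.ext (by rw [e, MonoidHom.one_apply, Units.val_one])))
      · exact Or.inr (hext _ _ (Units.ext (by rw [e, hθ₀g, Units.val_neg, Units.val_one])))
    · rintro (rfl | rfl) c
      · rw [MonoidHom.one_apply, one_pow]
      · rw [MonoidHom.pow_apply, ← pow_mul, ← map_pow, show (k + 1) * 2 = Nat.card C by omega, pow_card_eq_one',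
          map_one]
  choose A X hA hX hXval using fun (θ : {θ // θ ∈ N}) =>
    exists_cuspIrr hodd hC hcard θ.1 (Finset.mem_filter.1 θ.2).2
  let f : (C →* ℂˣ) → IrrCharacter SL₂ := fun θ => if h : θ ∈ N then X ⟨θ, h⟩ else stIrrSL
  have hfX : ∀ θ (h : θ ∈ N), f θ = X ⟨θ, h⟩ := fun θ h => dif_pos h
  have hfval : ∀ θ ∈ N, ∀ c : C, (c : SL₂) ∉ Subgroup.center SL₂ →
      (f θ : SL₂ → ℂ) c = -((θ c : ℂ) + ((θ c)⁻¹ : ℂˣ)) := fun θ h c hc => by
    rw [hfX θ h, hXval, cuspFun_elliptic hodd hC hcard _ _ c hc]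
  have hinvN : ∀ θ ∈ N, θ⁻¹ ∈ N := fun θ h => by
    obtain ⟨c, hc⟩ := (Finset.mem_filter.1 h).2
    exact Finset.mem_filter.2 ⟨Finset.mem_univ _, c, by rwa [MonoidHom.inv_apply, inv_pow, inv_ne_one]⟩
  have hfinv : ∀ θ ∈ N, f θ⁻¹ = f θ := fun θ h => by
    have hi := hinvN θ h
    obtain ⟨α, hl⟩ := exists_linked hodd hC hcard θ
    have hval : ∀ (η : C →* ℂˣ) (hη : η ∈ N) (x : SL₂),
        (f η : SL₂ → ℂ) x = auxA (A ⟨η, hη⟩) x - indC C η x := fun η hη x => by rw [hfX η hη, hXval]; rfl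
    refine Subtype.ext (funext fun x => ?_)
    rw [hval _ hi, hval _ h]
    have hAeq : ∀ z : C, (z : SL₂) ∈ Subgroup.center SL₂ →
        A ⟨θ⁻¹, hi⟩ (((z : SL₂) : Matrix (Fin 2) (Fin 2) F) 0 0) = A ⟨θ, h⟩ (((z : SL₂) : Matrix (Fin 2) (Fin 2) F) 0 0) := by
      intro z hz
      rw [← hA _ z hz, ← hA _ z hz, MonoidHom.inv_apply, Units.val_inv_eq_inv_val]
      refine inv_eq_of_mul_eq_one_left ?_
      rw [hA _ z hz]
      refine mulChar_sq_apply _ ?_
      rcases scalar_sl (mem_center_sl.1 hz) with e | e <;> rw [e] <;> ring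
    have hm1 : A ⟨θ⁻¹, hi⟩ (-1) = A ⟨θ, h⟩ (-1) := by
      have := hAeq ⟨negOne F, negOne_mem hodd hcard hC⟩ negOne_mem_center
      simpa [coe_negOne] using this
    have hsq : ∀ a : F, a * a = 1 → A ⟨θ⁻¹, hi⟩ a = A ⟨θ, h⟩ a := fun a ha => by
      rcases mul_self_eq_one_iff.1 ha with rfl | rfl
      · rw [map_one, map_one]
      · exact hm1
    have e1 : auxA (A ⟨θ⁻¹, hi⟩) x = auxA (A ⟨θ, h⟩) x := by
      rcases classify hodd x with hx | ⟨a, hx⟩ | hx | ⟨-, hx⟩
      · rw [auxA_scalar hodd _ hx, auxA_scalar hodd _ hx, hsq]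
        rcases scalar_sl hx with e | e <;> rw [e] <;> ring
      · rw [auxA_unip hodd _ hx, auxA_unip hodd _ hx, hsq a hx.2.1]
      · rw [auxA_other hodd _ (Or.inl hx), auxA_other hodd _ (Or.inl hx)]
      · rw [auxA_other hodd _ (Or.inr hx), auxA_other hodd _ (Or.inr hx)]
    have e2 : indC C θ⁻¹ x = indC C θ x := by
      by_cases hx : ∃ y : SL₂, y⁻¹ * x * y ∈ C
      · obtain ⟨y, hy⟩ := hx
        have hcl : ∀ η : C →* ℂˣ, indC C η x = indC C η ((⟨_, hy⟩ : C) : SL₂) := fun η => by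
          have := Chars.isClassFunction_indFun C (fun c => (η c : ℂ)) x y⁻¹
          rw [inv_inv] at this
          exact this.symm
        rw [hcl, hcl]
        by_cases hz : y⁻¹ * x * y ∈ Subgroup.center SL₂
        · rw [indC_central hodd hC hcard _ _ hz, indC_central hodd hC hcard _ _ hz]
          rw [hA ⟨θ⁻¹, hi⟩ _ hz, hA ⟨θ, h⟩ _ hz, hAeq _ hz]
        · rw [indC_elliptic hodd hC hcard _ _ hz, indC_elliptic hodd hC hcard _ _ hz,
            MonoidHom.inv_apply, inv_inv, add_comm]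
      · simp only [indC, Chars.indFun_apply]
        rw [Finset.sum_eq_zero, Finset.sum_eq_zero] <;>
          exact fun y _ => Chars.extendByZero_of_not_mem _ _ fun hy => hx ⟨y, hy⟩
    rw [e1, e2]
  have hne : ∀ θ ∈ N, θ⁻¹ ≠ θ := fun θ h e => by
    obtain ⟨c, hc⟩ := (Finset.mem_filter.1 h).2
    refine hc ?_
    have := congrArg (fun f : C →* ℂˣ => f c) e
    simp only [MonoidHom.inv_apply] at this
    rw [sq]; nth_rewrite 1 [← this]; exact inv_mul_cancel _
  have hfib : ∀ θ ∈ N, N.filter (fun η => f η = f θ) = {θ, θ⁻¹} := fun θ h => by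
    ext η
    simp only [Finset.mem_filter, Finset.mem_insert, Finset.mem_singleton]
    constructor
    · rintro ⟨hη, e⟩
      have e' := congrFun (congrArg Subtype.val e) (g : SL₂)
      rw [hfval η hη g hgz, hfval θ h g hgz, neg_inj] at e'
      rw [Units.val_inv_eq_inv_val, Units.val_inv_eq_inv_val] at e'
      have ha := (η g).ne_zero
      have hb := (θ g).ne_zero
      have key : ((η g : ℂ) - θ g) * ((η g : ℂ) * θ g - 1) = 0 := by
        field_simp at e'
        linear_combination e'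
      rcases mul_eq_zero.1 key with e1 | e1
      · exact Or.inl (hext _ _ (Units.ext (sub_eq_zero.1 e1)))
      · exact Or.inr (hext _ _ (by
          rw [MonoidHom.inv_apply]
          exact eq_inv_of_mul_eq_one_left (Units.ext (by
            rw [Units.val_mul, Units.val_one]; exact sub_eq_zero.1 e1))))
    · rintro (rfl | rfl)
      · exact ⟨h, rfl⟩
      · exact ⟨hinvN θ h, hfinv θ h⟩
  have hfib2 : ∀ θ ∈ N, (N.filter fun η => f η = f θ).card = 2 := fun θ h => by
    rw [hfib θ h, Finset.card_pair (hne θ h).symm]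
  have hNcard : N.card + 2 = Fintype.card F + 1 := by
    rw [← hcardHom, Nat.card_eq_fintype_card, ← Finset.card_add_card_compl N, hNc, Finset.card_pair hone0]
  have h2 : 2 * (N.image f).card = N.card := by
    rw [Finset.card_eq_sum_card_image f N, Finset.sum_congr rfl (g := fun _ => 2) fun χ hχ => ?_, Finset.sum_const,
      smul_eq_mul, mul_comm]
    obtain ⟨θ, hθ, rfl⟩ := Finset.mem_image.1 hχ
    exact hfib2 θ hθ
  have himg : N.image f = cBigSL (F := F) := by
    refine Finset.eq_of_subset_of_card_le ?_ ?_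
    · intro χ hχ
      obtain ⟨θ, hθ, rfl⟩ := Finset.mem_image.1 hχ
      rw [hfX θ hθ]
      exact hX _
    · have := (card_cuspSL hodd).2
      omega
  refine ⟨fun χ hχ => ?_, fun c hc => ?_⟩
  · rw [← himg] at hχ
    obtain ⟨θ, hθ, rfl⟩ := Finset.mem_image.1 hχ
    exact ⟨A ⟨θ, hθ⟩, θ, hA _, (Finset.mem_filter.1 hθ).2, by rw [hfX θ hθ, hXval]⟩
  · have e1 : ∑ θ ∈ N, (f θ : SL₂ → ℂ) (c : SL₂) = 2 * ∑ χ ∈ cBigSL (F := F), (χ : SL₂ → ℂ) (c : SL₂) := by
      rw [← himg, Finset.mul_sum, ← Finset.sum_fiberwise_of_maps_to (g := f) (fun θ hθ => Finset.mem_image_of_mem f hθ)]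
      refine Finset.sum_congr rfl fun χ hχ => ?_
      obtain ⟨θ, hθ, rfl⟩ := Finset.mem_image.1 hχ
      rw [Finset.sum_congr rfl (fun η hη => by rw [(Finset.mem_filter.1 hη).2]), Finset.sum_const, hfib2 θ hθ]
      simp [two_mul]
    have e2 : ∑ θ ∈ N, (f θ : SL₂ → ℂ) (c : SL₂) = -(2 * ∑ θ ∈ N, ((θ c : ℂˣ) : ℂ)) := by
      rw [Finset.sum_congr rfl fun θ hθ => hfval θ hθ c hc, Finset.sum_neg_distrib, Finset.sum_add_distrib, two_mul]
      refine congrArg Neg.neg (congrArg₂ (· + ·) rfl ?_)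
      exact Finset.sum_nbij' (fun θ => θ⁻¹) (fun θ => θ⁻¹) hinvN hinvN (fun θ _ => MonoidHom.ext fun x => by simp)
        (fun θ _ => MonoidHom.ext fun x => by simp)
        fun θ _ => by rw [MonoidHom.inv_apply]
    have e3 : ∑ θ : C →* ℂˣ, ((θ c : ℂˣ) : ℂ) = 0 := by
      have h1 : (μ c : ℂ) * ∑ θ : C →* ℂˣ, ((θ c : ℂˣ) : ℂ) = ∑ θ : C →* ℂˣ, ((θ c : ℂˣ) : ℂ) := by
        rw [Finset.mul_sum]
        exact Fintype.sum_equiv (Equiv.mulLeft μ) _ _ fun θ => by simp
      refine (mul_left_eq_self₀.1 h1).resolve_left fun h => hc ?_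
      rw [hμ (a₁ := c) (a₂ := 1) (by rw [map_one]; exact Units.ext h)]
      exact Subgroup.one_mem _
    rw [← Finset.sum_add_sum_compl N, hNc, Finset.sum_pair hone0, MonoidHom.one_apply, Units.val_one,
      MonoidHom.pow_apply, Units.val_pow_eq_pow_val] at e3
    rw [hh]
    linear_combination (e2 - e1) / 2 - e3

/-- The half degree cuspidal characters at elliptic elements. -/
lemma cHalfSL_apply (μ : C →* ℂˣ) (hμ : Function.Injective μ) {χ : IrrCharacter SL₂} (hχ : χ ∈ cHalfSL)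
    (c : C) (hc : (c : SL₂) ∉ Subgroup.center SL₂) :
    (χ : SL₂ → ℂ) (c : SL₂) = -(μ c : ℂ) ^ ((Fintype.card F + 1) / 2) := by
  classical
  have hq := two_lt_card_of_odd hodd
  have he := elliptic_of_mem hodd hcard c.2 hc
  obtain ⟨ν, hν⟩ := FiniteField.exists_nonsquare (ringChar_ne_two hodd)
  have hν0 : ν ≠ 0 := fun e => hν (by rw [e]; exact IsSquare.zero)
  set r : Fˣ := Units.mk0 ν hν0
  let χ' : IrrCharacter SL₂ := ⟨_, isIrr_comp_dConj r χ.2⟩
  have hχc : χ ∈ cSetSL := (Finset.mem_filter.1 hχ).1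
  have hχd := deg_cHalfSL hodd hχ
  have hd' : charDegree (χ' : SL₂ → ℂ) = charDegree (χ : SL₂ → ℂ) :=
    deg_eq_of_val (by show (χ : SL₂ → ℂ) (dConj r 1) = _; rw [map_one, CharApps.deg_eq])
  have hχ'c : χ' ∈ cSetSL := mem_cSetSL.2 fun α => by
    show classInner ((χ : SL₂ → ℂ) ∘ dConj r) (piSL α) = 0
    rw [← piSL_comp_dConj α r, inner_comp_dConj]
    exact mem_cSetSL.1 hχc α
  have hχ' : χ' ∈ cHalfSL := by
    have := (Finset.mem_filter.1 hχ).2
    simp [cHalfSL, hχ'c, hd', this]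
  have hne : χ ≠ χ' := by
    intro e
    have e' : (χ : SL₂ → ℂ) (uSL ν) = (χ : SL₂ → ℂ) (uSL 1) := by
      have := congrFun (congrArg Subtype.val e) (uSL 1)
      rw [this]
      show _ = (χ : SL₂ → ℂ) (dConj r (uSL 1))
      rw [dConj_uSL, mul_one]; rfl
    have h2 := two_mul_uSumSL hodd (Chars.isClassFunction_irr χ) hν
    rw [(mem_cSetSL.1 hχc).uSum (Chars.isClassFunction_irr χ), e', CharApps.deg_eq] at h2
    have h3 : 2 * (charDegree (χ : SL₂ → ℂ) : ℂ) = (Fintype.card F : ℂ) - 1 := by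
      have := congrArg (Nat.cast : ℕ → ℂ) hχd
      push_cast [(by omega : 1 ≤ Fintype.card F)] at this
      exact this
    have h4 : ((Fintype.card F : ℂ) - 1) ≠ 0 := sub_ne_zero.2 (by exact_mod_cast (by omega : Fintype.card F ≠ 1))
    have h5 : ((2 : ℤ) : ℂ) * (χ : SL₂ → ℂ) (uSL 1) = ((-1 : ℤ) : ℂ) := by
      push_cast
      exact mul_left_cancel₀ h4 (by linear_combination -h2 - h3)
    obtain ⟨m, -, hm⟩ := exists_int_mul (Chars.char_isIntegral (Chars.isCharacter_of_irr χ.2) _) two_ne_zero h5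
    omega
  have hset : cHalfSL (F := F) = {χ, χ'} := by
    refine (Finset.eq_of_subset_of_card_le ?_ ?_).symm
    · intro x hx
      simp only [Finset.mem_insert, Finset.mem_singleton] at hx
      rcases hx with rfl | rfl <;> assumption
    · rw [Finset.card_pair hne, (card_cuspSL hodd).1]
  have hval : (χ' : SL₂ → ℂ) (c : SL₂) = (χ : SL₂ → ℂ) (c : SL₂) :=
    apply_dConj_of_isNorm (Chars.isClassFunction_irr χ) he.not_scalar r
      (norm_surj_odd (ringChar_ne_two hodd) (he.trace_sq_ne_four hodd) _)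
  have hreg := Chars.sum_degree_mul (G := SL₂) (c : SL₂)
  rw [if_neg fun e => hc (by rw [e]; exact Subgroup.one_mem _), sl_partition_odd hodd] at hreg
  have hP : ∑ ψ ∈ pSetSL (F := F), (ψ : SL₂ → ℂ) 1 * (ψ : SL₂ → ℂ) (c : SL₂) = 0 :=
    Finset.sum_eq_zero fun ψ hψ => by
      obtain ⟨α, -, e⟩ := mem_pSetSL.1 hψ
      rw [e, piSL_elliptic hodd α he, mul_zero]
  have hH : ∑ ψ ∈ hSetSL (F := F), (ψ : SL₂ → ℂ) 1 * (ψ : SL₂ → ℂ) (c : SL₂) = 0 := by
    obtain ⟨a, b, hab, hs, hp, -, -, hda, hdb⟩ := hSetSL_eq hodd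
    have := congrFun hp (c : SL₂)
    rw [piSL_elliptic hodd _ he, Pi.add_apply] at this
    rw [hs, Finset.sum_pair hab, CharApps.deg_eq a, CharApps.deg_eq b,
      show charDegree (b : SL₂ → ℂ) = charDegree (a : SL₂ → ℂ) by omega, ← mul_add, ← this, mul_zero]
  have hC2 : ∀ F' : IrrCharacter SL₂ → ℂ, ∑ ψ ∈ cSetSL (F := F), F' ψ =
      ∑ ψ ∈ cBigSL (F := F), F' ψ + ∑ ψ ∈ cHalfSL (F := F), F' ψ :=
    fun F' => (Finset.sum_filter_add_sum_filter_not _ _ _).symm
  have hbig : ∑ ψ ∈ cBigSL (F := F), (ψ : SL₂ → ℂ) 1 * (ψ : SL₂ → ℂ) (c : SL₂) =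
      ((Fintype.card F : ℂ) - 1) * (1 + (μ c : ℂ) ^ ((Fintype.card F + 1) / 2)) := by
    rw [← (torus_table hodd hC hcard μ hμ).2 c hc, Finset.mul_sum]
    refine Finset.sum_congr rfl fun ψ hψ => ?_
    rw [CharApps.deg_eq, deg_cBigSL hψ]
    push_cast [(by omega : 1 ≤ Fintype.card F)]
    ring
  rw [hP, hH, hC2, hbig, hset, Finset.sum_pair hne, CharApps.deg_eq χ, CharApps.deg_eq χ', hd', hval] at hreg
  have hst : (stSL : SL₂ → ℂ) (c : SL₂) = -1 := by
    rw [stSL, Pi.sub_apply, piSL_elliptic hodd 1 he, zero_sub]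
  simp only [Chars.principal_apply, show ((stIrrSL : IrrCharacter SL₂) : SL₂ → ℂ) = stSL from rfl, hst,
    stSL_one] at hreg
  have h3 : 2 * (charDegree (χ : SL₂ → ℂ) : ℂ) = (Fintype.card F : ℂ) - 1 := by
    have := congrArg (Nat.cast : ℕ → ℂ) hχd
    push_cast [(by omega : 1 ≤ Fintype.card F)] at this
    exact this
  have h4 : ((Fintype.card F : ℂ) - 1) ≠ 0 := sub_ne_zero.2 (by exact_mod_cast (by omega : Fintype.card F ≠ 1))
  refine mul_left_cancel₀ h4 ?_
  linear_combination hreg - (χ : SL₂ → ℂ) (c : SL₂) * h3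

/-- In the field of three elements the halves also have the cuspidal shape. -/
lemma exists_theta_of_three {χ : IrrCharacter SL₂} (hχ : χ ∈ hSetSL) (h3 : Fintype.card F = 3) :
    ∃ θ : C →* ℂˣ, (∃ c : C, θ c ^ 2 ≠ 1) ∧
      ∀ c : C, (c : SL₂) ∉ Subgroup.center SL₂ → (χ : SL₂ → ℂ) c = -((θ c).val + (θ c)⁻¹.val) := by
  obtain ⟨θ, hθ⟩ := exists_faithful hC hcard
  obtain ⟨g, hg⟩ := hC.exists_generator
  have ho : orderOf g = 4 := by rw [orderOf_eq_card_of_forall_mem_zpowers hg, hcard, h3]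
  refine ⟨θ, ⟨g, fun h => ?_⟩, fun c hc => ?_⟩
  · have := orderOf_dvd_of_pow_eq_one (x := g) (n := 2) (hθ (by rw [map_pow, h, map_one]))
    rw [ho] at this
    norm_num at this
  · have hc4 : c ^ 4 = 1 := by
      have := pow_card_eq_one' (x := c)
      rwa [hcard, h3] at this
    have hn2 : c ^ 2 ≠ 1 := fun h => hc (mem_center_of_sq hodd (by
      rw [← SubmonoidClass.coe_pow, h, OneMemClass.coe_one]))
    have hs : ((θ c : ℂˣ) : ℂ) ^ 2 = -1 := by
      have h4 : (((θ c : ℂˣ) : ℂ) ^ 2) * ((θ c : ℂˣ) : ℂ) ^ 2 = 1 := by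
        rw [← pow_add, ← Units.val_pow_eq_pow_val, ← map_pow, hc4, map_one, Units.val_one]
      exact (mul_self_eq_one_iff.1 h4).resolve_left fun h =>
        hn2 (hθ (by rw [map_pow, map_one]; exact Units.ext (by rw [Units.val_pow_eq_pow_val, h, Units.val_one])))
    have he := elliptic_of_mem hodd hcard c.2 hc
    obtain ⟨a, b, hab, hset, hp, ha, hb, hda, hdb⟩ := hSetSL_eq hodd
    obtain ⟨ν, hν⟩ := FiniteField.exists_nonsquare (ringChar_ne_two hodd)
    have hν0 : ν ≠ 0 := fun e => hν (by rw [e]; exact IsSquare.zero)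
    have hswap := half_comp_dConj hodd hab hp ha hda (Units.mk0 ν hν0) hν
    have hba : (b : SL₂ → ℂ) (c : SL₂) = (a : SL₂ → ℂ) (c : SL₂) := by
      rw [← hswap]
      exact apply_dConj_of_isNorm (Chars.isClassFunction_irr a) he.not_scalar _
        (norm_surj_odd (ringChar_ne_two hodd) (he.trace_sq_ne_four hodd) _)
    have h0 := congrFun hp (c : SL₂)
    rw [piSL_elliptic hodd _ he, Pi.add_apply, hba] at h0
    have hχ0 : (χ : SL₂ → ℂ) (c : SL₂) = 0 := by
      rw [hset, Finset.mem_insert, Finset.mem_singleton] at hχ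
      rcases hχ with rfl | rfl
      · linear_combination -h0 / 2
      · rw [hba]; linear_combination -h0 / 2
    rw [hχ0, Units.val_inv_eq_inv_val]
    have hne := (θ c).ne_zero
    field_simp
    linear_combination hs

omit hC hcard in
/-- The halves at split regular elements. -/
lemma half_apply_diag {χ : IrrCharacter SL₂} (hχ : χ ∈ hSetSL) (g : SL₂)
    (h01 : (g : Matrix (Fin 2) (Fin 2) F) 0 1 = 0) (h10 : (g : Matrix (Fin 2) (Fin 2) F) 1 0 = 0)
    (ha : (g : Matrix (Fin 2) (Fin 2) F) 0 0 ^ 2 ≠ 1) :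
    (χ : SL₂ → ℂ) g = etaC F ((g : Matrix (Fin 2) (Fin 2) F) 0 0) := by
  have hd : (g : Matrix (Fin 2) (Fin 2) F) 0 0 * (g : Matrix (Fin 2) (Fin 2) F) 1 1 = 1 :=
    diag_mul ⟨g, mem_borelSL.2 h10⟩
  have hns : ¬ IsScalar2 (g : Matrix (Fin 2) (Fin 2) F) := fun h => ha (by rw [sq]; nth_rewrite 2 [h.2.2]; exact hd)
  have ht : (g : Matrix (Fin 2) (Fin 2) F).trace ^ 2 ≠ 4 := fun e => ha (by
    rw [Matrix.trace_fin_two] at e
    have : ((g : Matrix (Fin 2) (Fin 2) F) 0 0 - (g : Matrix (Fin 2) (Fin 2) F) 1 1) *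
        ((g : Matrix (Fin 2) (Fin 2) F) 0 0 - (g : Matrix (Fin 2) (Fin 2) F) 1 1) = 0 := by
      linear_combination e - 4 * hd
    rw [sq]; nth_rewrite 2 [sub_eq_zero.1 (mul_self_eq_zero.1 this)]; exact hd)
  obtain ⟨a, b, hab, hset, hp, ha', hb', hda, hdb⟩ := hSetSL_eq hodd
  obtain ⟨ν, hν⟩ := FiniteField.exists_nonsquare (ringChar_ne_two hodd)
  have hν0 : ν ≠ 0 := fun e => hν (by rw [e]; exact IsSquare.zero)
  have hswap := half_comp_dConj hodd hab hp ha' hda (Units.mk0 ν hν0) hν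
  have hba : (b : SL₂ → ℂ) g = (a : SL₂ → ℂ) g := by
    rw [← hswap]
    exact apply_dConj_of_isNorm (Chars.isClassFunction_irr a) hns _ (norm_surj_odd (ringChar_ne_two hodd) ht _)
  have h0 := congrFun hp g
  rw [(Cfsg.Agent.S2433.result hodd (etaC F) g : _).1 h01 h10 ha |> fun h => show piSL (etaC F) g = _ from h,
    Pi.add_apply, hba, ← inv_eq_of_mul_eq_one_right hd] at h0
  have hinv : etaC F ((g : Matrix (Fin 2) (Fin 2) F) 0 0)⁻¹ = etaC F ((g : Matrix (Fin 2) (Fin 2) F) 0 0) := by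
    rw [← MulChar.inv_apply', etaC_inv]
  rw [hinv] at h0
  rw [hset, Finset.mem_insert, Finset.mem_singleton] at hχ
  rcases hχ with rfl | rfl
  · linear_combination -h0 / 2
  · rw [hba]; linear_combination -h0 / 2

end CfsgLib.CharsMore.TwoByTwo
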