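import Cfsg.Agent.Lib.CharsMore.TwoByTwo.Values
import Cfsg.Agent.Lib.CharApps.SLTwoDegrees
import Cfsg.Agent.Lib.Blocks.FullDefect

/-!
# Blocks of the special linear group of degree two in the defining characteristic
-/

set_option autoImplicit false
set_option linter.unusedSectionVars false
set_option linter.style.haveILetI false

namespace CfsgLib.CharsMore.TwoByTwo

open Cfsg CfsgLib.GLTwo CfsgLib.Blocks CfsgLib.BlockOrth

variable {F : Type*} [Field F] [Fintype F] [DecidableEq F] {p : ℕ} [Fact p.Prime] [CharP F p]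

local notation "SL₂" => Matrix.SpecialLinearGroup (Fin 2) F

lemma odd_card_of_charP (hp : p ≠ 2) : Odd (Fintype.card F) := by
  obtain ⟨n, -, hn⟩ := FiniteField.card F p
  rw [hn]
  exact ((Fact.out : p.Prime).odd_of_ne_two hp).pow

lemma not_dvd_card_pred : ¬ p ∣ Fintype.card F + 1 ∧ ¬ p ∣ Fintype.card F - 1 := by
  obtain ⟨n, -, hn⟩ := FiniteField.card F p
  have hd : p ∣ Fintype.card F := hn ▸ dvd_pow_self p n.pos.ne'
  have h1 := (Fact.out : p.Prime).not_dvd_one
  refine ⟨fun h => h1 ((Nat.dvd_add_right hd).1 h), fun h => h1 ?_⟩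
  have h2 := Nat.dvd_sub hd h
  rwa [show Fintype.card F - (Fintype.card F - 1) = 1 by have := Fintype.card_pos (α := F); omega] at h2

lemma factorization_card_sl : (Nat.card SL₂).factorization p = (Fintype.card F).factorization p := by
  have h1 : Fintype.card F ^ 2 - 1 = (Fintype.card F + 1) * (Fintype.card F - 1) := by
    simpa using Nat.sq_sub_sq (Fintype.card F) 1
  have hq : 1 < Fintype.card F := Fintype.one_lt_card
  rw [card_sl, h1, Nat.factorization_mul (by omega) (Nat.mul_ne_zero (by omega) (by omega)),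
    Nat.factorization_mul (by omega) (by omega), Finsupp.add_apply, Finsupp.add_apply,
    Nat.factorization_eq_zero_of_not_dvd not_dvd_card_pred.1,
    Nat.factorization_eq_zero_of_not_dvd not_dvd_card_pred.2]
  rfl

variable (hp : p ≠ 2)
include hp

lemma neg_one_eq : (-1 : SL₂) = SLTwoDegrees.negOne :=
  Subtype.ext (by simp [SLTwoDegrees.coe_negOne])

/-- A regular element centralizing a Sylow subgroup is central. -/
lemma central_of_regular_centralizes (P : Sylow p SL₂) {g : SL₂} (hg : ¬ p ∣ orderOf g)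
    (hc : g ∈ Subgroup.centralizer ((P : Subgroup SL₂) : Set SL₂)) : g ∈ Subgroup.center SL₂ := by
  have hodd := odd_card_of_charP (F := F) hp
  by_cases hs : IsScalar2 (g : Matrix (Fin 2) (Fin 2) F)
  · exact mem_center_sl.2 hs
  obtain ⟨x, hxP, hx1⟩ : ∃ x ∈ (P : Subgroup SL₂), x ≠ 1 := by
    by_contra! h
    have h1 : (P : Subgroup SL₂) = ⊥ := (Subgroup.eq_bot_iff_forall _).2 h
    have h2 := P.card_eq_multiplicity
    rw [h1, Subgroup.card_bot, factorization_card_sl] at h2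
    obtain ⟨n, -, hn⟩ := FiniteField.card F p
    rw [hn, (Fact.out : p.Prime).factorization_pow, Finsupp.single_eq_same] at h2
    exact absurd h2.symm (Nat.one_lt_pow n.pos.ne' (Fact.out : p.Prime).one_lt).ne'
  have hcomm : x * g = g * x := Subgroup.mem_centralizer_iff.1 hc x hxP
  obtain ⟨a, b, hab⟩ := eq_add_smul_of_comm hs (congrArg Subtype.val hcomm)
  obtain ⟨k, hk⟩ := (IsPGroup.iff_orderOf.1 P.isPGroup') ⟨x, hxP⟩
  have hxk : ((x : SL₂) : Matrix (Fin 2) (Fin 2) F) ^ p ^ k = 1 := by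
    rw [← Matrix.SpecialLinearGroup.coe_pow, ← hk, Subgroup.orderOf_mk, pow_orderOf_eq_one,
      Matrix.SpecialLinearGroup.coe_one]
  have hb : b ≠ 0 := fun hb => by
    refine hx1 ?_
    have hsx : x ∈ Subgroup.center SL₂ := mem_center_sl.2 (by rw [hab, hb, zero_smul, add_zero]; exact isScalar2_smul_one a)
    rcases center_eq_or hsx with h | h
    · exact h
    · exfalso
      have h2 : orderOf x ∣ 2 := orderOf_dvd_of_pow_eq_one (by
        rw [h, sq]
        refine Subtype.ext ?_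
        rw [Matrix.SpecialLinearGroup.coe_mul, coe_negOne, Matrix.SpecialLinearGroup.coe_one]
        ext i j
        fin_cases i <;> fin_cases j <;> simp [Matrix.mul_apply, Fin.sum_univ_two])
      rw [← Subgroup.orderOf_mk x hxP, hk] at h2
      have hk0 : k = 0 := by
        by_contra hk0
        exact hp ((Nat.prime_dvd_prime_iff_eq Fact.out Nat.prime_two).1 ((dvd_pow_self p hk0).trans h2))
      rw [hk0, pow_zero, Subgroup.orderOf_mk, orderOf_eq_one_iff] at hk
      exact hx1 hk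
  have hgx : (g : Matrix (Fin 2) (Fin 2) F) =
      (-(a / b)) • (1 : Matrix (Fin 2) (Fin 2) F) + b⁻¹ • (x : Matrix (Fin 2) (Fin 2) F) := by
    rw [hab, smul_add, smul_smul, smul_smul, inv_mul_cancel₀ hb, one_smul, ← add_assoc, ← add_smul,
      show -(a / b) + b⁻¹ * a = 0 by ring, zero_smul, zero_add]
  have hgk : IsScalar2 ((g ^ p ^ k : SL₂) : Matrix (Fin 2) (Fin 2) F) := by
    rw [Matrix.SpecialLinearGroup.coe_pow, hgx, add_pow_char_pow_of_commute p k
      (((Commute.one_left _).smul_left _).smul_right _), smul_pow, smul_pow, one_pow, hxk, ← add_smul]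
    exact isScalar2_smul_one _
  have h2 : (g ^ p ^ k) ^ 2 = 1 := by
    rcases center_eq_or (mem_center_sl.2 hgk) with h | h
    · rw [h, one_pow]
    · rw [h, sq]
      refine Subtype.ext ?_
      rw [Matrix.SpecialLinearGroup.coe_mul, coe_negOne, Matrix.SpecialLinearGroup.coe_one]
      ext i j
      fin_cases i <;> fin_cases j <;> simp [Matrix.mul_apply, Fin.sum_univ_two]
  refine mem_center_of_sq hodd (orderOf_dvd_iff_pow_eq_one.1 ?_)
  rw [← pow_mul] at h2
  exact (((Nat.Prime.coprime_iff_not_dvd Fact.out).2 hg).pow_left k).symm.dvd_of_dvd_mul_left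
    (orderOf_dvd_of_pow_eq_one h2)

variable {M : Ideal AlgInt} [M.IsPrime] (hpM : (p : AlgInt) ∈ M)
include hpM

lemma blockOf_of_deg_eq {χ : IrrCharacter SL₂} (h : (χ : SL₂ → ℂ) 1 = (Fintype.card F : ℂ)) :
    blockOf M (χ : SL₂ → ℂ) = {ψ : IrrCharacter SL₂ | (ψ : SL₂ → ℂ) 1 = (Fintype.card F : ℂ)} := by
  ext ψ
  rw [mem_blockOf, Set.mem_ofPred_eq]
  refine ⟨fun hψ => ?_, fun hψ => ?_⟩
  · rw [← h]
    refine eq_on_regular_of_relative_defect_zero (p := p) hpM IsPGroup.of_bot bot_le ?_ hψ ?_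
    · rw [degVal, deg_eq_of_val h, Subgroup.index_bot, factorization_card_sl]
    · rw [orderOf_one]; exact (Fact.out : p.Prime).not_dvd_one
  · rw [Subtype.ext ((eq_stSL h).trans (eq_stSL hψ).symm) (a1 := χ) (a2 := ψ)]
    exact mem_blockOf.1 (mem_blockOf_self ψ)

lemma isDefectGroup_of_deg_ne {χ : IrrCharacter SL₂} (h : (χ : SL₂ → ℂ) 1 ≠ (Fintype.card F : ℂ))
    (P : Sylow p SL₂) : IsDefectGroup p M (blockOf M (χ : SL₂ → ℂ)) (P : Subgroup SL₂) := by
  have hodd := odd_card_of_charP (F := F) hp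
  have hB := isPBlock_blockOf (M := M) χ
  have hd : degVal p χ = 0 := by
    refine Nat.factorization_eq_zero_of_not_dvd fun hd => ?_
    rcases SLTwoDegrees.degree_cases hodd χ with e | e | e | e
    · rw [e] at hd; exact (Fact.out : p.Prime).not_dvd_one hd
    · exact h (by rw [CharApps.deg_eq, e])
    · exact not_dvd_card_pred.1 (hd.trans e)
    · exact not_dvd_card_pred.2 (hd.trans e)
  obtain ⟨D, hD⟩ := exists_isDefectGroup (p := p) hB
  have h1 := blockMin_le (p := p) (mem_blockOf_self (M := M) χ)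
  have h2 := blockMin_add_blockDefect (p := p) (IsPBlock.nonempty hB)
  have hcard : Nat.card D = p ^ (Nat.card SL₂).factorization p := by
    rw [card_defectGroup hpM hB hD]
    congr 1
    omega
  obtain ⟨g, hg⟩ := MulAction.exists_smul_eq SL₂ (Sylow.ofCard D hcard) P
  rw [← hg, Sylow.coe_subgroup_smul]
  exact IsDefectGroup.map_conj hD g hB

lemma sign_eq_of_sameBlock {χ ψ : IrrCharacter SL₂} (h : SameBlock M (χ : SL₂ → ℂ) (ψ : SL₂ → ℂ))
    (h1 : (χ : SL₂ → ℂ) SLTwoDegrees.negOne = (χ : SL₂ → ℂ) 1)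
    (h2 : (ψ : SL₂ → ℂ) SLTwoDegrees.negOne = -(ψ : SL₂ → ℂ) 1) : False := by
  have hc : Subgroup.centralizer ({SLTwoDegrees.negOne} : Set SL₂) = ⊤ :=
    Subgroup.centralizer_eq_top_iff_subset.2 (Set.singleton_subset_iff.2 SLTwoDegrees.negOne_mem_center)
  have := h SLTwoDegrees.negOne
  rw [centralChar, centralChar, hc, Subgroup.index_top, Nat.cast_one, one_mul, one_mul, h1, h2,
    div_self (CharApps.deg_ne_zero χ), neg_div, div_self (CharApps.deg_ne_zero ψ), sub_neg_eq_add,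
    one_add_one_eq_two, show (2 : ℂ) = ((2 : ℕ) : ℂ) by norm_num, memLocalIdeal_natCast_iff Fact.out hpM] at this
  exact hp ((Nat.prime_dvd_prime_iff_eq Fact.out Nat.prime_two).1 this)

lemma card_blocks_full (P : Sylow p SL₂) :
    Nat.card {B : Set (IrrCharacter SL₂) // IsPBlock M B ∧ IsDefectGroup p M B (P : Subgroup SL₂)} = 2 := by
  have hodd := odd_card_of_charP (F := F) hp
  rw [card_blocks_sylow_defect hpM P]
  set N := Subgroup.normalizer ((P : Subgroup SL₂) : Set SL₂)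
  have hzN : ∀ z : SL₂, z ∈ Subgroup.center SL₂ → z ∈ N := fun z hz =>
    Subgroup.mem_normalizer_iff.2 fun y => by
      rw [← Subgroup.mem_center_iff.1 hz y, mul_inv_cancel_right]
  have hmem : ∀ z : SL₂, z ∈ Subgroup.center SL₂ → z ^ 2 = 1 := fun z hz => by
    rcases center_eq_or hz with rfl | rfl
    · exact one_pow 2
    · rw [sq]
      refine Subtype.ext ?_
      rw [Matrix.SpecialLinearGroup.coe_mul, coe_negOne, Matrix.SpecialLinearGroup.coe_one]
      ext i j
      fin_cases i <;> fin_cases j <;> simp [Matrix.mul_apply, Fin.sum_univ_two]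
  let z : N := ⟨negOne F, hzN _ negOne_mem_center⟩
  have hne : ConjClasses.mk (1 : N) ≠ ConjClasses.mk z := fun h => by
    have := isConj_one_right.1 (ConjClasses.mk_eq_mk_iff_isConj.1 h)
    exact one_ne_negOne hodd (congrArg Subtype.val this).symm
  have hgood : ∀ m : N, (m : SL₂) ∈ Subgroup.center SL₂ → ∀ n : N, ConjClasses.mk n = ConjClasses.mk m →
      ¬ p ∣ orderOf n ∧ (n : SL₂) ∈ Subgroup.centralizer ((P : Subgroup SL₂) : Set SL₂) := by
    intro m hm n hn
    obtain ⟨c, hc⟩ := isConj_iff.1 (ConjClasses.mk_eq_mk_iff_isConj.1 hn)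
    have hn' : (n : SL₂) ∈ Subgroup.center SL₂ := by
      have e : n = c⁻¹ * m * c := by rw [← hc]; group
      rw [e, Subgroup.coe_mul, Subgroup.coe_mul, Subgroup.coe_inv, mul_assoc,
        ← Subgroup.mem_center_iff.1 hm (c : SL₂), inv_mul_cancel_left]
      exact hm
    refine ⟨fun h => hp ?_, Subgroup.center_le_centralizer _ hn'⟩
    have h2 := orderOf_dvd_of_pow_eq_one (hmem _ hn')
    rw [Subgroup.orderOf_coe] at h2
    exact (Nat.prime_dvd_prime_iff_eq Fact.out Nat.prime_two).1 (h.trans h2)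
  refine Nat.card_eq_two_iff.2 ⟨⟨ConjClasses.mk 1, hgood 1 (Subgroup.one_mem _)⟩,
    ⟨ConjClasses.mk z, hgood z negOne_mem_center⟩, fun h => hne (congrArg Subtype.val h), ?_⟩
  refine Set.eq_univ_of_forall fun C => ?_
  obtain ⟨C, hC⟩ := C
  obtain ⟨n, rfl⟩ := ConjClasses.mk_surjective C
  obtain ⟨h1, h2⟩ := hC n rfl
  rw [← Subgroup.orderOf_coe] at h1
  simp only [Set.mem_insert_iff, Set.mem_singleton_iff]
  rcases center_eq_or (central_of_regular_centralizes hp P h1 h2) with h | h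
  · exact Or.inl (Subtype.ext (congrArg ConjClasses.mk (Subtype.ext h : n = 1)))
  · exact Or.inr (Subtype.ext (congrArg ConjClasses.mk (Subtype.ext h : n = z)))

/-- The three blocks. -/
theorem sl_blocks_defining :
    (∀ B : Set (IrrCharacter SL₂), IsPBlock M B ↔
      (B = {χ : IrrCharacter SL₂ | (χ : SL₂ → ℂ) 1 = (Fintype.card F : ℂ)} ∨
       B = {χ : IrrCharacter SL₂ | (χ : SL₂ → ℂ) (-1) = (χ : SL₂ → ℂ) 1 ∧ (χ : SL₂ → ℂ) 1 ≠ (Fintype.card F : ℂ)} ∨
       B = {χ : IrrCharacter SL₂ | (χ : SL₂ → ℂ) (-1) = -(χ : SL₂ → ℂ) 1})) ∧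
    Nat.card {B : Set (IrrCharacter SL₂) // IsPBlock M B} = 3 ∧
    ∀ P : Sylow p SL₂,
      IsDefectGroup p M {χ : IrrCharacter SL₂ | (χ : SL₂ → ℂ) (-1) = (χ : SL₂ → ℂ) 1 ∧ (χ : SL₂ → ℂ) 1 ≠ (Fintype.card F : ℂ)} (P : Subgroup SL₂) ∧
      IsDefectGroup p M {χ : IrrCharacter SL₂ | (χ : SL₂ → ℂ) (-1) = -(χ : SL₂ → ℂ) 1} (P : Subgroup SL₂) := by
  classical
  have hodd := odd_card_of_charP (F := F) hp
  have hq : 1 < Fintype.card F := Fintype.one_lt_card
  simp only [neg_one_eq hp]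
  set z : SL₂ := SLTwoDegrees.negOne with hz
  set q : ℂ := (Fintype.card F : ℂ)
  have hsign : ∀ χ : IrrCharacter SL₂, (χ : SL₂ → ℂ) z = (χ : SL₂ → ℂ) 1 ∨ (χ : SL₂ → ℂ) z = -(χ : SL₂ → ℂ) 1 := by
    intro χ
    obtain ⟨s, hs, h⟩ := SLTwoDegrees.exists_sign SLTwoDegrees.negOne_mem_center SLTwoDegrees.negOne_mul_self χ
    have := h 1
    rw [one_mul] at this
    rcases hs with rfl | rfl
    · exact Or.inl (by rw [hz, this, one_mul])
    · exact Or.inr (by rw [hz, this, neg_one_mul])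
  have hself : ∀ χ : IrrCharacter SL₂, (χ : SL₂ → ℂ) z = (χ : SL₂ → ℂ) 1 → (χ : SL₂ → ℂ) z ≠ -(χ : SL₂ → ℂ) 1 :=
    fun χ h1 h2 => sign_eq_of_sameBlock hp hpM (mem_blockOf.1 (mem_blockOf_self (M := M) χ)) h1 h2
  have hstq : ((stIrrSL : IrrCharacter SL₂) : SL₂ → ℂ) 1 = q := stSL_one
  have hstz := SLTwoDegrees.stIrrSL_negOne (F := F)
  let χ₀ : IrrCharacter SL₂ := Chars.principal SL₂
  have h0z : (χ₀ : SL₂ → ℂ) z = (χ₀ : SL₂ → ℂ) 1 := rfl
  have h0q : (χ₀ : SL₂ → ℂ) 1 ≠ q := by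
    show (1 : ℂ) ≠ (Fintype.card F : ℂ)
    exact_mod_cast hq.ne
  obtain ⟨χ₁, h1z⟩ : ∃ χ : IrrCharacter SL₂, (χ : SL₂ → ℂ) z = -(χ : SL₂ → ℂ) 1 := by
    by_contra! hn
    haveI := Chars.irrFintype SL₂
    have hne : z ≠ 1 := fun e => one_ne_negOne hodd (Subtype.ext (by
      have e' := congrArg Subtype.val e
      rw [hz, SLTwoDegrees.coe_negOne, Matrix.SpecialLinearGroup.coe_one] at e'
      rw [coe_negOne, Matrix.SpecialLinearGroup.coe_one, ← e']
      ext i j
      fin_cases i <;> fin_cases j <;> simp))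
    have h := Chars.sum_degree_mul (G := SL₂) z
    rw [if_neg hne, Finset.sum_congr rfl fun χ _ => by
      rw [(hsign χ).resolve_right (hn χ), CharApps.deg_eq, ← Nat.cast_mul], ← Nat.cast_sum, Nat.cast_eq_zero,
      Finset.sum_eq_zero_iff] at h
    exact CharApps.deg_pos χ₀ |>.ne' (mul_self_eq_zero.1 (h χ₀ (Finset.mem_univ _)))
  have h1q : (χ₁ : SL₂ → ℂ) 1 ≠ q := fun h => by
    have e : χ₁ = stIrrSL := Subtype.ext (eq_stSL h)
    subst e
    exact hself _ (hstz hodd) h1z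
  obtain ⟨P₀⟩ : Nonempty (Sylow p SL₂) := inferInstance
  set Bp := blockOf M (χ₀ : SL₂ → ℂ) with hBp
  set Bm := blockOf M (χ₁ : SL₂ → ℂ) with hBm
  set Bs := blockOf M ((stIrrSL : IrrCharacter SL₂) : SL₂ → ℂ) with hBs
  have hBsS : Bs = {χ : IrrCharacter SL₂ | (χ : SL₂ → ℂ) 1 = q} := blockOf_of_deg_eq hp hpM hstq
  have hne : Bp ≠ Bm := fun e => by
    have := mem_blockOf.1 (show χ₁ ∈ Bp from e ▸ mem_blockOf_self χ₁)
    exact sign_eq_of_sameBlock hp hpM this h0z h1z
  have hall : ∀ χ : IrrCharacter SL₂, (χ : SL₂ → ℂ) 1 ≠ q →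
      blockOf M (χ : SL₂ → ℂ) = Bp ∨ blockOf M (χ : SL₂ → ℂ) = Bm := by
    intro χ hχ
    obtain ⟨x, y, -, hxy⟩ := Nat.card_eq_two_iff.1 (card_blocks_full hp hpM P₀)
    have hcase : ∀ w : {B : Set (IrrCharacter SL₂) // IsPBlock M B ∧ IsDefectGroup p M B (P₀ : Subgroup SL₂)},
        w = x ∨ w = y := fun w => by
      have := hxy ▸ Set.mem_univ w
      simpa using this
    rcases hcase ⟨_, isPBlock_blockOf χ, isDefectGroup_of_deg_ne hp hpM hχ P₀⟩ with e | e <;>
      rcases hcase ⟨_, isPBlock_blockOf χ₀, isDefectGroup_of_deg_ne hp hpM h0q P₀⟩ with e' | e' <;>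
      rcases hcase ⟨_, isPBlock_blockOf χ₁, isDefectGroup_of_deg_ne hp hpM h1q P₀⟩ with e'' | e''
    all_goals first
      | exact Or.inl (congrArg Subtype.val (e.trans e'.symm))
      | exact Or.inr (congrArg Subtype.val (e.trans e''.symm))
      | exact absurd (congrArg Subtype.val (e'.trans e''.symm)) hne
  have hBpS : Bp = {χ : IrrCharacter SL₂ | (χ : SL₂ → ℂ) z = (χ : SL₂ → ℂ) 1 ∧ (χ : SL₂ → ℂ) 1 ≠ q} := by
    ext χ
    refine ⟨fun h => ⟨?_, fun hq' => h0q ?_⟩, fun ⟨h1, h2⟩ => ?_⟩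
    · exact (hsign χ).resolve_right fun hm => sign_eq_of_sameBlock hp hpM (mem_blockOf.1 h) h0z hm
    · have e := IsPBlock.eq_blockOf (isPBlock_blockOf (M := M) χ₀) h
      rw [blockOf_of_deg_eq hp hpM hq'] at e
      exact (Set.ext_iff.1 e χ₀).1 (mem_blockOf_self χ₀)
    · rcases hall χ h2 with e | e
      · exact e ▸ mem_blockOf_self χ
      · have : χ₁ ∈ blockOf M (χ : SL₂ → ℂ) := e ▸ mem_blockOf_self χ₁
        exact (sign_eq_of_sameBlock hp hpM (mem_blockOf.1 this) h1 h1z).elim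
  have hBmS : Bm = {χ : IrrCharacter SL₂ | (χ : SL₂ → ℂ) z = -(χ : SL₂ → ℂ) 1} := by
    ext χ
    refine ⟨fun h => (hsign χ).resolve_left fun hm => ?_, fun h => ?_⟩
    · have e := IsPBlock.eq_blockOf (isPBlock_blockOf (M := M) χ₁) h
      exact sign_eq_of_sameBlock hp hpM (mem_blockOf.1 ((Set.ext_iff.1 e χ₁).1 (mem_blockOf_self χ₁))) hm h1z
    · have h2 : (χ : SL₂ → ℂ) 1 ≠ q := fun h' => by
        have e : χ = stIrrSL := Subtype.ext (eq_stSL h')
        subst e
        exact hself _ (hstz hodd) h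
      rcases hall χ h2 with e | e
      · have : χ ∈ Bp := e ▸ mem_blockOf_self χ
        rw [hBpS] at this
        exact absurd h (hself χ this.1)
      · exact e ▸ mem_blockOf_self χ
  rw [← hBpS, ← hBmS, ← hBsS]
  have hiff : ∀ B : Set (IrrCharacter SL₂), IsPBlock M B ↔ B = Bs ∨ B = Bp ∨ B = Bm := by
    refine fun B => ⟨fun hB => ?_, ?_⟩
    · obtain ⟨χ, rfl⟩ := hB
      by_cases hχ : (χ : SL₂ → ℂ) 1 = q
      · exact Or.inl ((blockOf_of_deg_eq hp hpM hχ).trans hBsS.symm)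
      · exact Or.inr (hall χ hχ)
    · rintro (rfl | rfl | rfl) <;> exact isPBlock_blockOf _
  refine ⟨hiff, ?_, fun P => ⟨isDefectGroup_of_deg_ne hp hpM h0q P, isDefectGroup_of_deg_ne hp hpM h1q P⟩⟩
  have hsp : Bs ≠ Bp := fun e => h0q (by
    have : χ₀ ∈ Bs := e ▸ mem_blockOf_self χ₀
    rw [hBsS] at this; exact this)
  have hsm : Bs ≠ Bm := fun e => h1q (by
    have : χ₁ ∈ Bs := e ▸ mem_blockOf_self χ₁
    rw [hBsS] at this; exact this)
  rw [Nat.card_congr (Equiv.subtypeEquivRight (q := fun B => B ∈ ({Bs, Bp, Bm} : Finset (Set (IrrCharacter SL₂))))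
    fun B => by simp [hiff]), Nat.card_eq_fintype_card, Fintype.card_coe]
  simp [hsp, hsm, hne]

end CfsgLib.CharsMore.TwoByTwo
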