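import Cfsg.Agent.Lib.CharsMore.TwoByTwo.Basic
import Cfsg.Agent.Lib.Classical.Order
import Cfsg.Agent.S2330

/-!
# The irreducible characters of the general linear group of degree two
-/

set_option autoImplicit false
set_option linter.unusedSectionVars false
set_option linter.style.haveILetI false

namespace CfsgLib.CharsMore.TwoByTwo

open Cfsg CfsgLib.GLTwo
open CfsgLib.Involutions.PrincipalSeries (mem_upper borelChar borelChar_apply inner_gl)
open scoped ComplexConjugate

variable {F : Type*} [Field F] [Fintype F] [DecidableEq F]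

noncomputable local instance : Fintype ↥(upperTriangularGL 2 F) := Fintype.ofFinite _
noncomputable local instance : DecidableEq (MulChar F ℂ) := _root_.Classical.decEq _

/-- The principal series function of the general linear group. -/
noncomputable def piGL (α β : MulChar F ℂ) : GL (Fin 2) F → ℂ :=
  indFun (upperTriangularGL 2 F) fun b => α (((b : GL (Fin 2) F) : Matrix (Fin 2) (Fin 2) F) 0 0) *
    β (((b : GL (Fin 2) F) : Matrix (Fin 2) (Fin 2) F) 1 1)

/-- A multiplicative character composed with the determinant. -/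
noncomputable def detHom (α : MulChar F ℂ) : GL (Fin 2) F →* ℂˣ :=
  α.toUnitHom.comp Matrix.GeneralLinearGroup.det

/-- The linear character of the general linear group attached to `α`. -/
noncomputable def detChar (α : MulChar F ℂ) : GL (Fin 2) F → ℂ := fun g => (detHom α g : ℂ)

lemma detChar_apply (α : MulChar F ℂ) (g : GL (Fin 2) F) :
    detChar α g = α (g : Matrix (Fin 2) (Fin 2) F).det := by
  simp [detChar, detHom]

/-- The twisted Steinberg function. -/
noncomputable def stGL (α : MulChar F ℂ) : GL (Fin 2) F → ℂ := piGL α α - detChar α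

/-- The upper unitriangular element with corner `x`. -/
noncomputable def uGL (x : F) : GL (Fin 2) F :=
  Matrix.GeneralLinearGroup.mkOfDetNeZero !![1, x; 0, 1] (by simp [Matrix.det_fin_two])

lemma coe_uGL (x : F) : (uGL x : Matrix (Fin 2) (Fin 2) F) = !![1, x; 0, 1] := rfl

lemma uGL_zero : (uGL 0 : GL (Fin 2) F) = 1 := by
  refine Units.ext ?_
  rw [coe_uGL, Units.val_one, ← Matrix.one_fin_two]

lemma uGL_mul (x y : F) : uGL x * uGL y = uGL (x + y) := by
  refine Units.ext ?_
  ext i j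
  fin_cases i <;> fin_cases j <;> simp [coe_uGL, Matrix.mul_apply, Fin.sum_univ_two, add_comm]

/-- The sum of a function over the upper unitriangular subgroup. -/
noncomputable def uSumGL (χ : GL (Fin 2) F → ℂ) : ℂ := ∑ x : F, χ (uGL x)

lemma index_upper : (upperTriangularGL 2 F).index = Fintype.card F + 1 := by
  rw [Subgroup.index, ← Nat.card_congr (Equiv.ofBijective _ (lineCoset_bijective (F := F))),
    Nat.card_eq_fintype_card, Fintype.card_option]

lemma card_gl : Nat.card (GL (Fin 2) F) =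
    (Fintype.card F ^ 2 - 1) * (Fintype.card F ^ 2 - Fintype.card F) := by
  rw [Matrix.card_GL_field, Fin.prod_univ_two]
  simp

lemma card_upper : (Nat.card (upperTriangularGL 2 F) : ℂ) =
    (Fintype.card F : ℂ) * ((Fintype.card F : ℂ) - 1) ^ 2 := by
  have h := (upperTriangularGL 2 F).card_mul_index
  rw [index_upper, card_gl] at h
  have h1 : 1 < Fintype.card F := Fintype.one_lt_card
  have hc := congrArg (Nat.cast : ℕ → ℂ) h
  have h3 : 1 ≤ Fintype.card F ^ 2 := Nat.one_le_pow _ _ (by omega)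
  have h4 : Fintype.card F ≤ Fintype.card F ^ 2 := Nat.le_self_pow two_ne_zero _
  push_cast [Nat.cast_sub h3, Nat.cast_sub h4] at hc
  have h2 : ((Fintype.card F : ℂ) + 1) ≠ 0 := by exact_mod_cast Nat.succ_ne_zero (Fintype.card F)
  exact mul_right_cancel₀ h2 (hc.trans (by ring))

lemma isChar_piGL (α β : MulChar F ℂ) : IsCharacter (GL (Fin 2) F) (piGL α β) := by
  rw [piGL]
  refine Chars.isCharacter_indFun _ ?_
  have := Chars.isCharacter_of_irr (Chars.isIrrCharacter_linear (borelChar α β))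
  simpa only [borelChar_apply] using this

lemma piGL_one (α β : MulChar F ℂ) : piGL α β 1 = (Fintype.card F : ℂ) + 1 := by
  rw [piGL, Chars.indFun_one_apply, index_upper]
  simp

lemma inner_piGL (α β α' β' : MulChar F ℂ) : classInner (piGL α β) (piGL α' β') =
    (if α = α' ∧ β = β' then 1 else 0) + (if α = β' ∧ β = α' then 1 else 0) :=
  inner_gl α β α' β'

lemma isIrr_piGL {α β : MulChar F ℂ} (h : α ≠ β) : IsIrrCharacter (GL (Fin 2) F) (piGL α β) :=
  CharApps.isIrr_of_inner_self (isChar_piGL α β) (by simp [inner_piGL, h])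

lemma isIrr_detChar (α : MulChar F ℂ) : IsIrrCharacter (GL (Fin 2) F) (detChar α) :=
  Chars.isIrrCharacter_linear _

lemma detChar_one (α : MulChar F ℂ) : detChar α 1 = 1 := by simp [detChar]

lemma inner_piGL_detChar (α : MulChar F ℂ) : classInner (piGL α α) (detChar α) = 1 := by
  rw [piGL, Chars.inner_indFun _ _ (Chars.isClassFunction_of_isCharacter
    (Chars.isCharacter_of_irr (isIrr_detChar α)))]
  have h1 := Chars.inner_irr_self ⟨_, Chars.isIrrCharacter_linear (borelChar α α)⟩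
  simp only [borelChar_apply] at h1
  convert h1 using 3 with b
  rw [detChar_apply, Matrix.det_fin_two, mem_upper.1 b.2, mul_zero, sub_zero, map_mul]

lemma isIrr_stGL (α : MulChar F ℂ) : IsIrrCharacter (GL (Fin 2) F) (stGL α) := by
  refine Chars.irr_of_norm_one ⟨_, _, isChar_piGL α α, Chars.isCharacter_of_irr (isIrr_detChar α), rfl⟩
    ?_ ?_
  · rw [stGL, Chars.inner_sub_left, Chars.inner_sub_right, Chars.inner_sub_right, inner_piGL,
      inner_piGL_detChar, Chars.inner_irr_self ⟨_, isIrr_detChar α⟩,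
      ← inner_nat_comm (isChar_piGL α α) (Chars.isCharacter_of_irr (isIrr_detChar α)), inner_piGL_detChar]
    simp
  · simp [stGL, piGL_one, detChar_one]

lemma stGL_one (α : MulChar F ℂ) : stGL α 1 = (Fintype.card F : ℂ) := by
  simp [stGL, piGL_one, detChar_one]

lemma uSumGL_eq {χ : GL (Fin 2) F → ℂ} (hχ : IsClassFunction (GL (Fin 2) F) χ) :
    uSumGL χ = (Fintype.card F : ℂ) * ∑ p : MulChar F ℂ × MulChar F ℂ, classInner χ (piGL p.1 p.2) := by
  classical
  have hd := fun b : ↥(upperTriangularGL 2 F) => CfsgLib.Involutions.PrincipalSeries.diag_ne_zero b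
  have h1 : 1 < Fintype.card F := Fintype.one_lt_card
  have hq1 : ((Fintype.card F : ℂ) - 1) ≠ 0 := sub_ne_zero.2 (by exact_mod_cast (by omega : Fintype.card F ≠ 1))
  have hqc : ((Fintype.card F - 1 : ℕ) : ℂ) = (Fintype.card F : ℂ) - 1 := by push_cast [h1.le]; rfl
  have hq0 : (Fintype.card F : ℂ) ≠ 0 := by exact_mod_cast (by omega : Fintype.card F ≠ 0)
  let δ : F → ℂ := fun a => if a = 1 then (Fintype.card F : ℂ) - 1 else 0
  have hδ : ∀ {a : F}, a ≠ 0 → ∑ α : MulChar F ℂ, conj (α a) = δ a := by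
    intro a ha
    rw [← map_sum, sum_mulChar_apply ha]
    simp only [δ]
    split_ifs <;> simp [hqc]
  have e1 : ∑ p : MulChar F ℂ × MulChar F ℂ, classInner χ (piGL p.1 p.2) =
      (Nat.card (upperTriangularGL 2 F) : ℂ)⁻¹ * ∑ b : ↥(upperTriangularGL 2 F), χ b *
        (δ (((b : GL (Fin 2) F) : Matrix (Fin 2) (Fin 2) F) 0 0) *
          δ (((b : GL (Fin 2) F) : Matrix (Fin 2) (Fin 2) F) 1 1)) := by
    simp only [piGL, Chars.inner_indFun_right _ _ hχ, Chars.inner_def]
    rw [← Finset.mul_sum, Finset.sum_comm]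
    refine congrArg₂ (· * ·) rfl (Finset.sum_congr rfl fun b _ => ?_)
    rw [← Finset.mul_sum]
    refine congrArg₂ (· * ·) rfl ?_
    simp only [map_mul, Fintype.sum_prod_type]
    rw [← Finset.sum_mul_sum, hδ (hd b).1, hδ (hd b).2]
  have e2 : ∑ b : ↥(upperTriangularGL 2 F), χ b *
        (δ (((b : GL (Fin 2) F) : Matrix (Fin 2) (Fin 2) F) 0 0) *
          δ (((b : GL (Fin 2) F) : Matrix (Fin 2) (Fin 2) F) 1 1)) =
      ((Fintype.card F : ℂ) - 1) ^ 2 * uSumGL χ := by
    rw [uSumGL, Finset.mul_sum]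
    symm
    refine Finset.sum_bij_ne_zero (fun x _ _ => ⟨uGL x, mem_upper.2 rfl⟩) (fun _ _ _ => Finset.mem_univ _)
      (fun x _ _ y _ _ h => ?_) (fun b _ hb => ?_) (fun x _ _ => ?_)
    · simpa [coe_uGL] using congrArg (fun b : ↥(upperTriangularGL 2 F) =>
        ((b : GL (Fin 2) F) : Matrix (Fin 2) (Fin 2) F) 0 1) h
    · have h00 : ((b : GL (Fin 2) F) : Matrix (Fin 2) (Fin 2) F) 0 0 = 1 := by
        by_contra h; simp [δ, h] at hb
      have h11 : ((b : GL (Fin 2) F) : Matrix (Fin 2) (Fin 2) F) 1 1 = 1 := by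
        by_contra h; simp [δ, h] at hb
      have hub : b = (⟨uGL (((b : GL (Fin 2) F) : Matrix (Fin 2) (Fin 2) F) 0 1), mem_upper.2 rfl⟩ :
          ↥(upperTriangularGL 2 F)) := by
        refine Subtype.ext (Units.ext ?_)
        ext i j
        fin_cases i <;> fin_cases j <;> simp [coe_uGL, h00, h11, mem_upper.1 b.2]
      refine ⟨_, Finset.mem_univ _, ?_, hub.symm⟩
      rw [hub] at hb
      simp [δ, coe_uGL] at hb ⊢
      tauto
    · simp [δ, coe_uGL]; ring
  rw [e1, e2, card_upper]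
  field_simp

lemma isConj_uGL {x : F} (hx : x ≠ 0) : IsConj (uGL x) (uGL (1 : F)) := by
  refine gl_isConj_of_trace_det ?_ ?_ ?_ ?_ <;>
    simp [coe_uGL, IsScalar2, Matrix.trace_fin_two, Matrix.det_fin_two, hx]

lemma classFun_apply_of_isConj {G : Type*} [Group G] {χ : G → ℂ} (hχ : IsClassFunction G χ) {g h : G}
    (hc : IsConj g h) : χ g = χ h := by
  obtain ⟨c, rfl⟩ := isConj_iff.1 hc
  exact (hχ g c).symm

lemma uSumGL_split {χ : GL (Fin 2) F → ℂ} (hχ : IsClassFunction (GL (Fin 2) F) χ) :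
    uSumGL χ = χ 1 + ((Fintype.card F : ℂ) - 1) * χ (uGL 1) := by
  rw [uSumGL, ← Finset.add_sum_erase _ _ (Finset.mem_univ 0), uGL_zero,
    Finset.sum_congr rfl fun x hx => classFun_apply_of_isConj hχ (isConj_uGL (Finset.ne_of_mem_erase hx)),
    Finset.sum_const, Finset.card_erase_of_mem (Finset.mem_univ _), Finset.card_univ, nsmul_eq_mul,
    Nat.cast_sub Fintype.card_pos, Nat.cast_one]

/-- The twisted linear characters as bundled irreducible characters. -/
noncomputable def dIrr (α : MulChar F ℂ) : IrrCharacter (GL (Fin 2) F) := ⟨_, isIrr_detChar α⟩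

/-- The twisted Steinberg characters as bundled irreducible characters. -/
noncomputable def sIrr (α : MulChar F ℂ) : IrrCharacter (GL (Fin 2) F) := ⟨_, isIrr_stGL α⟩

lemma piGL_self (α : MulChar F ℂ) : piGL α α = stGL α + detChar α := (sub_add_cancel _ _).symm

lemma inner_irr_of_ne' {G : Type*} [Group G] [Fintype G] {χ ψ : G → ℂ} (hχ : IsIrrCharacter G χ)
    (hψ : IsIrrCharacter G ψ) (h : χ ≠ ψ) : classInner χ ψ = 0 :=
  (Chars.inner_irr_of_isIrr hχ hψ).trans (if_neg h)

lemma dIrr_injective : Function.Injective (dIrr (F := F)) := by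
  intro α β h
  refine MulChar.ext fun a => ?_
  have := congrFun (congrArg Subtype.val h)
    (Matrix.GeneralLinearGroup.mkOfDetNeZero !![(a : F), 0; 0, 1] (by simp [Matrix.det_fin_two]))
  simpa [dIrr, detChar_apply, Matrix.GeneralLinearGroup.mkOfDetNeZero, Matrix.det_fin_two] using this

lemma sIrr_injective : Function.Injective (sIrr (F := F)) := by
  intro α β h
  by_contra hne
  have h1 : classInner (stGL β) (piGL α α) = 1 := by
    rw [← show stGL α = stGL β from congrArg Subtype.val h]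
    rw [piGL_self, Chars.inner_add_right, Chars.inner_irr_self ⟨_, isIrr_stGL α⟩,
      inner_irr_of_ne' (isIrr_stGL α) (isIrr_detChar α) fun e => ?_, add_zero]
    have := congrFun e 1
    rw [stGL_one, detChar_one] at this
    exact (Fintype.one_lt_card (α := F)).ne' (by exact_mod_cast this)
  rw [stGL, Chars.inner_sub_left, inner_piGL, inner_eq_multNat (Chars.isCharacter_of_irr (isIrr_detChar β))
    (isChar_piGL α α)] at h1
  simp [Ne.symm hne] at h1
  have h2 : ((multNat (detChar β) (piGL α α) : ℤ) : ℂ) = ((-1 : ℤ) : ℂ) := by push_cast; linear_combination -h1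
  have := Int.cast_injective h2
  omega

lemma piGL_eq_iff {α β α' β' : MulChar F ℂ} (h : α ≠ β) :
    piGL α' β' = piGL α β ↔ (α' = α ∧ β' = β) ∨ (α' = β ∧ β' = α) := by
  constructor
  · intro e
    by_contra hn
    rw [not_or] at hn
    have h1 := inner_piGL α' β' α β
    rw [e, inner_piGL] at h1
    simp [h, hn.1, hn.2] at h1
  · rintro (⟨rfl, rfl⟩ | ⟨rfl, rfl⟩)
    · rfl
    · have h0 : classInner (piGL α' β' - piGL β' α') (piGL α' β' - piGL β' α') = 0 := by
        simp only [Chars.inner_sub_left, Chars.inner_sub_right, inner_piGL]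
        simp [h, Ne.symm h]
      exact sub_eq_zero.1 ((Chars.inner_self_eq_zero_iff _).1 h0)

lemma inner_irr_of_ne {G : Type*} [Group G] [Fintype G] (χ : IrrCharacter G) {ψ : G → ℂ}
    (hψ : IsIrrCharacter G ψ) (h : (χ : G → ℂ) ≠ ψ) : classInner (χ : G → ℂ) ψ = 0 :=
  (Chars.inner_irr_of_isIrr χ.2 hψ).trans (if_neg h)

/-- Outside the three known families the sum over the unipotent subgroup vanishes. -/
lemma uSumGL_eq_zero (χ : IrrCharacter (GL (Fin 2) F)) (hd : ∀ α, χ ≠ dIrr α) (hs : ∀ α, χ ≠ sIrr α)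
    (hp : ∀ α β, α ≠ β → (χ : GL (Fin 2) F → ℂ) ≠ piGL α β) : uSumGL (χ : GL (Fin 2) F → ℂ) = 0 := by
  rw [uSumGL_eq (Chars.isClassFunction_irr χ), Finset.sum_eq_zero, mul_zero]
  rintro ⟨α, β⟩ -
  by_cases h : α = β
  · subst h
    rw [piGL_self, Chars.inner_add_right, inner_irr_of_ne χ (isIrr_stGL α) fun e => hs α (Subtype.ext e),
      inner_irr_of_ne χ (isIrr_detChar α) fun e => hd α (Subtype.ext e), add_zero]
  · exact inner_irr_of_ne χ (isIrr_piGL h) (hp α β h)

section Table

noncomputable local instance : Fintype (IrrCharacter (GL (Fin 2) F)) := Chars.irrFintype _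
noncomputable local instance : DecidableEq (IrrCharacter (GL (Fin 2) F)) := _root_.Classical.decEq _

/-- The principal series as bundled characters, junk on the diagonal. -/
noncomputable def pIrr (p : MulChar F ℂ × MulChar F ℂ) : IrrCharacter (GL (Fin 2) F) :=
  if h : p.1 = p.2 then dIrr p.1 else ⟨_, isIrr_piGL h⟩

lemma pIrr_val {p : MulChar F ℂ × MulChar F ℂ} (h : p.1 ≠ p.2) :
    (pIrr p : GL (Fin 2) F → ℂ) = piGL p.1 p.2 := by
  rw [pIrr, dif_neg h]

/-- The linear characters. -/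
noncomputable def dSetGL : Finset (IrrCharacter (GL (Fin 2) F)) := Finset.univ.image dIrr
/-- The twisted Steinberg characters. -/
noncomputable def sSetGL : Finset (IrrCharacter (GL (Fin 2) F)) := Finset.univ.image sIrr
/-- The irreducible principal series. -/
noncomputable def pSetGL : Finset (IrrCharacter (GL (Fin 2) F)) :=
  ((Finset.univ : Finset (MulChar F ℂ)).offDiag).image pIrr
/-- The remaining characters. -/
noncomputable def cSetGL : Finset (IrrCharacter (GL (Fin 2) F)) :=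
  Finset.univ \ (dSetGL ∪ sSetGL ∪ pSetGL)

lemma mem_dSetGL {χ : IrrCharacter (GL (Fin 2) F)} (h : χ ∈ dSetGL) :
    ∃ α, (χ : GL (Fin 2) F → ℂ) = detChar α := by
  obtain ⟨α, -, rfl⟩ := Finset.mem_image.1 h
  exact ⟨α, rfl⟩

lemma mem_sSetGL {χ : IrrCharacter (GL (Fin 2) F)} (h : χ ∈ sSetGL) :
    ∃ α, (χ : GL (Fin 2) F → ℂ) = stGL α := by
  obtain ⟨α, -, rfl⟩ := Finset.mem_image.1 h
  exact ⟨α, rfl⟩

lemma mem_pSetGL {χ : IrrCharacter (GL (Fin 2) F)} (h : χ ∈ pSetGL) :
    ∃ α β, α ≠ β ∧ (χ : GL (Fin 2) F → ℂ) = piGL α β := by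
  obtain ⟨p, hp, rfl⟩ := Finset.mem_image.1 h
  exact ⟨p.1, p.2, (Finset.mem_offDiag.1 hp).2.2, pIrr_val (Finset.mem_offDiag.1 hp).2.2⟩

lemma uSumGL_cSetGL {χ : IrrCharacter (GL (Fin 2) F)} (h : χ ∈ cSetGL) :
    uSumGL (χ : GL (Fin 2) F → ℂ) = 0 := by
  simp only [cSetGL, Finset.mem_sdiff, Finset.mem_union, not_or, dSetGL, sSetGL, pSetGL,
    Finset.mem_image, Finset.mem_univ, true_and, not_exists, Finset.mem_offDiag] at h
  refine uSumGL_eq_zero χ (fun α e => h.1.1 α e.symm) (fun α e => h.1.2 α e.symm) fun α β hab e => ?_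
  exact h.2 (α, β) ⟨hab, Subtype.ext ((pIrr_val (p := (α, β)) hab).trans e.symm)⟩

lemma deg_dSetGL {χ : IrrCharacter (GL (Fin 2) F)} (h : χ ∈ dSetGL) :
    charDegree (χ : GL (Fin 2) F → ℂ) = 1 := by
  obtain ⟨α, e⟩ := mem_dSetGL h
  have := CharApps.deg_eq χ
  rw [e, detChar_one] at this
  rw [e]; exact_mod_cast this.symm

lemma deg_sSetGL {χ : IrrCharacter (GL (Fin 2) F)} (h : χ ∈ sSetGL) :
    charDegree (χ : GL (Fin 2) F → ℂ) = Fintype.card F := by
  obtain ⟨α, e⟩ := mem_sSetGL h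
  have := CharApps.deg_eq χ
  rw [e, stGL_one] at this
  rw [e]; exact_mod_cast this.symm

lemma deg_pSetGL {χ : IrrCharacter (GL (Fin 2) F)} (h : χ ∈ pSetGL) :
    charDegree (χ : GL (Fin 2) F → ℂ) = Fintype.card F + 1 := by
  obtain ⟨α, β, -, e⟩ := mem_pSetGL h
  have := CharApps.deg_eq χ
  rw [e, piGL_one] at this
  rw [e]; exact_mod_cast this.symm

lemma sub_one_dvd_deg {χ : IrrCharacter (GL (Fin 2) F)} (h : χ ∈ cSetGL) :
    Fintype.card F - 1 ∣ charDegree (χ : GL (Fin 2) F → ℂ) := by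
  have h1 := uSumGL_split (Chars.isClassFunction_irr χ)
  rw [uSumGL_cSetGL h, CharApps.deg_eq] at h1
  have h2 : 1 < Fintype.card F := Fintype.one_lt_card
  obtain ⟨m, -, hm⟩ := exists_int_mul (Chars.char_isIntegral (Chars.isCharacter_of_irr χ.2) (uGL 1))
    (d := (Fintype.card F : ℤ) - 1) (e := -(charDegree (χ : GL (Fin 2) F → ℂ) : ℤ)) (by omega)
    (by push_cast; linear_combination -h1)
  have h3 : ((Fintype.card F : ℤ) - 1) ∣ (charDegree (χ : GL (Fin 2) F → ℂ) : ℤ) := ⟨-m, by linear_combination hm⟩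
  have h4 : ((Fintype.card F - 1 : ℕ) : ℤ) = (Fintype.card F : ℤ) - 1 := by omega
  exact Int.natCast_dvd_natCast.1 (h4 ▸ h3)

lemma card_dSetGL : (dSetGL (F := F)).card = Fintype.card F - 1 := by
  rw [dSetGL, Finset.card_image_of_injective _ dIrr_injective, Finset.card_univ, card_mulChar]

lemma card_sSetGL : (sSetGL (F := F)).card = Fintype.card F - 1 := by
  rw [sSetGL, Finset.card_image_of_injective _ sIrr_injective, Finset.card_univ, card_mulChar]

lemma two_mul_card_pSetGL :
    2 * (pSetGL (F := F)).card = (Fintype.card F - 1) * (Fintype.card F - 2) := by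
  have h := Finset.card_eq_sum_card_image (pIrr (F := F)) ((Finset.univ : Finset (MulChar F ℂ)).offDiag)
  rw [Finset.sum_congr rfl (g := fun _ => 2) fun χ hχ => ?_, Finset.sum_const, smul_eq_mul,
    Finset.offDiag_card, Finset.card_univ, card_mulChar] at h
  · rw [mul_comm, pSetGL, ← h, show Fintype.card F - 2 = Fintype.card F - 1 - 1 by omega,
      Nat.mul_sub (Fintype.card F - 1) (Fintype.card F - 1) 1, mul_one]
  · obtain ⟨⟨α, β⟩, hp, rfl⟩ := Finset.mem_image.1 hχ
    have hab : α ≠ β := (Finset.mem_offDiag.1 hp).2.2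
    rw [Finset.card_eq_two]
    refine ⟨(α, β), (β, α), by simp [hab], ?_⟩
    ext ⟨γ, δ⟩
    simp only [Finset.mem_filter, Finset.mem_offDiag, Finset.mem_univ, true_and, Finset.mem_insert,
      Finset.mem_singleton, Prod.mk.injEq]
    constructor
    · rintro ⟨hgd, e⟩
      have e' := congrArg Subtype.val e
      rw [pIrr_val (p := (γ, δ)) hgd, pIrr_val (p := (α, β)) hab] at e'
      exact (piGL_eq_iff hab).1 e'
    · intro h'
      have hgd : γ ≠ δ := by rcases h' with ⟨rfl, rfl⟩ | ⟨rfl, rfl⟩ <;> first | exact hab | exact hab.symm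
      refine ⟨hgd, Subtype.ext ?_⟩
      rw [pIrr_val (p := (γ, δ)) hgd, pIrr_val (p := (α, β)) hab]
      exact (piGL_eq_iff hab).2 h'

lemma disjoint_dSetGL_sSetGL : Disjoint (dSetGL (F := F)) sSetGL :=
  Finset.disjoint_left.2 fun χ h1 h2 => by
    have := (Fintype.one_lt_card (α := F)); have := (deg_dSetGL h1).symm.trans (deg_sSetGL h2); omega

lemma disjoint_union_pSetGL : Disjoint (dSetGL (F := F) ∪ sSetGL) pSetGL :=
  Finset.disjoint_left.2 fun χ h1 h2 => by
    have := (Fintype.one_lt_card (α := F))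
    rcases Finset.mem_union.1 h1 with h1 | h1
    · have := (deg_dSetGL h1).symm.trans (deg_pSetGL h2); omega
    · have := (deg_sSetGL h1).symm.trans (deg_pSetGL h2); omega

lemma two_mul_card_cSetGL : 2 * (cSetGL (F := F)).card = Fintype.card F * (Fintype.card F - 1) := by
  have h1 : (cSetGL (F := F)).card + ((dSetGL (F := F)).card + (sSetGL (F := F)).card + (pSetGL (F := F)).card) =
      Fintype.card F ^ 2 - 1 := by
    rw [← Finset.card_union_of_disjoint disjoint_dSetGL_sSetGL,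
      ← Finset.card_union_of_disjoint disjoint_union_pSetGL, cSetGL,
      Finset.card_sdiff_add_card_eq_card (Finset.subset_univ _), Finset.card_univ,
      ← Nat.card_eq_fintype_card, Chars.card_irr_eq_card_classes, Cfsg.Agent.S2330.result]
  have h2 := two_mul_card_pSetGL (F := F)
  rw [card_dSetGL, card_sSetGL] at h1
  have hq : 1 < Fintype.card F := Fintype.one_lt_card
  obtain ⟨n, hn⟩ : ∃ n, Fintype.card F = n + 2 := ⟨Fintype.card F - 2, by omega⟩
  rw [hn, show n + 2 - 1 = n + 1 by omega] at h1 h2 ⊢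
  rw [show n + 2 - 2 = n by omega] at h2
  have e1 : (n + 2) ^ 2 = n * n + 4 * n + 4 := by ring
  have e2 : (n + 1) * n = n * n + n := by ring
  have e3 : (n + 2) * (n + 1) = n * n + 3 * n + 2 := by ring
  omega

/-- Every remaining character has degree one less than the field. -/
lemma deg_cSetGL {χ : IrrCharacter (GL (Fin 2) F)} (h : χ ∈ cSetGL) :
    charDegree (χ : GL (Fin 2) F → ℂ) = Fintype.card F - 1 := by
  set f : IrrCharacter (GL (Fin 2) F) → ℕ := fun χ => charDegree (χ : GL (Fin 2) F → ℂ) ^ 2 with hf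
  have hs := sum_deg_sq (G := GL (Fin 2) F)
  rw [← Finset.sum_sdiff (Finset.subset_univ (dSetGL ∪ sSetGL ∪ pSetGL)),
    Finset.sum_union disjoint_union_pSetGL, Finset.sum_union disjoint_dSetGL_sSetGL,
    Finset.sum_congr (s₁ := dSetGL) rfl fun χ h => by rw [deg_dSetGL h],
    Finset.sum_congr (s₁ := sSetGL) rfl fun χ h => by rw [deg_sSetGL h],
    Finset.sum_congr (s₁ := pSetGL) rfl fun χ h => by rw [deg_pSetGL h]] at hs
  simp only [Finset.sum_const, smul_eq_mul, card_dSetGL, card_sSetGL, card_gl] at hs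
  have hC2 := two_mul_card_cSetGL (F := F)
  have hP2 := two_mul_card_pSetGL (F := F)
  have hge : ∀ χ ∈ cSetGL (F := F), (Fintype.card F - 1) ^ 2 ≤ charDegree (χ : GL (Fin 2) F → ℂ) ^ 2 :=
    fun χ h => Nat.pow_le_pow_left (Nat.le_of_dvd (CharApps.deg_pos χ) (sub_one_dvd_deg h)) 2
  have hq : 1 < Fintype.card F := Fintype.one_lt_card
  have hsum : ∑ χ ∈ cSetGL (F := F), charDegree (χ : GL (Fin 2) F → ℂ) ^ 2 ≤
      ∑ _χ ∈ cSetGL (F := F), (Fintype.card F - 1) ^ 2 := by
    rw [Finset.sum_const, smul_eq_mul, cSetGL]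
    obtain ⟨n, hn⟩ : ∃ n, Fintype.card F = n + 2 := ⟨Fintype.card F - 2, by omega⟩
    rw [hn, show n + 2 - 1 = n + 1 by omega] at hs hC2 hP2 ⊢
    rw [show n + 2 - 2 = n by omega] at hP2
    have e1 : (n + 2) ^ 2 - 1 = n ^ 2 + 4 * n + 3 := by ring_nf; omega
    have e2 : (n + 2) ^ 2 - (n + 2) = n ^ 2 + 3 * n + 2 := by ring_nf; omega
    rw [e1, e2] at hs
    rw [cSetGL] at hC2
    zify at hs hC2 hP2 ⊢
    nlinarith
  have h0 := (Finset.sum_eq_sum_iff_of_le hge).1 (le_antisymm (Finset.sum_le_sum hge) hsum) χ h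
  exact (Nat.pow_left_injective two_ne_zero h0).symm

lemma gl_cases (χ : IrrCharacter (GL (Fin 2) F)) :
    χ ∈ dSetGL ∨ χ ∈ sSetGL ∨ χ ∈ pSetGL ∨ χ ∈ cSetGL := by
  simp only [cSetGL, Finset.mem_sdiff, Finset.mem_univ, true_and, Finset.mem_union]
  tauto

end Table

lemma sum_inner_piGL (α β : MulChar F ℂ) :
    ∑ p : MulChar F ℂ × MulChar F ℂ, classInner (piGL α β) (piGL p.1 p.2) = 2 := by
  simp only [inner_piGL, Finset.sum_add_distrib]
  rw [Finset.sum_eq_single (α, β), Finset.sum_eq_single (β, α)]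
  · norm_num
  · intro p _ hp; rw [if_neg]; rintro ⟨rfl, rfl⟩; exact hp rfl
  · simp
  · intro p _ hp; rw [if_neg]; rintro ⟨rfl, rfl⟩; exact hp rfl
  · simp

lemma piGL_apply_uGL (α β : MulChar F ℂ) : piGL α β (uGL 1) = 1 := by
  have h1 := uSumGL_split (Chars.isClassFunction_of_isCharacter (isChar_piGL α β))
  rw [uSumGL_eq (Chars.isClassFunction_of_isCharacter (isChar_piGL α β)), piGL_one] at h1
  rw [sum_inner_piGL] at h1
  have h2 : (Fintype.card F : ℂ) - 1 ≠ 0 :=
    sub_ne_zero.2 (by exact_mod_cast (Fintype.one_lt_card (α := F)).ne')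
  exact mul_left_cancel₀ h2 (by linear_combination -h1)

lemma stGL_apply_uGL (α : MulChar F ℂ) : stGL α (uGL 1) = 0 := by
  simp [stGL, piGL_apply_uGL, detChar_apply, coe_uGL, Matrix.det_fin_two]

lemma piGL_apply_elliptic (α β : MulChar F ℂ) (g : GL (Fin 2) F)
    (hno : ∀ (c : F) (v : Fin 2 → F), v ≠ 0 → (g : Matrix (Fin 2) (Fin 2) F).mulVec v ≠ c • v) :
    piGL α β g = 0 := by
  rw [piGL, Chars.indFun_apply, Finset.sum_eq_zero, mul_zero]
  intro x _
  refine Chars.extendByZero_of_not_mem _ _ fun hmem => ?_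
  have hcol : (fun i => (x : Matrix (Fin 2) (Fin 2) F) i 0) ≠ 0 := fun h => by
    have := Matrix.GeneralLinearGroup.det_ne_zero x
    rw [Matrix.det_fin_two] at this
    have h0 := congrFun h 0; have h1 := congrFun h 1
    simp at h0 h1; simp [h0, h1] at this
  have he : (g : Matrix (Fin 2) (Fin 2) F) * x =
      (x : Matrix (Fin 2) (Fin 2) F) * ((x⁻¹ * g * x : GL (Fin 2) F) : Matrix (Fin 2) (Fin 2) F) := by
    rw [← Units.val_mul, ← Units.val_mul]; exact congrArg Units.val (by group)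
  refine hno (((x⁻¹ * g * x : GL (Fin 2) F) : Matrix (Fin 2) (Fin 2) F) 0 0) _ hcol (funext fun i => ?_)
  have := congrFun (congrFun he i) 0
  rw [Matrix.mul_apply, Matrix.mul_apply, Fin.sum_univ_two, Fin.sum_univ_two, mem_upper.1 hmem, mul_zero,
    add_zero] at this
  simp only [Matrix.mulVec, dotProduct, Fin.sum_univ_two, Pi.smul_apply, smul_eq_mul]
  linear_combination this

lemma three_le_card_of_ne (g : GL (Fin 2) F) (h01 : (g : Matrix (Fin 2) (Fin 2) F) 0 1 = 0)
    (h10 : (g : Matrix (Fin 2) (Fin 2) F) 1 0 = 0)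
    (hne : (g : Matrix (Fin 2) (Fin 2) F) 0 0 ≠ (g : Matrix (Fin 2) (Fin 2) F) 1 1) : 3 ≤ Fintype.card F := by
  have hd := Matrix.GeneralLinearGroup.det_ne_zero g
  rw [Matrix.det_fin_two, h01, h10, mul_zero, sub_zero] at hd
  have h3 := Finset.card_le_univ {(0 : F), (g : Matrix (Fin 2) (Fin 2) F) 0 0, (g : Matrix (Fin 2) (Fin 2) F) 1 1}
  rw [Finset.card_insert_of_notMem, Finset.card_pair hne] at h3
  · exact h3
  · simp [(left_ne_zero_of_mul hd).symm, (right_ne_zero_of_mul hd).symm]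

/-- A character without fixed vectors on the unipotent subgroup vanishes on regular split elements. -/
lemma apply_diag_of_uSumGL_eq_zero {χ : GL (Fin 2) F → ℂ} (hχ : IsIrrCharacter (GL (Fin 2) F) χ)
    (h0 : uSumGL χ = 0) (g : GL (Fin 2) F) (h01 : (g : Matrix (Fin 2) (Fin 2) F) 0 1 = 0)
    (h10 : (g : Matrix (Fin 2) (Fin 2) F) 1 0 = 0)
    (hne : (g : Matrix (Fin 2) (Fin 2) F) 0 0 ≠ (g : Matrix (Fin 2) (Fin 2) F) 1 1) : χ g = 0 := by
  obtain ⟨n, ρ, -, rfl⟩ := hχ
  set A := ∑ x : F, ρ (uGL x) with hA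
  have hq0 : (Fintype.card F : ℂ) ≠ 0 := Nat.cast_ne_zero.2 Fintype.card_ne_zero
  have hA0 : LinearMap.trace ℂ _ A = 0 := by rw [hA, map_sum]; exact h0
  have hAA : A * A = (Fintype.card F : ℂ) • A := by
    rw [hA, Finset.sum_mul, Nat.cast_smul_eq_nsmul, ← Finset.card_univ, ← Finset.sum_const]
    refine Finset.sum_congr rfl fun x _ => ?_
    rw [Finset.mul_sum]
    exact Fintype.sum_equiv (Equiv.addLeft x) _ _ fun y => by
      rw [← map_mul, uGL_mul, Equiv.coe_addLeft]
  have hid : IsIdempotentElem ((Fintype.card F : ℂ)⁻¹ • A) := by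
    show ((Fintype.card F : ℂ)⁻¹ • A) * ((Fintype.card F : ℂ)⁻¹ • A) = _
    rw [smul_mul_smul_comm, hAA, smul_smul, mul_assoc, inv_mul_cancel₀ hq0, mul_one]
  have hzero := LinearMap.IsIdempotentElem.eq_zero_of_trace_eq_zero hid (by rw [map_smul, hA0, smul_zero])
  have hAz : A = 0 := (smul_eq_zero.1 hzero).resolve_left (inv_ne_zero hq0)
  have hsum : ∑ x : F, ρ.character (g * uGL x) = 0 := by
    simp only [Representation.character, map_mul]
    rw [← map_sum, ← Finset.mul_sum, ← hA, hAz, mul_zero, map_zero]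
  have hconj : ∀ x : F, ρ.character (g * uGL x) = ρ.character g := by
    intro x
    refine classFun_apply_of_isConj (Chars.isClassFunction_character ρ) ?_
    refine gl_isConj_of_trace_det ?_ (fun h => hne h.2.2) ?_ ?_ <;>
      simp [coe_uGL, IsScalar2, Matrix.mul_apply, Matrix.trace_fin_two, Matrix.det_fin_two,
        Fin.sum_univ_two, h01, h10, hne]
  rw [Finset.sum_congr rfl fun x _ => hconj x, Finset.sum_const, Finset.card_univ, nsmul_eq_mul] at hsum
  exact (mul_eq_zero.1 hsum).resolve_left hq0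

end CfsgLib.CharsMore.TwoByTwo
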