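import Cfsg.Agent.Lib.CharsMore.TwoByTwo.SLOdd
import Cfsg.Agent.Lib.CharsMore.ItoDegree
import Cfsg.Agent.Lib.Chars.Linear
import Cfsg.Agent.Lib.Chars.Quotient

/-!
# Counting characters of degree prime to a given prime
-/

set_option autoImplicit false
set_option linter.unusedSectionVars false
set_option linter.style.haveILetI false

namespace CfsgLib.CharsMore.TwoByTwo

open Cfsg CfsgLib.GLTwo
open scoped ComplexConjugate commutatorElement

section General

variable {G : Type*} [Group G] [Finite G]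

/-- With an abelian normal subgroup of index prime to `ℓ` every degree is prime to `ℓ`. -/
lemma card_primeTo_eq_classes (A : Subgroup G) [A.Normal] (hA : ∀ a ∈ A, ∀ b ∈ A, a * b = b * a)
    {ℓ : ℕ} (hℓ : ¬ ℓ ∣ A.index) :
    Nat.card {χ : IrrCharacter G // ¬ ℓ ∣ charDegree (χ : G → ℂ)} = Nat.card (ConjClasses G) := by
  haveI : Fintype G := Fintype.ofFinite G
  rw [← Chars.card_irr_eq_card_classes]
  refine Nat.card_congr (Equiv.subtypeUnivEquiv fun χ h => hℓ ?_)
  haveI : Fintype A := Fintype.ofFinite A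
  obtain ⟨k, hk, hkd⟩ := CfsgLib.CharsMore.ito_degree_dvd A hA χ.2
  rw [CharApps.deg_eq, Nat.cast_inj] at hk
  exact (hk ▸ h).trans hkd

/-- In a two-group the characters of odd degree are the linear ones. -/
lemma card_odd_deg_pGroup (hG : IsPGroup 2 G) :
    Nat.card {χ : IrrCharacter G // ¬ 2 ∣ charDegree (χ : G → ℂ)} = (commutator G).index := by
  rw [← Chars.card_degree_one]
  refine Nat.card_congr (Equiv.subtypeEquivRight fun χ => ⟨fun h => ?_, fun h => ?_⟩)
  · obtain ⟨d, -, hd, hdvd⟩ := Chars.irr_degree_dvd_card χ.2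
    rw [CharApps.deg_eq, Nat.cast_inj] at hd
    rw [CharApps.deg_eq_one_iff]
    obtain ⟨k, hk⟩ := IsPGroup.iff_card.1 hG
    rw [hk] at hdvd
    obtain ⟨j, -, hj⟩ := (Nat.dvd_prime_pow Nat.prime_two).1 hdvd
    rw [hd, hj] at h ⊢
    rcases Nat.eq_zero_or_pos j with rfl | hj0
    · exact pow_zero 2
    · exact absurd (dvd_pow_self 2 hj0.ne') h
  · rw [(CharApps.deg_eq_one_iff χ).1 h]
    norm_num

/-- An odd degree character has a central element of a derived two-subgroup in its kernel. -/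
lemma apply_eq_one_of_odd_deg {S : Subgroup G} (hS : IsPGroup 2 S) {z : S}
    (hz : (z : G) ∈ Subgroup.center G) (hzd : z ∈ commutator S) (χ : IrrCharacter G)
    (hχ : ¬ 2 ∣ charDegree (χ : G → ℂ)) : (χ : G → ℂ) z = (χ : G → ℂ) 1 := by
  classical
  haveI := Fintype.ofFinite S
  haveI := Chars.irrFintype S
  set R : S → ℂ := fun s => (χ : G → ℂ) s
  have hR : IsCharacter S R := Chars.isCharacter_restrict S (Chars.isCharacter_of_irr χ.2)
  obtain ⟨θ, hθ1, hθ⟩ : ∃ θ : IrrCharacter S, (θ : S → ℂ) 1 = 1 ∧ classInner R θ ≠ 0 := by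
    by_contra! hn
    choose m hm using fun θ : IrrCharacter S => Chars.inner_char_nat hR (Chars.isCharacter_of_irr θ.2)
    have h := congrFun (Chars.classFun_eq_sum (Chars.isClassFunction_of_isCharacter hR)) 1
    rw [Finset.sum_apply] at h
    simp only [Pi.smul_apply, smul_eq_mul, hm, CharApps.deg_eq, R, OneMemClass.coe_one, ← Nat.cast_mul,
      ← Nat.cast_sum, Nat.cast_inj] at h
    refine hχ (h ▸ Finset.dvd_sum fun θ _ => ?_)
    by_cases h1 : (θ : S → ℂ) 1 = 1
    · have := hn θ h1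
      rw [hm θ, Nat.cast_eq_zero] at this
      rw [this, zero_mul]
      exact dvd_zero 2
    · refine Dvd.dvd.mul_left ?_ _
      obtain ⟨d, -, hd, hdvd⟩ := Chars.irr_degree_dvd_card θ.2
      rw [CharApps.deg_eq, Nat.cast_inj] at hd
      obtain ⟨k, hk⟩ := IsPGroup.iff_card.1 hS
      rw [hk] at hdvd
      obtain ⟨j, -, hj⟩ := (Nat.dvd_prime_pow Nat.prime_two).1 hdvd
      rw [hd, hj]
      refine dvd_pow_self 2 fun hj0 => h1 ?_
      rw [CharApps.deg_eq, hd, hj, hj0, pow_zero, Nat.cast_one]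
  obtain ⟨lam, hlam⟩ := (Chars.linearEquiv S).surjective ⟨θ, hθ1⟩
  have hθv : (θ : S → ℂ) = fun s => (lam s : ℂ) := by
    rw [← Chars.linearEquiv_apply, hlam]
  have hlz : lam z = 1 := Abelianization.commutator_subset_ker lam hzd
  obtain ⟨n, ρ, hρ, hρχ⟩ := id χ.2
  haveI := hρ
  obtain ⟨c, hc⟩ := Chars.exists_scalar_of_mem_center ρ (z : G) hz
  have hmul : ∀ g : G, (χ : G → ℂ) ((z : G) * g) = c * (χ : G → ℂ) g := fun g => by
    rw [← hρχ, Representation.character, Representation.character, map_mul, hc, smul_mul_assoc,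
      show (LinearMap.id : (Fin n → ℂ) →ₗ[ℂ] Fin n → ℂ) * ρ g = ρ g from one_mul _, map_smul, smul_eq_mul]
  have hc1 : c = 1 := by
    refine mul_left_eq_self₀.1 (show c * classInner R θ = classInner R θ from ?_) |>.resolve_right hθ
    rw [Chars.inner_def, ← mul_assoc, mul_comm c, mul_assoc, Finset.mul_sum]
    refine congrArg₂ (· * ·) rfl (Fintype.sum_equiv (Equiv.mulLeft z) _ _ fun s => ?_)
    simp only [R, Equiv.coe_mulLeft, Subgroup.coe_mul, hmul, hθv, map_mul, hlz, one_mul, mul_assoc]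
  have := hmul 1
  rwa [mul_one, hc1, one_mul] at this

lemma card_eq_four_of_twelve (hG : Nat.card G = 12) (hne : ¬ IsMulCommutative G)
    (V : Subgroup G) [V.Normal] (hV : Nat.card V = 4) : Nat.card (IrrCharacter G) = 4 := by
  classical
  haveI := Chars.irrFintype G
  haveI : Fintype G := Fintype.ofFinite G
  have hVc : ∀ a ∈ V, ∀ b ∈ V, a * b = b * a := fun a ha b hb =>
    congrArg Subtype.val ((IsPGroup.isMulCommutative_of_card_eq_prime_sq (p := 2) (G := V) (by rw [hV]; norm_num)).is_comm.comm ⟨a, ha⟩ ⟨b, hb⟩)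
  have hidx : V.index = 3 := by
    have := V.card_mul_index
    rw [hV, hG] at this
    omega
  have hdeg : ∀ χ : IrrCharacter G, charDegree (χ : G → ℂ) = 1 ∨ charDegree (χ : G → ℂ) = 3 := fun χ => by
    haveI : Fintype V := Fintype.ofFinite V
    obtain ⟨k, hk, hkd⟩ := CfsgLib.CharsMore.ito_degree_dvd V hVc χ.2
    rw [CharApps.deg_eq, Nat.cast_inj] at hk
    rw [hidx] at hkd
    rcases (Nat.dvd_prime Nat.prime_three).1 hkd with h | h <;> omega
  have hsum : ∑ χ : IrrCharacter G, charDegree (χ : G → ℂ) ^ 2 = 12 := by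
    rw [sum_deg_sq (G := G), hG]
  set a := (Finset.univ.filter fun χ : IrrCharacter G => charDegree (χ : G → ℂ) = 1).card with ha
  set b := (Finset.univ.filter fun χ : IrrCharacter G => ¬ charDegree (χ : G → ℂ) = 1).card with hb
  rw [← Finset.sum_filter_add_sum_filter_not Finset.univ (fun χ : IrrCharacter G => charDegree (χ : G → ℂ) = 1),
    Finset.sum_congr (s₁ := Finset.univ.filter fun χ : IrrCharacter G => charDegree (χ : G → ℂ) = 1) rfl
      (g := fun _ => 1) (fun χ hχ => by rw [(Finset.mem_filter.1 hχ).2]; rfl),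
    Finset.sum_congr (s₁ := Finset.univ.filter fun χ : IrrCharacter G => ¬ charDegree (χ : G → ℂ) = 1) rfl
      (g := fun _ => 9) (fun χ hχ => by
      rw [(hdeg χ).resolve_left (Finset.mem_filter.1 hχ).2]; rfl),
    Finset.sum_const, Finset.sum_const, smul_eq_mul, smul_eq_mul, ← ha, ← hb] at hsum
  have hab : Nat.card (IrrCharacter G) = a + b := by
    rw [Nat.card_eq_fintype_card, ← Finset.card_univ, ha, hb, Finset.card_filter_add_card_filter_not]
  have hb0 : b ≠ 0 := fun h0 => hne (by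
    have h1 : (commutator G).index = 12 := by
      rw [← Chars.card_degree_one, ← (show a = 12 by omega), ha, ← Fintype.card_subtype, ← Nat.card_eq_fintype_card]
      exact Nat.card_congr (Equiv.subtypeEquivRight fun χ => CharApps.deg_eq_one_iff χ)
    have h2 : commutator G = ⊥ := by
      rw [← Subgroup.card_eq_one]
      have := (commutator G).card_mul_index
      rw [h1, hG] at this
      omega
    refine ⟨⟨fun x y => ?_⟩⟩
    have h3 : ⁅x, y⁆ ∈ commutator G := Subgroup.commutator_mem_commutator (Subgroup.mem_top x) (Subgroup.mem_top y)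
    rw [h2, Subgroup.mem_bot] at h3
    exact commutatorElement_eq_one_iff_mul_comm.1 h3)
  omega

end General

variable {F : Type*} [Field F] [Fintype F] [DecidableEq F]

local notation "SL₂" => Matrix.SpecialLinearGroup (Fin 2) F

noncomputable local instance fintypeIrrMcKay : Fintype (IrrCharacter SL₂) := Chars.irrFintype _
noncomputable local instance decEqIrrMcKay : DecidableEq (IrrCharacter SL₂) := _root_.Classical.decEq _

variable (hodd : Odd (Fintype.card F))
include hodd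

/-- The number of characters of degree prime to `ℓ` read off from the table. -/
lemma card_primeTo_table (ℓ : ℕ) :
    Nat.card {χ : IrrCharacter SL₂ // ¬ ℓ ∣ charDegree (χ : SL₂ → ℂ)} =
      (if ℓ ∣ 1 then 0 else 1) + (if ℓ ∣ Fintype.card F then 0 else 1) +
        (if ℓ ∣ Fintype.card F + 1 then 0 else (Fintype.card F - 3) / 2) +
        (if ℓ ∣ (Fintype.card F + 1) / 2 then 0 else 2) +
        (if ℓ ∣ Fintype.card F - 1 then 0 else (Fintype.card F - 1) / 2) +
        (if ℓ ∣ (Fintype.card F - 1) / 2 then 0 else 2) := by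
  classical
  have hP : (pSetSL (F := F)).card = (Fintype.card F - 3) / 2 := by
    have := two_mul_card_pSetSL_odd hodd; omega
  have hB : (cBigSL (F := F)).card = (Fintype.card F - 1) / 2 := by
    have := (card_cuspSL hodd).2; omega
  have hC : ∀ f : IrrCharacter SL₂ → ℕ,
      ∑ χ ∈ cSetSL, f χ = ∑ χ ∈ cBigSL, f χ + ∑ χ ∈ cHalfSL, f χ :=
    fun f => (Finset.sum_filter_add_sum_filter_not _ _ _).symm
  rw [Nat.card_eq_fintype_card, Fintype.card_subtype, Finset.card_filter, sl_partition_odd hodd, hC,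
    deg_principal, deg_stIrrSL, Finset.sum_congr (s₁ := pSetSL) rfl fun χ h => by rw [deg_pSetSL h],
    Finset.sum_congr (s₁ := hSetSL) rfl fun χ h => by
      rw [show charDegree (χ : SL₂ → ℂ) = (Fintype.card F + 1) / 2 by have := (of_mem_hSetSL hodd h).2; omega],
    Finset.sum_congr (s₁ := cBigSL) rfl fun χ h => by rw [deg_cBigSL h],
    Finset.sum_congr (s₁ := cHalfSL) rfl fun χ h => by
      rw [show charDegree (χ : SL₂ → ℂ) = (Fintype.card F - 1) / 2 by have := deg_cHalfSL hodd h; omega],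
    Finset.sum_const, Finset.sum_const, Finset.sum_const, Finset.sum_const, hP, hB, card_hSetSL hodd,
    (card_cuspSL hodd).1]
  simp only [smul_eq_mul, ite_not, mul_ite, mul_zero, mul_one, add_assoc]

/-- The values of the count in the five cases. -/
lemma card_primeTo_cases {ℓ : ℕ} (hℓ : ℓ.Prime) :
    (ℓ ∣ Fintype.card F → Nat.card {χ : IrrCharacter SL₂ // ¬ ℓ ∣ charDegree (χ : SL₂ → ℂ)} = Fintype.card F + 3) ∧
    (ℓ = 2 → Nat.card {χ : IrrCharacter SL₂ // ¬ ℓ ∣ charDegree (χ : SL₂ → ℂ)} = 4) ∧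
    (ℓ ≠ 2 → ℓ ∣ Fintype.card F - 1 →
      2 * Nat.card {χ : IrrCharacter SL₂ // ¬ ℓ ∣ charDegree (χ : SL₂ → ℂ)} = Fintype.card F - 1 + 6) ∧
    (ℓ ≠ 2 → ℓ ∣ Fintype.card F + 1 →
      2 * Nat.card {χ : IrrCharacter SL₂ // ¬ ℓ ∣ charDegree (χ : SL₂ → ℂ)} = Fintype.card F + 1 + 6) := by
  rw [card_primeTo_table hodd ℓ]
  obtain ⟨j, hj⟩ := id hodd
  have hq := two_lt_card_of_odd hodd
  have h1 : ¬ ℓ ∣ 1 := hℓ.not_dvd_one
  rw [if_neg h1]
  have hhalf : ∀ m, ℓ ∣ m / 2 → 2 ∣ m → ℓ ∣ m := fun m h h2 => by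
    rw [← Nat.div_mul_cancel h2]; exact h.mul_right 2
  have hp1 : 2 ∣ Fintype.card F + 1 := by omega
  have hm1 : 2 ∣ Fintype.card F - 1 := by omega
  have hne : ℓ ≠ 2 → ∀ a b, ℓ ∣ a → ℓ ∣ b → a + 2 = b → False := fun h2 a b ha hb he => by
    have := Nat.dvd_sub hb ha
    rw [show b - a = 2 by omega] at this
    exact h2 ((Nat.prime_dvd_prime_iff_eq hℓ Nat.prime_two).1 this)
  have hadj : ∀ a, ℓ ∣ a → ¬ ℓ ∣ a + 1 := fun a ha h => h1 ((Nat.dvd_add_right ha).1 h)
  have hadj' : ∀ a, ℓ ∣ a + 1 → ¬ ℓ ∣ a := fun a ha h => hadj a h ha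
  refine ⟨fun hd => ?_, fun h2 => ?_, fun h2 hd => ?_, fun h2 hd => ?_⟩
  · have n1 : ¬ ℓ ∣ Fintype.card F + 1 := hadj _ hd
    have n2 : ¬ ℓ ∣ Fintype.card F - 1 := hadj' _ (by rwa [Nat.sub_add_cancel (by omega : 1 ≤ Fintype.card F)])
    rw [if_pos hd, if_neg n1, if_neg n2, if_neg fun h => n1 (hhalf _ h hp1), if_neg fun h => n2 (hhalf _ h hm1)]
    omega
  · subst h2
    rw [if_neg (by omega : ¬ 2 ∣ Fintype.card F), if_pos hp1, if_pos hm1]
    by_cases h4 : 2 ∣ (Fintype.card F + 1) / 2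
    · rw [if_pos h4, if_neg (by omega)]
    · rw [if_neg h4, if_pos (by omega)]
  · have n0 : ¬ ℓ ∣ Fintype.card F := by
      have := hadj _ hd
      rwa [Nat.sub_add_cancel (by omega : 1 ≤ Fintype.card F)] at this
    have n1 : ¬ ℓ ∣ Fintype.card F + 1 := fun h => hne h2 _ _ hd h (by omega)
    have d2 : ℓ ∣ (Fintype.card F - 1) / 2 :=
      ((Nat.coprime_primes hℓ Nat.prime_two).2 h2).dvd_of_dvd_mul_right (by rwa [Nat.div_mul_cancel hm1])
    rw [if_neg n0, if_neg n1, if_neg fun h => n1 (hhalf _ h hp1), if_pos hd, if_pos d2]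
    omega
  · have n0 : ¬ ℓ ∣ Fintype.card F := hadj' _ hd
    have n2 : ¬ ℓ ∣ Fintype.card F - 1 := fun h => hne h2 _ _ h hd (by omega)
    have d1 : ℓ ∣ (Fintype.card F + 1) / 2 :=
      ((Nat.coprime_primes hℓ Nat.prime_two).2 h2).dvd_of_dvd_mul_right (by rwa [Nat.div_mul_cancel hp1])
    rw [if_neg n0, if_pos hd, if_pos d1, if_neg n2, if_neg fun h => n2 (hhalf _ h hm1)]
    omega

end CfsgLib.CharsMore.TwoByTwo
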