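import Cfsg.Agent.Lib.CharsMore.TwoByTwo.SLOdd

/-!
# Non-split tori of the special linear group of degree two in odd characteristic
-/

set_option autoImplicit false
set_option linter.unusedSectionVars false
set_option linter.style.haveILetI false

namespace CfsgLib.CharsMore.TwoByTwo

open Cfsg CfsgLib.GLTwo
open scoped ComplexConjugate

variable {F : Type*} [Field F] [Fintype F] [DecidableEq F]

local notation "SL₂" => Matrix.SpecialLinearGroup (Fin 2) F
local notation "ι" => Matrix.SpecialLinearGroup.toGL (n := Fin 2) (R := F)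

/-- No eigenvector over the field. -/
def Elliptic (g : SL₂) : Prop :=
  ∀ (c : F) (v : Fin 2 → F), v ≠ 0 → (g : Matrix (Fin 2) (Fin 2) F).mulVec v ≠ c • v

variable (F) in
/-- The central involution. -/
def negOne : SL₂ := mkSL !![-1, 0; 0, -1] (by simp [Matrix.det_fin_two])

lemma coe_negOne : ((negOne F : SL₂) : Matrix (Fin 2) (Fin 2) F) = !![-1, 0; 0, -1] := rfl

lemma mem_center_sl {g : SL₂} : g ∈ Subgroup.center SL₂ ↔ IsScalar2 (g : Matrix (Fin 2) (Fin 2) F) := by
  constructor
  · intro h
    have h1 : uSL (1 : F) * g = g * uSL 1 := Subgroup.mem_center_iff.1 h _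
    have h2 : mkSL !![1, 0; (1 : F), 1] (by simp [Matrix.det_fin_two]) * g =
        g * mkSL !![1, 0; (1 : F), 1] (by simp [Matrix.det_fin_two]) := Subgroup.mem_center_iff.1 h _
    have a00 := congrArg (fun x : SL₂ => (x : Matrix (Fin 2) (Fin 2) F) 0 0) h1
    have a01 := congrArg (fun x : SL₂ => (x : Matrix (Fin 2) (Fin 2) F) 0 1) h1
    have b00 := congrArg (fun x : SL₂ => (x : Matrix (Fin 2) (Fin 2) F) 0 0) h2
    simp [coe_uSL, coe_mkSL, Matrix.mul_apply, Fin.sum_univ_two] at a00 a01 b00
    exact ⟨b00, a00, by linear_combination -a01⟩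
  · intro h
    refine Subgroup.mem_center_iff.2 fun x => Subtype.ext ?_
    rw [Matrix.SpecialLinearGroup.coe_mul, Matrix.SpecialLinearGroup.coe_mul, (isScalar2_iff _).1 h,
      mul_smul_comm, smul_one_mul, mul_one]

lemma negOne_mem_center : negOne F ∈ Subgroup.center SL₂ :=
  mem_center_sl.2 (by simp [IsScalar2, coe_negOne])

lemma center_eq_or {g : SL₂} (h : g ∈ Subgroup.center SL₂) : g = 1 ∨ g = negOne F := by
  have hs := mem_center_sl.1 h
  rcases scalar_sl hs with e | e
  · refine Or.inl (Subtype.ext ?_)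
    rw [(isScalar2_iff _).1 hs, e, one_smul, Matrix.SpecialLinearGroup.coe_one]
  · refine Or.inr (Subtype.ext ?_)
    rw [(isScalar2_iff _).1 hs, e, coe_negOne]
    ext i j
    fin_cases i <;> fin_cases j <;> simp

lemma exists_eigen_conj {g : SL₂} (h : ¬ Elliptic g) : ∃ x : SL₂, x⁻¹ * g * x ∈ borelSL F := by
  simp only [Elliptic, not_forall, not_not] at h
  obtain ⟨c, v, hv, hc⟩ := h
  obtain ⟨s, t, hst⟩ : ∃ s t : F, v 0 * t - s * v 1 = 1 := by
    by_cases h0 : v 0 = 0
    · have h1 : v 1 ≠ 0 := fun h1 => hv (funext fun i => by fin_cases i <;> simp [h0, h1])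
      exact ⟨-(v 1)⁻¹, 0, by field_simp; ring⟩
    · exact ⟨0, (v 0)⁻¹, by field_simp; ring⟩
  refine ⟨mkSL !![v 0, s; v 1, t] (by rw [Matrix.det_fin_two_of]; linear_combination hst), ?_⟩
  rw [mem_borelSL]
  have h0 := congrFun hc 0
  have h1 := congrFun hc 1
  simp [Matrix.mulVec, dotProduct, Fin.sum_univ_two] at h0 h1
  simp [coe_mkSL, Matrix.mul_apply, Fin.sum_univ_two, Matrix.SpecialLinearGroup.coe_inv,
    Matrix.adjugate_fin_two, Matrix.vecMul, dotProduct]
  linear_combination (-(v 1)) * h0 + v 0 * h1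

lemma not_elliptic_conj {g x : SL₂} (h : ¬ Elliptic g) : ¬ Elliptic (x * g * x⁻¹) := by
  simp only [Elliptic, not_forall, not_not] at h ⊢
  obtain ⟨c, v, hv, hc⟩ := h
  have e : ((x⁻¹ : SL₂) : Matrix (Fin 2) (Fin 2) F) * (x : Matrix (Fin 2) (Fin 2) F) = 1 := by
    rw [← Matrix.SpecialLinearGroup.coe_mul, inv_mul_cancel, Matrix.SpecialLinearGroup.coe_one]
  refine ⟨c, (x : Matrix (Fin 2) (Fin 2) F).mulVec v, fun h0 => hv ?_, ?_⟩
  · rw [← Matrix.one_mulVec v, ← e, ← Matrix.mulVec_mulVec, h0, Matrix.mulVec_zero]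
  · rw [Matrix.mulVec_mulVec, ← Matrix.SpecialLinearGroup.coe_mul, inv_mul_cancel_right,
      Matrix.SpecialLinearGroup.coe_mul, ← Matrix.mulVec_mulVec, hc, Matrix.mulVec_smul]

lemma not_elliptic_of_isScalar {g : SL₂} (h : IsScalar2 (g : Matrix (Fin 2) (Fin 2) F)) : ¬ Elliptic g := by
  intro he
  refine he ((g : Matrix (Fin 2) (Fin 2) F) 0 0) ![1, 0] (fun e => one_ne_zero (congrFun e 0 :)) ?_
  ext i
  fin_cases i <;> simp [Matrix.mulVec, dotProduct, Fin.sum_univ_two, h.2.1]

lemma Elliptic.not_scalar {g : SL₂} (h : Elliptic g) : ¬ IsScalar2 (g : Matrix (Fin 2) (Fin 2) F) :=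
  fun hs => not_elliptic_of_isScalar hs h

lemma Elliptic.no_root {g : SL₂} (h : Elliptic g) (r : F) :
    r ^ 2 - r * (g : Matrix (Fin 2) (Fin 2) F).trace + 1 ≠ 0 := by
  intro hr
  have hd : ((g : Matrix (Fin 2) (Fin 2) F) - r • 1).det = 0 := by
    have := g.2
    rw [Matrix.det_fin_two] at this ⊢
    simp [Matrix.trace_fin_two] at hr ⊢
    linear_combination this + hr
  obtain ⟨v, hv, hv0⟩ := Matrix.exists_mulVec_eq_zero_iff.2 hd
  rw [Matrix.sub_mulVec, Matrix.smul_mulVec, Matrix.one_mulVec, sub_eq_zero] at hv0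
  exact h r v hv hv0

variable (hodd : Odd (Fintype.card F))
include hodd

lemma two_ne_zero' : (2 : F) ≠ 0 := Ring.two_ne_zero (ringChar_ne_two hodd)

lemma neg_one_ne_one' : (-1 : F) ≠ 1 := fun h => two_ne_zero' hodd (by linear_combination -h)

lemma one_ne_negOne : (1 : SL₂) ≠ negOne F := fun h => by
  have := congrArg (fun x : SL₂ => (x : Matrix (Fin 2) (Fin 2) F) 0 0) h
  simp [coe_negOne] at this
  exact neg_one_ne_one' hodd this.symm

lemma Elliptic.trace_sq_ne_four {g : SL₂} (h : Elliptic g) :
    (g : Matrix (Fin 2) (Fin 2) F).trace ^ 2 ≠ 4 := fun e => by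
  refine h.no_root ((g : Matrix (Fin 2) (Fin 2) F).trace / 2) ?_
  have := two_ne_zero' hodd
  have e4 : (4 : F) = 2 * 2 := by norm_num
  rw [e4] at e
  field_simp
  linear_combination -e

/-- An element of square one is central. -/
lemma mem_center_of_sq {g : SL₂} (h : g ^ 2 = 1) : g ∈ Subgroup.center SL₂ := by
  rw [mem_center_sl]
  have e : (g : Matrix (Fin 2) (Fin 2) F) * g = 1 := by
    rw [← Matrix.SpecialLinearGroup.coe_mul, ← sq, h, Matrix.SpecialLinearGroup.coe_one]
  rw [sq_eq, g.2, one_smul, sub_eq_iff_eq_add] at e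
  have h2 := two_ne_zero' hodd
  have ht : (g : Matrix (Fin 2) (Fin 2) F).trace ≠ 0 := by
    intro h0
    have := congrFun (congrFun e 0) 0
    simp [h0] at this
    exact h2 (by linear_combination -this)
  refine ⟨?_, ?_, ?_⟩
  · have := congrFun (congrFun e 0) 1
    simpa [ht] using this
  · have := congrFun (congrFun e 1) 0
    simpa [ht] using this
  · have a := congrFun (congrFun e 0) 0
    have b := congrFun (congrFun e 1) 1
    simp at a b
    exact mul_left_cancel₀ ht (a.trans b.symm)

variable {C : Subgroup (Matrix.SpecialLinearGroup (Fin 2) F)} (hcard : Nat.card C = Fintype.card F + 1)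
include hcard

/-- The non-central elements of the torus have no eigenvector. -/
lemma elliptic_of_mem {c : SL₂} (hc : c ∈ C) (hz : c ∉ Subgroup.center SL₂) : Elliptic c := by
  by_contra h
  obtain ⟨x, hx⟩ := exists_eigen_conj h
  apply hz (mem_center_of_sq hodd ?_)
  have h1 : c ^ (Fintype.card F + 1) = 1 := by
    have := pow_card_eq_one' (G := C) (x := ⟨c, hc⟩)
    rw [hcard] at this
    exact congrArg Subtype.val this
  have h2 : c ^ ((Fintype.card F - 1) * Fintype.card F) = 1 := by
    have := congrArg Subtype.val (pow_card_eq_one' (G := borelSL F) (x := ⟨_, hx⟩))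
    rw [SubmonoidClass.coe_pow, card_borelSL] at this
    have e : c = x * (x⁻¹ * c * x) * x⁻¹ := by group
    rw [e, conj_pow, this, OneMemClass.coe_one, mul_one, mul_inv_cancel]
  refine orderOf_dvd_iff_pow_eq_one.1 ((Nat.dvd_gcd (orderOf_dvd_of_pow_eq_one h1)
    (orderOf_dvd_of_pow_eq_one h2)).trans ?_)
  obtain ⟨k, hk⟩ := id hodd
  rw [hk]
  have e1 : (2 * k + 1 + 1) = 2 * (k + 1) := by ring
  have e2 : (2 * k + 1 - 1) * (2 * k + 1) = 2 * (k * (2 * k + 1)) := by rw [Nat.add_sub_cancel]; ring
  rw [e1, e2, Nat.gcd_mul_left]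
  refine mul_dvd_mul_left 2 (Nat.dvd_one.2 ?_) |>.trans (by norm_num)
  refine Nat.Coprime.mul_right ?_ ?_
  · simp
  · show Nat.Coprime (k + 1) (2 * k + 1)
    rw [Nat.coprime_comm, show 2 * k + 1 = k + (k + 1) by ring, Nat.coprime_add_self_left]
    simp

lemma negOne_mem (hC : IsCyclic C) : negOne F ∈ C := by
  obtain ⟨g, hg⟩ := hC.exists_generator
  have ho : orderOf g = Fintype.card F + 1 := by
    rw [orderOf_eq_card_of_forall_mem_zpowers hg, hcard]
  obtain ⟨k, hk⟩ := id hodd
  have ho' : orderOf (g ^ (k + 1)) = 2 := by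
    rw [orderOf_pow' _ (by omega : k + 1 ≠ 0), ho,
      show Fintype.card F + 1 = (k + 1) * 2 by omega, Nat.gcd_mul_right_left,
      Nat.mul_div_cancel_left _ (by omega : 0 < k + 1)]
  have h2 : ((g ^ (k + 1) : C) : SL₂) ^ 2 = 1 := by
    have hp := pow_orderOf_eq_one (g ^ (k + 1))
    rw [ho'] at hp
    rw [← SubmonoidClass.coe_pow, hp, OneMemClass.coe_one]
  rcases center_eq_or (mem_center_of_sq hodd h2) with e | e
  · exfalso
    have : g ^ (k + 1) = 1 := Subtype.ext e
    rw [this, orderOf_one] at ho'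
    omega
  · exact e ▸ (g ^ (k + 1)).2

variable (hC : IsCyclic C)
include hC

lemma comm_of_mem {a b : SL₂} (ha : a ∈ C) (hb : b ∈ C) : a * b = b * a := by
  obtain ⟨g, hg⟩ := hC.exists_generator
  obtain ⟨i, hi⟩ := Subgroup.mem_zpowers_iff.1 (hg ⟨a, ha⟩)
  obtain ⟨j, hj⟩ := Subgroup.mem_zpowers_iff.1 (hg ⟨b, hb⟩)
  have : (⟨a, ha⟩ : C) * ⟨b, hb⟩ = ⟨b, hb⟩ * ⟨a, ha⟩ := by
    rw [← hi, ← hj]
    exact (Commute.refl g).zpow_zpow i j
  exact congrArg Subtype.val this

/-- Two elements of the torus with the same trace are equal or inverse. -/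
lemma eq_or_inv_of_trace {c y : SL₂} (hc : c ∈ C) (hz : c ∉ Subgroup.center SL₂) (hy : y ∈ C)
    (ht : (y : Matrix (Fin 2) (Fin 2) F).trace = (c : Matrix (Fin 2) (Fin 2) F).trace) : y = c ∨ y = c⁻¹ := by
  have he := elliptic_of_mem hodd hcard hc hz
  obtain ⟨a, b, hab⟩ := eq_add_smul_of_comm he.not_scalar (congrArg Subtype.val (comm_of_mem hodd hcard hC hy hc))
  have hd := y.2
  rw [hab, det_add_smul, c.2, mul_one] at hd
  rw [hab] at ht
  simp only [Matrix.trace_add, Matrix.trace_smul, Matrix.trace_one, Fintype.card_fin, smul_eq_mul] at ht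
  push_cast at ht
  set t := (c : Matrix (Fin 2) (Fin 2) F).trace with htdef
  have e1 : (b ^ 2 - 1) * (4 - t ^ 2) = 0 := by
    linear_combination (4 : F) * hd - (2 * a + t * b + t) * ht
  have hb : b * b = 1 := by
    rcases mul_eq_zero.1 e1 with h | h
    · linear_combination h
    · exact absurd (by linear_combination -h) (he.trace_sq_ne_four hodd)
  have h2 := two_ne_zero' hodd
  rcases mul_self_eq_one_iff.1 hb with rfl | rfl
  · left
    have : a = 0 := mul_right_cancel₀ h2 (by linear_combination ht)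
    exact Subtype.ext (by rw [hab, this]; simp)
  · right
    have : a = t := mul_right_cancel₀ h2 (by linear_combination ht)
    refine Subtype.ext ?_
    rw [hab, this, Matrix.SpecialLinearGroup.coe_inv, htdef]
    ext i j
    fin_cases i <;> fin_cases j <;> simp [Matrix.trace_fin_two, Matrix.adjugate_fin_two]

/-- The centralizer of a non-central element of the torus is the torus. -/
lemma mem_of_comm {c x : SL₂} (hc : c ∈ C) (hz : c ∉ Subgroup.center SL₂) (h : x * c = c * x) : x ∈ C := by
  classical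
  have he := elliptic_of_mem hodd hcard hc hz
  set Z := Subgroup.centralizer ({c} : Set SL₂) with hZdef
  have hle : C ≤ Z := fun y hy => by
    rw [hZdef, Subgroup.mem_centralizer_singleton_iff]; exact comm_of_mem hodd hcard hC hy hc
  have hlt : Nat.card Z < 2 * (Fintype.card F + 1) := by
    rw [sl_card_centralizer he.not_scalar, Nat.card_eq_fintype_card, Fintype.card_subtype]
    have := Finset.card_le_mul_card_image (f := fun p : F × F => p.2)
      (Finset.univ.filter fun p : F × F =>
        p.1 ^ 2 + p.1 * p.2 * (c : Matrix (Fin 2) (Fin 2) F).trace + p.2 ^ 2 = 1) 2 fun b hb => ?_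
    · have h2 : ((Finset.univ.filter fun p : F × F =>
          p.1 ^ 2 + p.1 * p.2 * (c : Matrix (Fin 2) (Fin 2) F).trace + p.2 ^ 2 = 1).image
            fun p : F × F => p.2).card ≤ Fintype.card F := Finset.card_le_univ _
      omega
    · obtain ⟨⟨a, b'⟩, hab, rfl⟩ := Finset.mem_image.1 hb
      refine (Finset.card_le_card (t := {(a, b'), (-a - b' * (c : Matrix (Fin 2) (Fin 2) F).trace, b')}) ?_).trans
        Finset.card_le_two
      rintro ⟨a', b''⟩ hp
      simp only [Finset.mem_filter, Finset.mem_univ, true_and] at hp hab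
      obtain ⟨hp, rfl⟩ := hp
      have e : (a' - a) * (a' + a + b'' * (c : Matrix (Fin 2) (Fin 2) F).trace) = 0 := by
        linear_combination hp - hab
      simp only [Finset.mem_insert, Finset.mem_singleton, Prod.mk.injEq, and_true]
      rcases mul_eq_zero.1 e with h | h
      · exact Or.inl (sub_eq_zero.1 h)
      · exact Or.inr (by linear_combination h)
  obtain ⟨k, hk⟩ := Subgroup.card_dvd_of_le hle
  rw [hcard] at hk
  have : k < 2 := by
    by_contra hk2
    have := Nat.mul_le_mul_left (Fintype.card F + 1) (not_lt.1 hk2)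
    omega
  have hZ : C = Z := Subgroup.eq_of_le_of_card_ge hle (by rw [hk, hcard]; interval_cases k <;> omega)
  rw [hZ, hZdef, Subgroup.mem_centralizer_singleton_iff]
  exact h

/-- Every torus element is conjugate to its inverse. -/
lemma exists_conj_inv {c : SL₂} (hc : c ∈ C) (hz : c ∉ Subgroup.center SL₂) :
    ∃ y : SL₂, y⁻¹ * c * y = c⁻¹ ∧ c⁻¹ ≠ c := by
  have he := elliptic_of_mem hodd hcard hc hz
  have hne : c⁻¹ ≠ c := fun e => hz (mem_center_of_sq hodd (by
    rw [sq]; nth_rewrite 2 [← e]; exact mul_inv_cancel c))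
  have hcz : c⁻¹ ∉ Subgroup.center SL₂ := fun h => hz (inv_inv c ▸ Subgroup.inv_mem _ h)
  have hconj : IsConj c c⁻¹ := sl_isConj_of_norm_surj he.not_scalar (fun h => hcz (mem_center_sl.2 h))
    (by simp [Matrix.trace_fin_two, Matrix.SpecialLinearGroup.coe_inv, Matrix.adjugate_fin_two, add_comm])
    (fun r => norm_surj_odd (ringChar_ne_two hodd) (he.trace_sq_ne_four hodd) r)
  obtain ⟨y, hy⟩ := isConj_iff.1 hconj
  exact ⟨y⁻¹, by rw [inv_inv]; exact hy, hne⟩

omit hC hcard in
/-- The centralizer of an element without eigenvector is a torus. -/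
lemma exists_torus {g : SL₂} (he : Elliptic g) :
    ∃ T : Subgroup SL₂, IsCyclic T ∧ Nat.card T = Fintype.card F + 1 ∧ g ∈ T := by
  classical
  set M : Matrix (Fin 2) (Fin 2) F := (g : Matrix (Fin 2) (Fin 2) F) with hM
  set T := Subgroup.centralizer ({g} : Set SL₂) with hT
  have hns := he.not_scalar
  refine ⟨T, ?_, ?_, by rw [hT, Subgroup.mem_centralizer_singleton_iff]⟩
  · obtain ⟨l, hl⟩ := IsAlgClosed.exists_root (k := AlgebraicClosure F)
      (Polynomial.X ^ 2 - Polynomial.C (algebraMap F (AlgebraicClosure F) M.trace) * Polynomial.X + 1) (by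
        have : (Polynomial.X ^ 2 - Polynomial.C (algebraMap F (AlgebraicClosure F) M.trace) * Polynomial.X + 1).degree = 2 := by
          compute_degree <;> simp
        rw [this]; norm_num)
    simp [Polynomial.IsRoot] at hl
    choose a b hab using fun x : T =>
      eq_add_smul_of_comm hns (X := ((x : SL₂) : Matrix (Fin 2) (Fin 2) F)) (by
        have h : (x : SL₂) * g = g * x := Subgroup.mem_centralizer_singleton_iff.1 x.2
        exact congrArg Subtype.val h)
    let φ := algebraMap F (AlgebraicClosure F)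
    have hφ : Function.Injective φ := (algebraMap F (AlgebraicClosure F)).injective
    let f : T →* AlgebraicClosure F :=
      { toFun := fun x => φ (a x) + φ (b x) * l
        map_one' := by
          have h := hab 1
          simp only [OneMemClass.coe_one, Matrix.SpecialLinearGroup.coe_one] at h
          obtain ⟨h1, h2⟩ := add_smul_injective hns (a := a 1) (b := b 1) (a' := 1) (b' := 0)
            (by rw [← h]; simp)
          simp [h1, h2]
        map_mul' := fun x y => by
          have hxy : ((x * y : T) : SL₂).1 = (a x * a y - b x * b y) • (1 : Matrix (Fin 2) (Fin 2) F) +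
              (a x * b y + b x * a y + b x * b y * M.trace) • M := by
            rw [Subgroup.coe_mul, Matrix.SpecialLinearGroup.coe_mul, hab x, hab y]
            simp only [add_mul, mul_add, smul_mul_assoc, mul_smul_comm, one_mul, mul_one]
            rw [show (g : Matrix (Fin 2) (Fin 2) F) * (g : Matrix (Fin 2) (Fin 2) F) = M.trace • M - 1 by
              rw [sq_eq, g.2, one_smul]]
            module
          obtain ⟨h1, h2⟩ := add_smul_injective hns ((hab (x * y)).symm.trans hxy)
          show φ (a (x * y)) + φ (b (x * y)) * l = (φ (a x) + φ (b x) * l) * (φ (a y) + φ (b y) * l)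
          rw [h1, h2]
          simp only [map_add, map_sub, map_mul]
          linear_combination (-(φ (b x) * φ (b y))) * hl }
    refine isCyclic_of_injective_ringHom f fun x y h => ?_
    change φ (a x) + φ (b x) * l = φ (a y) + φ (b y) * l at h
    have hb : b x = b y := by
      by_contra hne
      refine he.no_root ((a y - a x) / (b x - b y)) ?_
      have hl' : l = φ ((a y - a x) / (b x - b y)) := by
        rw [map_div₀, eq_div_iff (by rw [map_ne_zero]; exact sub_ne_zero.2 hne)]
        simp only [map_sub]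
        linear_combination h
      apply hφ
      rw [map_zero]
      simp only [map_add, map_sub, map_mul, map_pow, map_one, ← hl']
      linear_combination hl
    have ha : a x = a y := hφ (by rw [hb] at h; exact add_right_cancel h)
    exact Subtype.ext (Subtype.ext (by rw [hab x, hab y, ha, hb]))
  · set g' : GL (Fin 2) F := ι g with hg'
    let Z := Subgroup.centralizer ({g'} : Set (GL (Fin 2) F))
    have hno : ∀ p : F × F, p ≠ 0 →
        p.1 ^ 2 + p.1 * p.2 * (g' : Matrix (Fin 2) (Fin 2) F).trace +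
          p.2 ^ 2 * (g' : Matrix (Fin 2) (Fin 2) F).det ≠ 0 := by
      rintro ⟨a, b⟩ hp h
      simp only [hg', coe_toGL, g.2, mul_one] at h
      by_cases hb : b = 0
      · subst hb
        simp at h
        exact hp (by simp [h])
      · refine he.no_root (-a / b) ?_
        field_simp
        linear_combination h
    have hZ : Nat.card Z = Fintype.card F ^ 2 - 1 := by
      rw [show Nat.card Z = _ from gl_card_centralizer (g := g') hns, Nat.card_eq_fintype_card,
        Fintype.card_subtype]
      rw [show (Finset.univ.filter fun p : F × F => p.1 ^ 2 + p.1 * p.2 * (g' : Matrix (Fin 2) (Fin 2) F).trace +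
          p.2 ^ 2 * (g' : Matrix (Fin 2) (Fin 2) F).det ≠ 0) = Finset.univ.erase 0 by
        ext p
        simp only [Finset.mem_filter, Finset.mem_univ, true_and, Finset.mem_erase, and_true]
        exact ⟨fun h e => h (by simp [e]), hno p⟩,
        Finset.card_erase_of_mem (Finset.mem_univ _), Finset.card_univ, Fintype.card_prod, sq]
    let D : Z →* Fˣ := Matrix.GeneralLinearGroup.det.comp Z.subtype
    have hsurj : Function.Surjective D := by
      intro r
      obtain ⟨a, b, hab⟩ := norm_surj_odd (ringChar_ne_two hodd) (he.trace_sq_ne_four hodd) (r : F)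
      rw [← det_add_smul] at hab
      refine ⟨⟨Matrix.GeneralLinearGroup.mkOfDetNeZero _ (by rw [hab]; exact r.ne_zero), ?_⟩, Units.ext hab⟩
      rw [Subgroup.mem_centralizer_singleton_iff]
      exact Units.ext (add_smul_comm _ _ _)
    have h1 := D.ker.card_mul_index
    rw [Subgroup.index_ker, MonoidHom.range_eq_top.2 hsurj, Subgroup.card_top, Nat.card_units,
      Nat.card_eq_fintype_card (α := F), hZ] at h1
    have hk : Nat.card T = Nat.card D.ker := by
      refine Nat.card_congr (Equiv.ofBijective (fun x : T => (⟨⟨ι (x : SL₂), ?_⟩, ?_⟩ : D.ker)) ⟨?_, ?_⟩)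
      · have h : (x : SL₂) * g = g * x := Subgroup.mem_centralizer_singleton_iff.1 x.2
        rw [Subgroup.mem_centralizer_singleton_iff, hg', ← map_mul, h, map_mul]
      · exact Units.ext (x : SL₂).2
      · intro x y h
        exact Subtype.ext (toGL_injective (congrArg (fun z : D.ker => ((z : Z) : GL (Fin 2) F)) h))
      · rintro ⟨⟨w, hw⟩, hd⟩
        rw [Subgroup.mem_centralizer_singleton_iff] at hw
        have hd' : (w : Matrix (Fin 2) (Fin 2) F).det = 1 := congrArg Units.val hd
        refine ⟨⟨mkSL (w : Matrix (Fin 2) (Fin 2) F) hd', ?_⟩, Subtype.ext (Subtype.ext (Units.ext rfl))⟩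
        rw [hT, Subgroup.mem_centralizer_singleton_iff]
        exact Subtype.ext (congrArg Units.val hw :)
    rw [hk]
    have hq := two_lt_card_of_odd hodd
    have e : Fintype.card F ^ 2 - 1 = (Fintype.card F + 1) * (Fintype.card F - 1) := by
      simpa using Nat.sq_sub_sq (Fintype.card F) 1
    exact Nat.eq_of_mul_eq_mul_right (by omega : 0 < Fintype.card F - 1) (h1.trans e)

end CfsgLib.CharsMore.TwoByTwo
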