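import Cfsg.Agent.Lib.CharsMore.TwoByTwo.McKayLeft
import Cfsg.Agent.Lib.CharsMore.TwoByTwo.Torus
import Cfsg.Agent.Lib.Involutions.SLTwoSylow
import Cfsg.Agent.S2430
import Cfsg.Agent.S2431
import Cfsg.Agent.S2437
import Cfsg.Agent.Lib.Base.Transport

/-!
# The McKay equality for the two by two special linear groups
-/

set_option autoImplicit false
set_option linter.unusedSectionVars false
set_option linter.style.haveILetI false

namespace CfsgLib.CharsMore.TwoByTwo

open Cfsg CfsgLib.GLTwo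
open CfsgLib.Involutions
open scoped commutatorElement

variable {F : Type*} [Field F] [Fintype F] [DecidableEq F]

local notation "SL₂" => Matrix.SpecialLinearGroup (Fin 2) F
local notation "M₂" => Matrix (Fin 2) (Fin 2) F

/-- Isomorphic groups have as many classes. -/
lemma card_conjClasses_of_mulEquiv {G H : Type*} [Group G] [Group H] (e : G ≃* H) :
    Nat.card (ConjClasses G) = Nat.card (ConjClasses H) := by
  refine Nat.card_congr (Equiv.ofBijective (ConjClasses.map e.toMonoidHom) ⟨?_, ?_⟩)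
  · intro a b h
    obtain ⟨x, rfl⟩ := ConjClasses.mk_surjective a
    obtain ⟨y, rfl⟩ := ConjClasses.mk_surjective b
    obtain ⟨c, hc⟩ := isConj_iff.1 (ConjClasses.mk_eq_mk_iff_isConj.1 (show ConjClasses.mk (e x) = ConjClasses.mk (e y) from h))
    refine ConjClasses.mk_eq_mk_iff_isConj.2 (isConj_iff.2 ⟨e.symm c, e.injective ?_⟩)
    rw [map_mul, map_mul, map_inv, MulEquiv.apply_symm_apply, hc]
  · intro b
    obtain ⟨y, rfl⟩ := ConjClasses.mk_surjective b
    exact ⟨ConjClasses.mk (e.symm y), show ConjClasses.mk (e (e.symm y)) = _ by rw [MulEquiv.apply_symm_apply]⟩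

variable (F) in
/-- The upper unitriangular subgroup. -/
def uSub : Subgroup SL₂ where
  carrier := Set.range uSL
  one_mem' := ⟨0, uSL_zero⟩
  mul_mem' := by
    rintro _ _ ⟨x, rfl⟩ ⟨y, rfl⟩
    refine ⟨x + y, Subtype.ext ?_⟩
    ext i j
    fin_cases i <;> fin_cases j <;> simp [coe_uSL, Matrix.mul_apply, Fin.sum_univ_two, add_comm]
  inv_mem' := by
    rintro _ ⟨x, rfl⟩
    refine ⟨-x, Subtype.ext ?_⟩
    rw [Matrix.SpecialLinearGroup.coe_inv, coe_uSL, coe_uSL, Matrix.adjugate_fin_two]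
    ext i j
    fin_cases i <;> fin_cases j <;> simp

lemma card_uSub : Nat.card (uSub F) = Fintype.card F := by
  have hinj : Function.Injective (uSL (F := F)) := fun x y h => by
    simpa [coe_uSL] using congrArg (fun g : SL₂ => (g : M₂) 0 1) h
  show Nat.card (Set.range (uSL (F := F))) = _
  rw [← Nat.card_congr (Equiv.ofInjective _ hinj), Nat.card_eq_fintype_card]

lemma normalizer_uSub : Subgroup.normalizer ((uSub F : Subgroup SL₂) : Set SL₂) = borelSL F := by
  have key : ∀ g : SL₂, g ∈ borelSL F → ∀ x, x ∈ uSub F → g * x * g⁻¹ ∈ uSub F := by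
    rintro g hg _ ⟨x, rfl⟩
    have h10 : (g : M₂) 1 0 = 0 := mem_borelSL.1 hg
    have hd : (g : M₂) 0 0 * (g : M₂) 1 1 = 1 := diag_mul ⟨g, hg⟩
    refine ⟨(g : M₂) 0 0 ^ 2 * x,
      (mul_inv_eq_iff_eq_mul.2 (?_ : g * uSL x = uSL ((g : M₂) 0 0 ^ 2 * x) * g)).symm⟩
    refine Subtype.ext ?_
    ext i j
    fin_cases i <;> fin_cases j <;> simp [coe_uSL, Matrix.mul_apply, Fin.sum_univ_two, h10] <;>
      linear_combination (-((g : M₂) 0 0 * x)) * hd
  refine le_antisymm (fun g hg => ?_) (fun g hg => Subgroup.mem_normalizer_iff.2 fun x => ⟨key g hg x, fun h => ?_⟩)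
  · obtain ⟨y, hy⟩ : g * uSL 1 * g⁻¹ ∈ uSub F := (Subgroup.mem_normalizer_iff.1 hg _).1 ⟨1, rfl⟩
    have hy' : uSL y * g = g * uSL 1 := by rw [hy, inv_mul_cancel_right]
    have h11 := congrArg (fun z : SL₂ => (z : M₂) 1 1) hy'
    simp [coe_uSL, Matrix.mul_apply, Fin.sum_univ_two] at h11
    exact mem_borelSL.2 h11
  · have := key g⁻¹ (inv_mem hg) _ h
    rwa [inv_inv, show g⁻¹ * (g * x * g⁻¹) * g = x by group] at this

/-- The count for the defining characteristic. -/
lemma card_primeTo_defining (hodd : Odd (Fintype.card F)) {ℓ : ℕ} [Fact ℓ.Prime] (hd : ℓ ∣ Fintype.card F)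
    (S : Sylow ℓ SL₂) :
    Nat.card {ψ : IrrCharacter (Subgroup.normalizer ((S : Subgroup SL₂) : Set SL₂)) //
      ¬ ℓ ∣ charDegree (ψ : Subgroup.normalizer ((S : Subgroup SL₂) : Set SL₂) → ℂ)} = Fintype.card F + 3 := by
  classical
  obtain ⟨n, hn, hq⟩ := FiniteField.card F (ringChar F)
  haveI := ringChar.charP F
  obtain rfl : ℓ = ringChar F :=
    (Nat.prime_dvd_prime_iff_eq Fact.out hn).1 ((Fact.out : ℓ.Prime).dvd_of_dvd_pow (hq ▸ hd))
  have h1 : Fintype.card F ^ 2 - 1 = (Fintype.card F + 1) * (Fintype.card F - 1) := by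
    simpa using Nat.sq_sub_sq (Fintype.card F) 1
  have hqq : 1 < Fintype.card F := Fintype.one_lt_card
  have hfac : (Nat.card SL₂).factorization (ringChar F) = (Fintype.card F).factorization (ringChar F) := by
    have hd' : ringChar F ∣ Fintype.card F := hd
    have n1 : ¬ ringChar F ∣ Fintype.card F + 1 := fun h => hn.not_dvd_one ((Nat.dvd_add_right hd').1 h)
    have n2 : ¬ ringChar F ∣ Fintype.card F - 1 := fun h => hn.not_dvd_one (by
      have := Nat.dvd_sub hd' h
      rwa [show Fintype.card F - (Fintype.card F - 1) = 1 by omega] at this)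
    rw [card_sl, h1, Nat.factorization_mul (by omega) (Nat.mul_ne_zero (by omega) (by omega)),
      Nat.factorization_mul (by omega) (by omega), Finsupp.add_apply, Finsupp.add_apply,
      Nat.factorization_eq_zero_of_not_dvd n1, Nat.factorization_eq_zero_of_not_dvd n2]
    rfl
  let U : Sylow (ringChar F) SL₂ := Sylow.ofCard (uSub F) (by
    rw [card_uSub, hfac, hq, hn.factorization_pow, Finsupp.single_eq_same])
  obtain ⟨g, hg⟩ := MulAction.exists_smul_eq SL₂ U S
  have hS : (S : Subgroup SL₂) = (uSub F).map (MulAut.conj g : SL₂ ≃* SL₂).toMonoidHom := by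
    rw [← hg, Sylow.coe_subgroup_smul]
    rfl
  have hN : Subgroup.normalizer ((S : Subgroup SL₂) : Set SL₂) =
      (borelSL F).map (MulAut.conj g : SL₂ ≃* SL₂).toMonoidHom := by
    rw [hS, ← normalizer_uSub, Subgroup.map_equiv_normalizer_eq]
  have hcl : Nat.card (ConjClasses (Subgroup.normalizer ((S : Subgroup SL₂) : Set SL₂))) = Fintype.card F + 3 := by
    rw [hN]
    exact ((card_conjClasses_of_mulEquiv (Subgroup.equivMapOfInjective (borelSL F)
      (MulAut.conj g : SL₂ ≃* SL₂).toMonoidHom (MulAut.conj g : SL₂ ≃* SL₂).injective)).symm).trans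
      (Cfsg.Agent.S2437.result hodd)
  set N := Subgroup.normalizer ((S : Subgroup SL₂) : Set SL₂)
  haveI : ((S : Subgroup SL₂).subgroupOf N).Normal :=
    (Subgroup.normal_subgroupOf_iff_le_normalizer Subgroup.le_normalizer).2 le_rfl
  rw [← hcl]
  refine card_primeTo_eq_classes ((S : Subgroup SL₂).subgroupOf N) ?_ ?_
  · intro a ha b hb
    rw [Subgroup.mem_subgroupOf, hS] at ha hb
    obtain ⟨_, ⟨x, rfl⟩, ha'⟩ := ha
    obtain ⟨_, ⟨y, rfl⟩, hb'⟩ := hb
    refine Subtype.ext ?_
    rw [Subgroup.coe_mul, Subgroup.coe_mul, ← ha', ← hb', ← map_mul, ← map_mul]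
    refine congrArg _ (Subtype.ext ?_)
    ext i j
    fin_cases i <;> fin_cases j <;> simp [coe_uSL, Matrix.mul_apply, Fin.sum_univ_two, add_comm]
  · exact fun h => S.not_dvd_index (h.trans (Dvd.intro _
      (Subgroup.relIndex_mul_index (Subgroup.le_normalizer (H := (S : Subgroup SL₂))))))

/-- The count for an odd prime dividing the order of a torus. -/
lemma card_primeTo_torus (hodd : Odd (Fintype.card F)) {ℓ : ℕ} [Fact ℓ.Prime] (hℓ : ℓ ≠ 2) {k : ℕ}
    (hk : k = Fintype.card F - 1 ∨ k = Fintype.card F + 1) (hlk : ℓ ∣ k) (S : Sylow ℓ SL₂) :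
    2 * Nat.card {ψ : IrrCharacter (Subgroup.normalizer ((S : Subgroup SL₂) : Set SL₂)) //
      ¬ ℓ ∣ charDegree (ψ : Subgroup.normalizer ((S : Subgroup SL₂) : Set SL₂) → ℂ)} = k + 6 := by
  classical
  obtain ⟨hC, hcyc, hNc⟩ : Nat.card (Subgroup.centralizer ((S : Subgroup SL₂) : Set SL₂)) = k ∧
      IsCyclic (Subgroup.centralizer ((S : Subgroup SL₂) : Set SL₂)) ∧
      Nat.card (Subgroup.normalizer ((S : Subgroup SL₂) : Set SL₂)) = 2 * k := by
    have h := Cfsg.Agent.S2430.result hodd ℓ hℓ S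
    rcases hk with rfl | rfl
    exacts [h.1 hlk, h.2 hlk]
  set C := Subgroup.centralizer ((S : Subgroup SL₂) : Set SL₂)
  set N := Subgroup.normalizer ((S : Subgroup SL₂) : Set SL₂) with hNdef
  obtain ⟨q', hq'⟩ := id hodd
  have hq := two_lt_card_of_odd hodd
  have hk3 : 3 ≤ k := by
    have h2 := (Fact.out : ℓ.Prime).two_le
    have := Nat.le_of_dvd (by omega) hlk
    omega
  obtain ⟨⟨x, hxC⟩, hgen⟩ := hcyc.exists_generator
  have hox : orderOf x = k := by
    rw [← Subgroup.orderOf_mk x hxC, orderOf_eq_card_of_forall_mem_zpowers hgen, hC]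
  have hns : ¬ IsScalar2 (x : M₂) := fun h => by
    have h2 : x ^ 2 = 1 := by
      rcases SLTwoTori.scalar_eq h with e | e <;> rw [e] <;> simp
    have := Nat.le_of_dvd (by norm_num) (orderOf_dvd_of_pow_eq_one h2)
    omega
  set T := Subgroup.centralizer ({x} : Set SL₂) with hTdef
  have hCT : C ≤ T := by
    intro y hy
    rw [hTdef, Subgroup.mem_centralizer_singleton_iff]
    obtain ⟨i, hi⟩ := Subgroup.mem_zpowers_iff.1 (hgen ⟨y, hy⟩)
    rw [show y = x ^ i from (congrArg Subtype.val hi).symm]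
    exact (Commute.refl x).zpow_left i
  have hdvd : k ∣ Nat.card T := hC ▸ Subgroup.card_dvd_of_le hCT
  have hcard := SLTwoTori.card_centralizer hns hodd
  have ht : (x : M₂).trace ^ 2 ≠ 4 := fun h => by
    rw [hTdef, hcard, if_pos h] at hdvd
    have hco : Nat.Coprime k (Fintype.card F) := by
      rcases hk with rfl | rfl
      · exact (Nat.coprime_self_sub_left (by omega)).2 (Nat.coprime_one_left _)
      · exact Nat.coprime_self_add_left.2 (Nat.coprime_one_left (Fintype.card F))
    have := Nat.le_of_dvd (by norm_num) (hco.dvd_of_dvd_mul_right hdvd)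
    omega
  have hTk : Nat.card T = k := by
    rw [hTdef, hcard, if_neg ht] at hdvd ⊢
    have hle := Nat.le_of_dvd (by split_ifs <;> omega) hdvd
    rcases hk with rfl | rfl <;> split_ifs at hdvd hle ⊢ with hs
    · rfl
    · exfalso
      have h2 : Fintype.card F - 1 ∣ 2 := by
        have := Nat.dvd_sub hdvd (dvd_refl (Fintype.card F - 1))
        rwa [show Fintype.card F + 1 - (Fintype.card F - 1) = 2 by omega] at this
      have := Nat.le_of_dvd (by norm_num) h2
      omega
    · omega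
    · rfl
  have hCT' : C = T := Subgroup.eq_of_le_of_card_ge hCT (by rw [hTk, hC])
  have hNT : N = Subgroup.normalizer (T : Set SL₂) := by
    refine Subgroup.eq_of_le_of_card_ge (fun y hy => ?_) ?_
    · rw [← hCT']
      have hmap : ∀ z : SL₂, z ∈ N → ∀ w ∈ C, z * w * z⁻¹ ∈ C := fun z hz w hw =>
        Subgroup.mem_centralizer_iff.2 fun s hs => by
          have hs' := Subgroup.mem_centralizer_iff.1 hw _ ((Subgroup.mem_normalizer_iff'.1 hz (z⁻¹ * s)).2
            (by rwa [mul_inv_cancel_left]))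
          calc s * (z * w * z⁻¹) = z * ((z⁻¹ * s * z) * w) * z⁻¹ := by group
            _ = z * (w * (z⁻¹ * s * z)) * z⁻¹ := by rw [hs']
            _ = z * w * z⁻¹ * s := by group
      refine Subgroup.mem_normalizer_iff.2 fun w => ⟨hmap y hy w, fun h => ?_⟩
      have := hmap _ (inv_mem hy) _ h
      rwa [inv_inv, show y⁻¹ * (y * w * y⁻¹) * y = w by group] at this
    · rw [hNc, (SLTwoTori.torus_normalizer hodd ht).1, hTk]
  haveI : (T.subgroupOf N).Normal :=
    (Subgroup.normal_subgroupOf_iff_le_normalizer (hNT ▸ Subgroup.le_normalizer)).2 hNT.le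
  have hidx : (T.subgroupOf N).index = 2 := by
    have h := (T.subgroupOf N).card_mul_index
    rw [CfsgLib.Base.card_subgroupOf (hNT ▸ Subgroup.le_normalizer), hTk, hNc, mul_comm 2 k] at h
    exact Nat.eq_of_mul_eq_mul_left (by omega) h
  rw [card_primeTo_eq_classes (T.subgroupOf N) (fun a ha b hb =>
      Subtype.ext (SLTwoTori.centralizer_comm hns ha hb))
      (by rw [hidx]; exact fun h => hℓ ((Nat.prime_dvd_prime_iff_eq Fact.out Nat.prime_two).1 h))]
  have e := (SLTwoTori.torus_normalizer hodd ht).2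
  rw [← hTdef, hTk] at e
  rw [← e]
  exact congrArg (2 * ·) (card_conjClasses_of_mulEquiv (MulEquiv.subgroupCongr hNT))

/-- The structure of a Sylow two-subgroup. -/
lemma sylow_two_facts (hodd : Odd (Fintype.card F)) (S : Sylow 2 SL₂) :
    ((commutator (S : Subgroup SL₂)).index = 4 ∧
      ∃ z : (S : Subgroup SL₂), (z : SL₂) = -1 ∧ z ∈ commutator (S : Subgroup SL₂)) ∧
      ((Fintype.card F % 8 = 3 ∨ Fintype.card F % 8 = 5) → Nat.card (S : Subgroup SL₂) = 8) := by
  classical
  obtain ⟨g, h0, hSN, hScard⟩ := SLTwoTori.sylow_two_setup hodd S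
  have ht := SLTwoTori.trace_sq_ne_four_of_zero hodd h0
  have hg := SLTwoTori.not_scalar_of_trace_sq ht
  set T := Subgroup.centralizer ({g} : Set SL₂) with hT
  set v := (Nat.card T).factorization 2 with hv
  have hv2 : 2 ≤ v := (Nat.Prime.pow_dvd_iff_le_factorization Nat.prime_two Nat.card_pos.ne').1
    (SLTwoTori.four_dvd_card_centralizer hodd h0)
  set S' := (S : Subgroup SL₂) with hS'
  set C : Subgroup S' := T.subgroupOf S' with hC
  haveI : C.Normal := Subgroup.normal_subgroupOf_of_le_normalizer hSN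
  have hCle : Nat.card C ∣ Nat.card T :=
    Subgroup.card_dvd_of_injective ({ toFun := fun c => ⟨((c : S') : SL₂), Subgroup.mem_subgroupOf.1 c.2⟩
                                      map_one' := rfl
                                      map_mul' := fun _ _ => rfl } : C →* T)
      fun a b h => Subtype.ext (Subtype.ext (congrArg (fun t : T => (t : SL₂)) h))
  have hCv : Nat.card C ≤ 2 ^ v := by
    obtain ⟨j, hj⟩ := (S.isPGroup'.to_subgroup C).exists_card_eq
    rw [hj]
    exact Nat.pow_le_pow_right two_pos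
      ((Nat.Prime.pow_dvd_iff_le_factorization Nat.prime_two Nat.card_pos.ne').1 (hj ▸ hCle))
  have hinv : ∀ s ∈ S', s ∉ T → s * g * s⁻¹ = g⁻¹ := fun s hs hsT =>
    (SLTwoTori.conj_cases hodd ht (hSN hs)).resolve_left fun h => hsT (SLTwoTori.mem_centralizer_iff_conj.2 h)
  obtain ⟨w, hwT⟩ : ∃ w : S', w ∉ C := by
    by_contra! h
    have : Nat.card S' ≤ Nat.card C := Nat.card_le_card_of_injective (fun s => (⟨s, h s⟩ : C))
      fun a b e => congrArg (fun x : C => (x : S')) e
    have := pow_pos (two_pos (α := ℕ)) v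
    omega
  have hidx2 : C.index = 2 := by
    refine Subgroup.index_eq_two_iff.2 ⟨w, fun b => ?_⟩
    by_cases hb : b ∈ C
    · exact Or.inr ⟨hb, fun h => hwT ((Subgroup.mul_mem_cancel_left C hb).1 h)⟩
    · refine Or.inl ⟨?_, hb⟩
      have hbT : (b : SL₂) ∉ T := fun h => hb (Subgroup.mem_subgroupOf.2 h)
      have hwT' : (w : SL₂) ∉ T := fun h => hwT (Subgroup.mem_subgroupOf.2 h)
      rw [hC, Subgroup.mem_subgroupOf, Subgroup.coe_mul, SLTwoTori.mem_centralizer_iff_conj]
      calc (b : SL₂) * w * g * ((b : SL₂) * w)⁻¹ = b * ((w : SL₂) * g * (w : SL₂)⁻¹) * (b : SL₂)⁻¹ := by group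
        _ = ((b : SL₂) * g * (b : SL₂)⁻¹)⁻¹ := by rw [hinv _ w.2 hwT']; group
        _ = g := by rw [hinv _ b.2 hbT, inv_inv]
  have hCcard : Nat.card C = 2 ^ v := by
    have := C.card_mul_index
    rw [hidx2, hScard] at this
    omega
  haveI : IsCyclic T := SLTwoTori.isCyclic_torus ht
  haveI : IsCyclic C := isCyclic_of_injective
    ({ toFun := fun c => ⟨((c : S') : SL₂), Subgroup.mem_subgroupOf.1 c.2⟩
       map_one' := rfl
       map_mul' := fun _ _ => rfl } : C →* T)
    fun a b h => Subtype.ext (Subtype.ext (congrArg (fun t : T => (t : SL₂)) h))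
  obtain ⟨c, hc⟩ := IsCyclic.exists_generator (α := C)
  have hoc : orderOf (c : S') = 2 ^ v := by
    rw [Subgroup.orderOf_coe, orderOf_eq_card_of_forall_mem_zpowers hc, hCcard]
  have hwc : w * (c : S') * w⁻¹ = (c : S')⁻¹ := Subtype.ext (SLTwoTori.conj_eq_inv hg
    (hinv _ w.2 fun h => hwT (Subgroup.mem_subgroupOf.2 h)) (Subgroup.mem_subgroupOf.1 c.2))
  set Q : Subgroup S' := Subgroup.zpowers ((c : S') ^ 2) with hQ
  have hQle : Q ≤ commutator S' := by
    rw [hQ, Subgroup.zpowers_le]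
    have : ⁅(c : S'), w⁆ = (c : S') ^ 2 := by
      rw [commutatorElement_def, show (c : S') * w * (c : S')⁻¹ * w⁻¹ = c * (w * c * w⁻¹)⁻¹ by group, hwc,
        inv_inv, sq]
    rw [← this]
    exact Subgroup.commutator_mem_commutator (Subgroup.mem_top _) (Subgroup.mem_top _)
  have hQcard : 2 * Nat.card Q = 2 ^ v := by
    rw [hQ, Nat.card_zpowers, orderOf_pow, hoc]
    obtain ⟨u, hu⟩ : ∃ u, v = u + 1 := ⟨v - 1, by omega⟩
    rw [hu, pow_succ, Nat.gcd_mul_left_left, Nat.mul_div_cancel _ two_pos, mul_comm]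
  have hQidx : Q.index = 4 := by
    have h := Q.card_mul_index
    rw [hScard] at h
    have hpos : 0 < Nat.card Q := Nat.card_pos
    refine Nat.eq_of_mul_eq_mul_left hpos ?_
    omega
  haveI : Q.Normal := by
    have hwz : ∀ i : ℤ, w * ((c : S') ^ 2) ^ i * w⁻¹ = ((c : S') ^ 2) ^ (-i) := fun i => by
      rw [show w * ((c : S') ^ 2) ^ i * w⁻¹ = ((w * (c : S') * w⁻¹) ^ 2) ^ i by rw [conj_pow, conj_zpow], hwc,
        inv_pow, inv_zpow, zpow_neg]
    refine ⟨fun x hx s => ?_⟩
    obtain ⟨i, rfl⟩ := Subgroup.mem_zpowers_iff.1 hx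
    have hcs : ∀ t ∈ C, t * ((c : S') ^ 2) ^ i * t⁻¹ = ((c : S') ^ 2) ^ i := fun t ht => by
      obtain ⟨j, hj⟩ := Subgroup.mem_zpowers_iff.1 (hc ⟨t, ht⟩)
      rw [show t = (c : S') ^ j from (congrArg (fun x : C => (x : S')) hj).symm, ← zpow_natCast, ← zpow_mul,
        ← zpow_add, ← zpow_neg, ← zpow_add]
      congr 1; ring
    by_cases hs : s ∈ C
    · rw [hcs s hs]; exact hx
    · have hws : w⁻¹ * s ∈ C := by
        rw [Subgroup.mul_mem_iff_of_index_two hidx2]
        exact iff_of_false (fun h => hwT (inv_mem_iff.1 h)) hs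
      rw [show s * ((c : S') ^ 2) ^ i * s⁻¹ = w * ((w⁻¹ * s) * ((c : S') ^ 2) ^ i * (w⁻¹ * s)⁻¹) * w⁻¹ by group,
        hcs _ hws, hwz]
      exact Subgroup.zpow_mem _ (Subgroup.mem_zpowers _) _
  have hcomm : commutator S' ≤ Q := by
    haveI : IsMulCommutative (S' ⧸ Q) :=
      IsPGroup.isMulCommutative_of_card_eq_prime_sq (p := 2) (by rw [← Subgroup.index_eq_card, hQidx]; norm_num)
    rw [commutator_def, Subgroup.commutator_le]
    intro a _ b _
    rw [← QuotientGroup.eq_one_iff, ← QuotientGroup.mk'_apply, map_commutatorElement,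
      commutatorElement_eq_one_iff_mul_comm]
    exact IsMulCommutative.is_comm.comm _ _
  have he : commutator S' = Q := le_antisymm hcomm hQle
  refine ⟨⟨by rw [he, hQidx], ⟨(c : S') ^ 2 ^ (v - 1), ?_, ?_⟩⟩, fun h8 => ?_⟩
  · have h1 : ((c : S') ^ 2 ^ (v - 1)) * ((c : S') ^ 2 ^ (v - 1)) = 1 := by
      rw [← pow_add, ← two_mul, ← pow_succ', show v - 1 + 1 = v by omega, ← hoc, pow_orderOf_eq_one]
    have h2 : (c : S') ^ 2 ^ (v - 1) ≠ 1 := fun h => by
      have := Nat.le_of_dvd (pow_pos two_pos _) (orderOf_dvd_of_pow_eq_one h)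
      rw [hoc, Nat.pow_le_pow_iff_right (by norm_num)] at this
      omega
    exact ((SLTwoTori.sq_eq_one_iff hodd _).1 (congrArg Subtype.val h1)).resolve_left fun h => h2 (Subtype.ext h)
  · rw [he, show v - 1 = (v - 2) + 1 by omega, pow_succ', pow_mul]
    exact Subgroup.pow_mem _ (Subgroup.mem_zpowers _) _
  · have hcard2 := SLTwoTori.card_centralizer_trace_zero hodd h0
    have hv' : v = 2 := by
      refine le_antisymm ?_ hv2
      by_contra h
      have h8' := (Nat.Prime.pow_dvd_iff_le_factorization Nat.prime_two Nat.card_pos.ne').2 (show 3 ≤ v by omega)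
      rw [hcard2] at h8'
      split_ifs at h8' <;> omega
    rw [hScard, hv']
    norm_num

/-- The count for the prime two. -/
lemma card_primeTo_two (hodd : Odd (Fintype.card F)) (S : Sylow 2 SL₂) :
    Nat.card {ψ : IrrCharacter (Subgroup.normalizer ((S : Subgroup SL₂) : Set SL₂)) //
      ¬ 2 ∣ charDegree (ψ : Subgroup.normalizer ((S : Subgroup SL₂) : Set SL₂) → ℂ)} = 4 := by
  classical
  obtain ⟨⟨hidx, z₀, hz₀, hz₀c⟩, hS8⟩ := sylow_two_facts hodd S
  obtain ⟨hcen, hp1, hp3⟩ := Cfsg.Agent.S2431.result hodd S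
  set N := Subgroup.normalizer ((S : Subgroup SL₂) : Set SL₂) with hN
  set A := (S : Subgroup SL₂).subgroupOf N with hA
  let eA : A ≃* (S : Subgroup SL₂) := Subgroup.subgroupOfEquivOfLe Subgroup.le_normalizer
  have hAidx : (commutator A).index = 4 := by
    rw [← hidx, ← Chars.card_monoidHom_units, ← Chars.card_monoidHom_units]
    exact Nat.card_congr
      { toFun := fun f => f.comp eA.symm.toMonoidHom
        invFun := fun f => f.comp eA.toMonoidHom
        left_inv := fun f => MonoidHom.ext fun x => by simp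
        right_inv := fun f => MonoidHom.ext fun x => by simp }
  by_cases h1 : Fintype.card F % 8 = 1 ∨ Fintype.card F % 8 = 7
  · have hNS : N = (S : Subgroup SL₂) := hp1 h1
    have hAtop : A = ⊤ := by rw [hA, Subgroup.subgroupOf_eq_top, hNS]
    rw [card_odd_deg_pGroup (S.isPGroup'.of_equiv (MulEquiv.subgroupCongr hNS).symm),
      ← hidx, ← Chars.card_monoidHom_units, ← Chars.card_monoidHom_units]
    let e : N ≃* (S : Subgroup SL₂) := MulEquiv.subgroupCongr hNS
    exact Nat.card_congr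
      { toFun := fun f => f.comp e.symm.toMonoidHom
        invFun := fun f => f.comp e.toMonoidHom
        left_inv := fun f => MonoidHom.ext fun x => by simp
        right_inv := fun f => MonoidHom.ext fun x => by simp }
  obtain ⟨j, hj⟩ := id hodd
  have h3 : Fintype.card F % 8 = 3 ∨ Fintype.card F % 8 = 5 := by omega
  have hScard := hS8 h3
  have hNcard : Nat.card N = 24 := by rw [hN, hp3 h3]; rw [hScard]
  have hS2 : IsPGroup 2 A := S.isPGroup'.of_equiv eA.symm
  haveI hAn : A.Normal := (Subgroup.normal_subgroupOf_iff_le_normalizer Subgroup.le_normalizer).2 le_rfl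
  have hAcard : Nat.card A = 8 := by rw [Nat.card_congr eA.toEquiv, hScard]
  have hzc : (-1 : SL₂) ∈ Subgroup.center SL₂ := Subgroup.mem_center_iff.2 fun x => by simp
  let z : N := ⟨-1, Subgroup.le_normalizer (hz₀ ▸ z₀.2)⟩
  have hzcN : z ∈ Subgroup.center N :=
    Subgroup.mem_center_iff.2 fun x => Subtype.ext (Subgroup.mem_center_iff.1 hzc (x : SL₂))
  set Z : Subgroup N := Subgroup.zpowers z with hZ
  haveI : Z.Normal := ⟨fun x hx y => by
    obtain ⟨i, rfl⟩ := Subgroup.mem_zpowers_iff.1 hx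
    rw [Subgroup.mem_center_iff.1 (Subgroup.zpow_mem _ hzcN i) y, mul_inv_cancel_right]
    exact hx⟩
  have hoz : orderOf z = 2 := by
    rw [← Subgroup.orderOf_coe]
    refine orderOf_eq_prime (by show ((-1 : SL₂)) ^ 2 = 1; simp) ?_
    exact (SLTwoTori.one_ne_neg_one hodd).symm
  have hz2 : z ^ 2 = 1 := orderOf_dvd_iff_pow_eq_one.1 (dvd_of_eq hoz)
  have hMcard : Nat.card (N ⧸ Z) = 12 := by
    have := Z.card_mul_index
    rw [hNcard, show Nat.card Z = 2 by rw [hZ, Nat.card_zpowers, hoz]] at this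
    rw [← Subgroup.index_eq_card]
    omega
  have hzA : z ∈ A := Subgroup.mem_subgroupOf.2 (show (-1 : SL₂) ∈ (S : Subgroup SL₂) from hz₀ ▸ z₀.2)
  have hzA' : (⟨z, hzA⟩ : A) ∈ commutator A := by
    have e : (⟨z, hzA⟩ : A) = eA.symm z₀ := eA.injective (by
      rw [MulEquiv.apply_symm_apply]
      exact Subtype.ext hz₀.symm)
    have hm : (commutator (S : Subgroup SL₂)).map eA.symm.toMonoidHom ≤ commutator A := by
      rw [commutator_def, commutator_def, Subgroup.map_commutator]
      exact Subgroup.commutator_mono le_top le_top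
    rw [e]
    exact hm (Subgroup.mem_map_of_mem _ hz₀c)
  set V := A.map (QuotientGroup.mk' Z) with hV
  haveI : V.Normal := hAn.map _ (QuotientGroup.mk'_surjective Z)
  have hZA : Z ≤ A := by rw [hZ, Subgroup.zpowers_le]; exact hzA
  have hVcard : Nat.card V = 4 := by
    have h := V.card_mul_index
    rw [hMcard, hV, Subgroup.index_map_eq A (QuotientGroup.mk'_surjective Z) (by rwa [QuotientGroup.ker_mk'])] at h
    have h' := A.card_mul_index
    rw [hAcard, hNcard] at h'
    rw [hV]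
    generalize Nat.card (A.map (QuotientGroup.mk' Z)) = a at *
    obtain e : A.index = 3 := by omega
    rw [e] at h
    omega
  have hne : ¬ IsMulCommutative (N ⧸ Z) := by
    intro hcm
    obtain ⟨x, hx⟩ := exists_prime_orderOf_dvd_card' (G := N) 3 (by rw [hNcard]; norm_num)
    have hxc : (x : SL₂) ∈ Subgroup.centralizer ((S : Subgroup SL₂) : Set SL₂) := by
      refine Subgroup.mem_centralizer_iff.2 fun s hs => ?_
      let s' : N := ⟨s, Subgroup.le_normalizer hs⟩
      have hq : x * s' * x⁻¹ * s'⁻¹ ∈ Z := by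
        rw [← QuotientGroup.eq_one_iff]
        rw [QuotientGroup.mk_mul, QuotientGroup.mk_mul, QuotientGroup.mk_mul, QuotientGroup.mk_inv,
          QuotientGroup.mk_inv, hcm.is_comm.comm (x : N ⧸ Z) (s' : N ⧸ Z), mul_inv_cancel_right, mul_inv_cancel]
      obtain ⟨i, hi⟩ := Subgroup.mem_zpowers_iff.1 hq
      set t := z ^ i with ht
      have ht2 : t * t = 1 := by
        rw [ht, ← zpow_add, ← two_mul, zpow_mul, zpow_ofNat, hz2, one_zpow]
      have htc : ∀ y : N, y * t = t * y := fun y => (Subgroup.mem_center_iff.1 (Subgroup.zpow_mem _ hzcN i) y)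
      have h1 : x * s' * x⁻¹ = t * s' := by rw [hi]; group
      have h3' : x ^ 3 = 1 := by rw [← hx, pow_orderOf_eq_one]
      have h2 : x ^ 3 * s' * (x ^ 3)⁻¹ = t * t * t * s' := by
        have step : ∀ a : N, x * (t * a) * x⁻¹ = t * (x * a * x⁻¹) := fun a => by
          rw [← mul_assoc x, htc x]; group
        calc x ^ 3 * s' * (x ^ 3)⁻¹ = x * (x * (x * s' * x⁻¹) * x⁻¹) * x⁻¹ := by
              rw [pow_succ, pow_succ, pow_one]; simp only [mul_inv_rev, mul_assoc]
          _ = t * t * t * s' := by rw [h1, step, h1, step, step, h1]; simp only [mul_assoc]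
      rw [h3', one_mul, inv_one, mul_one, ht2, one_mul] at h2
      have ht1 : t = 1 := (mul_eq_right.1 h2.symm)
      rw [ht1, one_mul] at h1
      exact (congrArg Subtype.val (mul_inv_eq_iff_eq_mul.1 h1)).symm
    rw [hcen] at hxc
    have h2 : (x : SL₂) ^ 2 = 1 := by
      rw [sq]
      rcases SLTwoTori.scalar_eq (mem_center_sl.1 hxc) with e | e <;> rw [e] <;> simp
    have h4 := orderOf_dvd_of_pow_eq_one h2
    rw [Subgroup.orderOf_coe, hx] at h4
    norm_num at h4
  rw [← card_eq_four_of_twelve hMcard hne V hVcard]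
  refine (Nat.card_congr ((Chars.quotientIrrEquiv Z).trans (Equiv.subtypeEquivRight fun χ => ?_))).symm
  constructor
  · intro hχ h
    haveI : Fintype V := Fintype.ofFinite V
    obtain ⟨ψ, hψ, e⟩ := Chars.exists_deflate_irr Z χ.2 hχ
    have hVc : ∀ a ∈ V, ∀ b ∈ V, a * b = b * a := fun a ha b hb =>
      congrArg Subtype.val ((IsPGroup.isMulCommutative_of_card_eq_prime_sq (p := 2) (G := V)
        (by rw [hVcard]; norm_num)).is_comm.comm ⟨a, ha⟩ ⟨b, hb⟩)
    obtain ⟨k, hk, hkd⟩ := CfsgLib.CharsMore.ito_degree_dvd V hVc hψ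
    have hk' : charDegree (χ : N → ℂ) = k := by
      have h1 : (χ : N → ℂ) 1 = (k : ℂ) := by rw [congrFun e 1, QuotientGroup.mk_one, hk]
      rw [CharApps.deg_eq, Nat.cast_inj] at h1
      exact h1
    have hVi := V.card_mul_index
    rw [hVcard, hMcard] at hVi
    rw [show V.index = 3 by omega] at hkd
    rw [hk'] at h
    have := Nat.le_of_dvd (by norm_num) hkd
    interval_cases k <;> omega
  · intro hχ
    have h := apply_eq_one_of_odd_deg hS2 (z := ⟨z, hzA⟩) hzcN hzA' χ hχ
    intro y hy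
    obtain ⟨i, rfl⟩ := Subgroup.mem_zpowers_iff.1 hy
    rcases Int.even_or_odd i with ⟨m, rfl⟩ | ⟨m, rfl⟩
    · rw [← two_mul, zpow_mul, zpow_ofNat, hz2, one_zpow]
    · rw [zpow_add_one, zpow_mul, zpow_ofNat, hz2, one_zpow, one_mul]
      exact h

/-- The McKay equality. -/
theorem mckay_sl_two (hodd : Odd (Fintype.card F)) (ℓ : ℕ) [hℓ : Fact ℓ.Prime] (S : Sylow ℓ SL₂) :
    Nat.card {χ : IrrCharacter SL₂ // ¬ ℓ ∣ charDegree (χ : SL₂ → ℂ)} =
      Nat.card {ψ : IrrCharacter (Subgroup.normalizer ((S : Subgroup SL₂) : Set SL₂)) //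
        ¬ ℓ ∣ charDegree (ψ : Subgroup.normalizer ((S : Subgroup SL₂) : Set SL₂) → ℂ)} := by
  classical
  obtain ⟨hp, h2, hm, hq⟩ := card_primeTo_cases hodd hℓ.out
  by_cases hd : ℓ ∣ Fintype.card F
  · rw [hp hd, card_primeTo_defining hodd hd S]
  by_cases h22 : ℓ = 2
  · subst h22
    rw [h2 rfl, card_primeTo_two hodd S]
  by_cases hdm : ℓ ∣ Fintype.card F - 1
  · have := (hm h22 hdm).trans (card_primeTo_torus hodd h22 (Or.inl rfl) hdm S).symm
    omega
  by_cases hdp : ℓ ∣ Fintype.card F + 1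
  · have := (hq h22 hdp).trans (card_primeTo_torus hodd h22 (Or.inr rfl) hdp S).symm
    omega
  have hG : ¬ ℓ ∣ Nat.card SL₂ := by
    rw [card_sl, show Fintype.card F ^ 2 - 1 = (Fintype.card F + 1) * (Fintype.card F - 1) by
      simpa using Nat.sq_sub_sq (Fintype.card F) 1]
    intro h
    rcases hℓ.out.dvd_mul.1 h with h | h
    · exact hd h
    rcases hℓ.out.dvd_mul.1 h with h | h
    exacts [hdp h, hdm h]
  have hS : (S : Subgroup SL₂) = ⊥ := by
    rw [← Subgroup.card_eq_one, S.card_eq_multiplicity, Nat.factorization_eq_zero_of_not_dvd hG, pow_zero]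
  have hN : Subgroup.normalizer ((S : Subgroup SL₂) : Set SL₂) = ⊤ := by
    rw [hS]
    exact Subgroup.normalizer_eq_top_iff.2 inferInstance
  rw [card_primeTo_eq_classes (⊥ : Subgroup SL₂) (by simp) (by rwa [Subgroup.index_bot]),
    card_primeTo_eq_classes (⊥ : Subgroup (Subgroup.normalizer ((S : Subgroup SL₂) : Set SL₂))) (by simp)
      (by rw [Subgroup.index_bot]; exact fun h => hG (h.trans (Subgroup.card_subgroup_dvd_card _)))]
  exact card_conjClasses_of_mulEquiv (Subgroup.topEquiv.symm.trans (MulEquiv.subgroupCongr hN.symm))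

end CfsgLib.CharsMore.TwoByTwo
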