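import Cfsg.Agent.Lib.CharsMore.TwoByTwo.GL
import Cfsg.Agent.S2331

/-!
# The irreducible characters of the special linear group of degree two: the principal series
-/

set_option autoImplicit false
set_option linter.unusedSectionVars false
set_option linter.style.haveILetI false

namespace CfsgLib.CharsMore.TwoByTwo

open Cfsg CfsgLib.GLTwo
open CfsgLib.Involutions.PrincipalSeries (mem_upper borelCharSL borelCharSL_apply inner_sl)
open scoped ComplexConjugate

variable {F : Type*} [Field F] [Fintype F] [DecidableEq F]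

local notation "SL₂" => Matrix.SpecialLinearGroup (Fin 2) F
local notation "ι" => Matrix.SpecialLinearGroup.toGL (n := Fin 2) (R := F)

variable (F) in
/-- The upper triangular subgroup of the special linear group. -/
abbrev borelSL : Subgroup (Matrix.SpecialLinearGroup (Fin 2) F) :=
  (upperTriangularGL 2 F).comap Matrix.SpecialLinearGroup.toGL

noncomputable local instance : Fintype ↥(borelSL F) := Fintype.ofFinite _
noncomputable local instance : DecidableEq (MulChar F ℂ) := _root_.Classical.decEq _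
noncomputable local instance : Fintype (IrrCharacter SL₂) := Chars.irrFintype _
noncomputable local instance : DecidableEq (IrrCharacter SL₂) := _root_.Classical.decEq _

lemma mem_borelSL {g : SL₂} : g ∈ borelSL F ↔ (g : Matrix (Fin 2) (Fin 2) F) 1 0 = 0 := mem_upper

lemma coe_toGL (g : SL₂) : ((ι g : GL (Fin 2) F) : Matrix (Fin 2) (Fin 2) F) = g := rfl

/-- The principal series function of the special linear group. -/
noncomputable def piSL (α : MulChar F ℂ) : SL₂ → ℂ :=
  indFun (borelSL F) fun b => α (((b : SL₂) : Matrix (Fin 2) (Fin 2) F) 0 0)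

/-- The upper unitriangular element with corner `x`. -/
def uSL (x : F) : SL₂ := mkSL !![1, x; 0, 1] (by simp [Matrix.det_fin_two])

lemma coe_uSL (x : F) : ((uSL x : SL₂) : Matrix (Fin 2) (Fin 2) F) = !![1, x; 0, 1] := rfl

lemma uSL_zero : (uSL 0 : SL₂) = 1 := by
  refine Subtype.ext ?_
  rw [coe_uSL, Matrix.SpecialLinearGroup.coe_one, ← Matrix.one_fin_two]

/-- The sum of a function over the upper unitriangular subgroup. -/
noncomputable def uSumSL (χ : SL₂ → ℂ) : ℂ := ∑ x : F, χ (uSL x)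

lemma card_sl : Nat.card SL₂ = Fintype.card F * (Fintype.card F ^ 2 - 1) := by
  rw [CfsgLib.Classical.card_SL_two, Nat.card_eq_fintype_card]

lemma diag_mul (b : ↥(borelSL F)) :
    ((b : SL₂) : Matrix (Fin 2) (Fin 2) F) 0 0 * ((b : SL₂) : Matrix (Fin 2) (Fin 2) F) 1 1 = 1 := by
  have := (b : SL₂).2
  rwa [Matrix.det_fin_two, mem_borelSL.1 b.2, mul_zero, sub_zero] at this

lemma card_borelSL : Nat.card ↥(borelSL F) = (Fintype.card F - 1) * Fintype.card F := by
  rw [Nat.card_congr (α := ↥(borelSL F)) (β := Fˣ × F)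
    { toFun := fun b => (⟨((b : SL₂) : Matrix (Fin 2) (Fin 2) F) 0 0, ((b : SL₂) : Matrix (Fin 2) (Fin 2) F) 1 1,
        diag_mul b, by rw [mul_comm]; exact diag_mul b⟩, ((b : SL₂) : Matrix (Fin 2) (Fin 2) F) 0 1)
      invFun := fun p => ⟨mkSL !![(p.1 : F), p.2; 0, (↑p.1⁻¹ : F)] (by simp [Matrix.det_fin_two]),
        mem_borelSL.2 (by simp [coe_mkSL])⟩
      left_inv := fun b => by
        apply Subtype.ext; apply Subtype.ext
        ext i j
        fin_cases i <;> fin_cases j <;> simp [coe_mkSL, mem_borelSL.1 b.2]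
      right_inv := fun p => by ext <;> simp [coe_mkSL] }, Nat.card_prod, Nat.card_units, Nat.card_eq_fintype_card]

lemma index_borelSL : (borelSL F).index = Fintype.card F + 1 := by
  have h := (borelSL F).card_mul_index
  rw [card_borelSL, card_sl] at h
  have hq : 1 < Fintype.card F := Fintype.one_lt_card
  obtain ⟨k, hk⟩ : ∃ k, Fintype.card F = k + 1 := ⟨Fintype.card F - 1, by omega⟩
  rw [hk, Nat.add_sub_cancel] at h
  rw [hk]
  have e : (k + 1) ^ 2 - 1 = k * (k + 2) := by ring_nf; omega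
  rw [e] at h
  exact Nat.eq_of_mul_eq_mul_left (Nat.mul_pos (by omega) (by omega) : 0 < k * (k + 1)) (h.trans (by ring))

lemma isChar_piSL (α : MulChar F ℂ) : IsCharacter SL₂ (piSL α) := by
  rw [piSL]
  refine Chars.isCharacter_indFun _ ?_
  have := Chars.isCharacter_of_irr (Chars.isIrrCharacter_linear (borelCharSL α))
  simpa only [borelCharSL_apply] using this

lemma piSL_one (α : MulChar F ℂ) : piSL α 1 = (Fintype.card F : ℂ) + 1 := by
  rw [piSL, Chars.indFun_one_apply, index_borelSL]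
  simp

lemma inner_piSL (α β : MulChar F ℂ) : classInner (piSL α) (piSL β) =
    (if α = β then 1 else 0) + (if α = β⁻¹ then 1 else 0) :=
  inner_sl α β

lemma piSL_inv (α : MulChar F ℂ) : piSL α⁻¹ = piSL α := by
  have h0 : classInner (piSL α⁻¹ - piSL α) (piSL α⁻¹ - piSL α) = 0 := by
    simp only [Chars.inner_sub_left, Chars.inner_sub_right, inner_piSL, inv_inv]
    by_cases h : α = α⁻¹
    · simp [← h]
    · simp [h, Ne.symm h]
  exact sub_eq_zero.1 ((Chars.inner_self_eq_zero_iff _).1 h0)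

lemma isIrr_piSL {α : MulChar F ℂ} (h : α ≠ α⁻¹) : IsIrrCharacter SL₂ (piSL α) :=
  CharApps.isIrr_of_inner_self (isChar_piSL α) (by simp [inner_piSL, h])

lemma piSL_eq_iff {α β : MulChar F ℂ} (h : α ≠ α⁻¹) : piSL β = piSL α ↔ β = α ∨ β = α⁻¹ := by
  constructor
  · intro e
    by_contra hn
    rw [not_or] at hn
    have h1 := inner_piSL β α
    rw [e, inner_piSL] at h1
    simp [h, hn.1, hn.2] at h1
  · rintro (rfl | rfl)
    · rfl
    · exact piSL_inv α

lemma inner_piSL_one_one : classInner (piSL (1 : MulChar F ℂ)) (fun _ : SL₂ => (1 : ℂ)) = 1 := by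
  rw [piSL, Chars.inner_indFun _ _ (fun _ _ => rfl)]
  have h := Chars.inner_one_one (G := ↥(borelSL F))
  convert h using 2
  funext b
  exact MulChar.one_apply (IsUnit.mk0 _ (left_ne_zero_of_mul_eq_one (diag_mul b)))

/-- The Steinberg function of the special linear group. -/
noncomputable def stSL : SL₂ → ℂ := piSL (1 : MulChar F ℂ) - fun _ => 1

lemma piSL_one_eq : piSL (1 : MulChar F ℂ) = stSL + fun _ : SL₂ => (1 : ℂ) := (sub_add_cancel _ _).symm

lemma stSL_one : (stSL : SL₂ → ℂ) 1 = (Fintype.card F : ℂ) := by simp [stSL, piSL_one]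

lemma isIrr_stSL : IsIrrCharacter SL₂ stSL := by
  refine Chars.irr_of_norm_one ⟨_, _, isChar_piSL 1, Chars.isCharacter_one, rfl⟩ ?_ (by simp [stSL_one])
  rw [stSL, Chars.inner_sub_left, Chars.inner_sub_right, Chars.inner_sub_right, inner_piSL,
    inner_piSL_one_one, Chars.inner_one_one, ← inner_nat_comm (isChar_piSL 1) Chars.isCharacter_one,
    inner_piSL_one_one]
  simp

lemma uSumSL_eq {χ : SL₂ → ℂ} (hχ : IsClassFunction SL₂ χ) :
    uSumSL χ = (Fintype.card F : ℂ) * ∑ α : MulChar F ℂ, classInner χ (piSL α) := by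
  classical
  have h1 : 1 < Fintype.card F := Fintype.one_lt_card
  have hq1 : ((Fintype.card F : ℂ) - 1) ≠ 0 := sub_ne_zero.2 (by exact_mod_cast (by omega : Fintype.card F ≠ 1))
  have hqc : ((Fintype.card F - 1 : ℕ) : ℂ) = (Fintype.card F : ℂ) - 1 := by push_cast [h1.le]; rfl
  have hq0 : (Fintype.card F : ℂ) ≠ 0 := by exact_mod_cast (by omega : Fintype.card F ≠ 0)
  have e1 : ∑ α : MulChar F ℂ, classInner χ (piSL α) =
      (Nat.card ↥(borelSL F) : ℂ)⁻¹ * ∑ b : ↥(borelSL F), χ b *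
        (if ((b : SL₂) : Matrix (Fin 2) (Fin 2) F) 0 0 = 1 then (Fintype.card F : ℂ) - 1 else 0) := by
    simp only [piSL, Chars.inner_indFun_right _ _ hχ, Chars.inner_def]
    rw [← Finset.mul_sum, Finset.sum_comm]
    refine congrArg₂ (· * ·) rfl (Finset.sum_congr rfl fun b _ => ?_)
    rw [← Finset.mul_sum, ← map_sum, sum_mulChar_apply (left_ne_zero_of_mul_eq_one (diag_mul b))]
    refine congrArg₂ (· * ·) rfl ?_
    split_ifs <;> simp [hqc]
  have e2 : ∑ b : ↥(borelSL F), χ b *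
        (if ((b : SL₂) : Matrix (Fin 2) (Fin 2) F) 0 0 = 1 then (Fintype.card F : ℂ) - 1 else 0) =
      ((Fintype.card F : ℂ) - 1) * uSumSL χ := by
    rw [uSumSL, Finset.mul_sum]
    symm
    refine Finset.sum_bij_ne_zero (fun x _ _ => ⟨uSL x, mem_borelSL.2 rfl⟩) (fun _ _ _ => Finset.mem_univ _)
      (fun x _ _ y _ _ h => ?_) (fun b _ hb => ?_) (fun x _ _ => ?_)
    · simpa [coe_uSL] using congrArg (fun b : ↥(borelSL F) =>
        ((b : SL₂) : Matrix (Fin 2) (Fin 2) F) 0 1) h
    · have h00 : ((b : SL₂) : Matrix (Fin 2) (Fin 2) F) 0 0 = 1 := by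
        by_contra h; simp [h] at hb
      have h11 : ((b : SL₂) : Matrix (Fin 2) (Fin 2) F) 1 1 = 1 := by
        have := diag_mul b
        rwa [h00, one_mul] at this
      have hub : b = (⟨uSL (((b : SL₂) : Matrix (Fin 2) (Fin 2) F) 0 1), mem_borelSL.2 rfl⟩ :
          ↥(borelSL F)) := by
        refine Subtype.ext (Subtype.ext ?_)
        ext i j
        fin_cases i <;> fin_cases j <;> simp [coe_uSL, h00, h11, mem_borelSL.1 b.2]
      refine ⟨_, Finset.mem_univ _, ?_, hub.symm⟩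
      rw [hub] at hb
      simp [coe_uSL] at hb ⊢
      tauto
    · simp [coe_uSL]; ring
  rw [e1, e2, card_borelSL, Nat.cast_mul, hqc]
  field_simp

lemma sum_inner_piSL (α : MulChar F ℂ) : ∑ β : MulChar F ℂ, classInner (piSL α) (piSL β) = 2 := by
  simp only [inner_piSL, Finset.sum_add_distrib]
  rw [Finset.sum_ite_eq, if_pos (Finset.mem_univ _), Finset.sum_eq_single α⁻¹]
  · norm_num
  · intro β _ hb; rw [if_neg]; rintro rfl; exact hb (inv_inv _).symm
  · simp

lemma uSumSL_piSL (α : MulChar F ℂ) : uSumSL (piSL α) = 2 * (Fintype.card F : ℂ) := by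
  rw [uSumSL_eq (Chars.isClassFunction_of_isCharacter (isChar_piSL α)), sum_inner_piSL, mul_comm]

lemma uSumSL_add (χ ψ : SL₂ → ℂ) : uSumSL (χ + ψ) = uSumSL χ + uSumSL ψ := Finset.sum_add_distrib

lemma uSumSL_one : uSumSL (fun _ : SL₂ => (1 : ℂ)) = (Fintype.card F : ℂ) := by simp [uSumSL]

lemma uSumSL_stSL : uSumSL (stSL : SL₂ → ℂ) = (Fintype.card F : ℂ) := by
  have h := uSumSL_piSL (1 : MulChar F ℂ)
  rw [piSL_one_eq, uSumSL_add, uSumSL_one] at h
  linear_combination h

lemma principal_ne_stSL : (fun _ : SL₂ => (1 : ℂ)) ≠ stSL := fun h => by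
  have := congrFun h 1
  rw [stSL_one] at this
  exact (Fintype.one_lt_card (α := F)).ne (by exact_mod_cast this)

/-- A character orthogonal to the whole principal series. -/
def IsCuspSL (χ : SL₂ → ℂ) : Prop := ∀ α : MulChar F ℂ, classInner χ (piSL α) = 0

lemma IsCuspSL.uSum {χ : SL₂ → ℂ} (hχ : IsClassFunction SL₂ χ) (h : IsCuspSL χ) : uSumSL χ = 0 := by
  rw [uSumSL_eq hχ, Finset.sum_eq_zero (fun α _ => h α), mul_zero]

/-- Every irreducible character is principal, Steinberg, principal series, a half, or cuspidal. -/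
lemma sl_cases (χ : IrrCharacter SL₂) :
    (χ : SL₂ → ℂ) = (fun _ => 1) ∨ (χ : SL₂ → ℂ) = stSL ∨
      (∃ α, α ≠ α⁻¹ ∧ (χ : SL₂ → ℂ) = piSL α) ∨
      (∃ α, α ≠ 1 ∧ α = α⁻¹ ∧ classInner (χ : SL₂ → ℂ) (piSL α) ≠ 0) ∨
      IsCuspSL (χ : SL₂ → ℂ) := by
  by_cases hc : IsCuspSL (χ : SL₂ → ℂ)
  · tauto
  simp only [IsCuspSL, not_forall] at hc
  obtain ⟨α, hα⟩ := hc
  by_cases h1 : α = 1
  · subst h1
    rw [piSL_one_eq, Chars.inner_add_right, Chars.inner_irr_of_isIrr χ.2 isIrr_stSL,
      Chars.inner_irr_of_isIrr χ.2 Chars.isIrrCharacter_one] at hα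
    by_contra hn
    simp only [not_or] at hn
    simp [hn.1, hn.2.1] at hα
  · by_cases h2 : α = α⁻¹
    · exact Or.inr (Or.inr (Or.inr (Or.inl ⟨α, h1, h2, hα⟩)))
    · refine Or.inr (Or.inr (Or.inl ⟨α, h2, ?_⟩))
      by_contra hne
      exact hα (inner_irr_of_ne χ (isIrr_piSL h2) hne)

/-- The Steinberg character as a bundled irreducible character. -/
noncomputable def stIrrSL : IrrCharacter SL₂ := ⟨stSL, isIrr_stSL⟩

/-- The principal series as bundled characters, junk at the real characters. -/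
noncomputable def pIrrSL (α : MulChar F ℂ) : IrrCharacter SL₂ :=
  if h : α = α⁻¹ then Chars.principal _ else ⟨_, isIrr_piSL h⟩

lemma pIrrSL_val {α : MulChar F ℂ} (h : α ≠ α⁻¹) : (pIrrSL α : SL₂ → ℂ) = piSL α := by
  rw [pIrrSL, dif_neg h]

/-- The irreducible principal series. -/
noncomputable def pSetSL : Finset (IrrCharacter SL₂) :=
  (Finset.univ.filter fun α : MulChar F ℂ => α ≠ α⁻¹).image pIrrSL

open _root_.Classical in
/-- The cuspidal characters. -/
noncomputable def cSetSL : Finset (IrrCharacter SL₂) :=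
  Finset.univ.filter fun χ => IsCuspSL (χ : SL₂ → ℂ)

lemma mem_cSetSL {χ : IrrCharacter SL₂} : χ ∈ cSetSL ↔ IsCuspSL (χ : SL₂ → ℂ) := by simp [cSetSL]

lemma mem_pSetSL {χ : IrrCharacter SL₂} :
    χ ∈ pSetSL ↔ ∃ α, α ≠ α⁻¹ ∧ (χ : SL₂ → ℂ) = piSL α := by
  constructor
  · intro h
    obtain ⟨α, hα, rfl⟩ := Finset.mem_image.1 h
    exact ⟨α, (Finset.mem_filter.1 hα).2, pIrrSL_val (Finset.mem_filter.1 hα).2⟩
  · rintro ⟨α, hα, e⟩
    exact Finset.mem_image.2 ⟨α, by simp [hα], Subtype.ext ((pIrrSL_val hα).trans e.symm)⟩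

lemma deg_eq_of_val {χ : IrrCharacter SL₂} {m : ℕ} (h : (χ : SL₂ → ℂ) 1 = (m : ℂ)) :
    charDegree (χ : SL₂ → ℂ) = m := by
  rw [CharApps.deg_eq] at h
  exact_mod_cast h

lemma deg_principal : charDegree ((Chars.principal SL₂ : IrrCharacter SL₂) : SL₂ → ℂ) = 1 :=
  deg_eq_of_val (by simp [Chars.principal_apply])

lemma deg_stIrrSL : charDegree ((stIrrSL : IrrCharacter SL₂) : SL₂ → ℂ) = Fintype.card F :=
  deg_eq_of_val stSL_one

lemma deg_pSetSL {χ : IrrCharacter SL₂} (h : χ ∈ pSetSL) :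
    charDegree (χ : SL₂ → ℂ) = Fintype.card F + 1 := by
  obtain ⟨α, -, e⟩ := mem_pSetSL.1 h
  exact deg_eq_of_val (by rw [e, piSL_one]; push_cast; rfl)

lemma inner_one_piSL_one : classInner (fun _ : SL₂ => (1 : ℂ)) (piSL (1 : MulChar F ℂ)) = 1 := by
  rw [inner_nat_comm Chars.isCharacter_one (isChar_piSL 1), inner_piSL_one_one]

lemma inner_stSL_piSL_one : classInner (stSL : SL₂ → ℂ) (piSL (1 : MulChar F ℂ)) = 1 := by
  rw [piSL_one_eq, Chars.inner_add_right, Chars.inner_irr_self ⟨_, isIrr_stSL⟩,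
    inner_irr_of_ne ⟨_, isIrr_stSL⟩ Chars.isIrrCharacter_one (Ne.symm principal_ne_stSL), add_zero]

lemma principal_notMem_cSetSL : Chars.principal SL₂ ∉ cSetSL (F := F) := fun h =>
  one_ne_zero (inner_one_piSL_one.symm.trans (mem_cSetSL.1 h 1))

lemma stIrrSL_notMem_cSetSL : stIrrSL ∉ cSetSL (F := F) := fun h =>
  one_ne_zero (inner_stSL_piSL_one.symm.trans (mem_cSetSL.1 h 1))

lemma disjoint_pSetSL_cSetSL : Disjoint (pSetSL (F := F)) cSetSL := by
  refine Finset.disjoint_left.2 fun χ hp hc => ?_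
  obtain ⟨α, hα, e⟩ := mem_pSetSL.1 hp
  have h := mem_cSetSL.1 hc α
  rw [e, inner_piSL] at h
  simp [hα] at h

lemma two_mul_card_pSetSL : 2 * (pSetSL (F := F)).card =
    (Finset.univ.filter fun α : MulChar F ℂ => α ≠ α⁻¹).card := by
  have h := Finset.card_eq_sum_card_image (pIrrSL (F := F))
    (Finset.univ.filter fun α : MulChar F ℂ => α ≠ α⁻¹)
  rw [Finset.sum_congr rfl (g := fun _ => 2) fun χ hχ => ?_, Finset.sum_const, smul_eq_mul] at h
  · rw [mul_comm, pSetSL, ← h]
  · obtain ⟨α, hα, rfl⟩ := Finset.mem_image.1 hχ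
    have hα' : α ≠ α⁻¹ := (Finset.mem_filter.1 hα).2
    rw [Finset.card_eq_two]
    refine ⟨α, α⁻¹, hα', ?_⟩
    ext β
    simp only [Finset.mem_filter, Finset.mem_univ, true_and, Finset.mem_insert, Finset.mem_singleton]
    constructor
    · rintro ⟨hb, e⟩
      have e' := congrArg Subtype.val e
      rw [pIrrSL_val hb, pIrrSL_val hα'] at e'
      exact (piSL_eq_iff hα').1 e'
    · intro h'
      have hb : β ≠ β⁻¹ := by
        rcases h' with rfl | rfl
        · exact hα'
        · rw [inv_inv]; exact hα'.symm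
      refine ⟨hb, Subtype.ext ?_⟩
      rw [pIrrSL_val hb, pIrrSL_val hα']
      exact (piSL_eq_iff hα').2 h'

section Even

variable [CharP F 2]

lemma eq_one_of_eq_inv {α : MulChar F ℂ} (h : α = α⁻¹) : α = 1 := by
  refine MulChar.ext fun a => ?_
  obtain ⟨b, hb⟩ := FiniteField.isSquare_of_char_two (ringChar.eq F 2) (a : F)
  have hb0 : b ≠ 0 := fun e => a.ne_zero (by rw [hb, e, mul_zero])
  have h1 : α b * α⁻¹ b = 1 := by
    rw [← MulChar.mul_apply, mul_inv_cancel]
    exact MulChar.one_apply (IsUnit.mk0 b hb0)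
  rw [← h, ← map_mul, ← hb] at h1
  rw [h1, MulChar.one_apply_coe]

lemma two_mul_card_pSetSL_even : 2 * (pSetSL (F := F)).card + 2 = Fintype.card F := by
  rw [two_mul_card_pSetSL]
  have h : (Finset.univ.filter fun α : MulChar F ℂ => α ≠ α⁻¹) = Finset.univ.erase 1 := by
    ext α
    simp only [Finset.mem_filter, Finset.mem_univ, true_and, Finset.mem_erase, and_true]
    exact ⟨fun h e => h (by rw [e, inv_one]), fun h e => h (eq_one_of_eq_inv e)⟩
  rw [h, Finset.card_erase_of_mem (Finset.mem_univ _), Finset.card_univ, card_mulChar]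
  have : 1 < Fintype.card F := Fintype.one_lt_card
  omega

lemma sl_cases_even (χ : IrrCharacter SL₂) :
    χ = Chars.principal _ ∨ χ = stIrrSL ∨ χ ∈ pSetSL ∨ χ ∈ cSetSL := by
  rcases sl_cases χ with h | h | h | ⟨α, h1, h2, -⟩ | h
  · exact Or.inl (Subtype.ext h)
  · exact Or.inr (Or.inl (Subtype.ext h))
  · exact Or.inr (Or.inr (Or.inl (mem_pSetSL.2 h)))
  · exact absurd (eq_one_of_eq_inv h2) h1
  · exact Or.inr (Or.inr (Or.inr (mem_cSetSL.2 h)))

lemma sl_partition_even {M : Type*} [AddCommMonoid M] (f : IrrCharacter SL₂ → M) :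
    ∑ χ : IrrCharacter SL₂, f χ =
      f (Chars.principal _) + f stIrrSL + ∑ χ ∈ pSetSL, f χ + ∑ χ ∈ cSetSL, f χ := by
  have h1 : (Chars.principal SL₂ : IrrCharacter SL₂) ≠ stIrrSL := fun e =>
    principal_ne_stSL (congrArg Subtype.val e)
  have hd : ∀ χ ∈ pSetSL (F := F), χ ≠ Chars.principal _ ∧ χ ≠ stIrrSL := fun χ h => by
    have hq := Fintype.one_lt_card (α := F)
    constructor <;> rintro rfl
    · have := (deg_pSetSL h).symm.trans deg_principal; omega
    · have := (deg_pSetSL h).symm.trans deg_stIrrSL; omega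
  rw [show (Finset.univ : Finset (IrrCharacter SL₂)) =
      (({Chars.principal _, stIrrSL} : Finset (IrrCharacter SL₂)) ∪ pSetSL) ∪ cSetSL by
    ext χ
    simpa [Finset.mem_union, or_assoc] using sl_cases_even χ,
    Finset.sum_union, Finset.sum_union, Finset.sum_pair h1]
  · refine Finset.disjoint_left.2 fun χ ha hb => ?_
    simp only [Finset.mem_insert, Finset.mem_singleton] at ha
    exact ha.elim (hd χ hb).1 (hd χ hb).2
  · refine Finset.disjoint_left.2 fun χ ha hb => ?_
    simp only [Finset.mem_union, Finset.mem_insert, Finset.mem_singleton] at ha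
    rcases ha with (rfl | rfl) | ha
    · exact principal_notMem_cSetSL hb
    · exact stIrrSL_notMem_cSetSL hb
    · exact Finset.disjoint_left.1 disjoint_pSetSL_cSetSL ha hb

lemma sub_one_dvd_deg_even {χ : IrrCharacter SL₂} (h : χ ∈ cSetSL) :
    Fintype.card F - 1 ∣ charDegree (χ : SL₂ → ℂ) := by
  have h1 := (mem_cSetSL.1 h).uSum (Chars.isClassFunction_irr χ)
  rw [uSumSL, ← Finset.add_sum_erase _ _ (Finset.mem_univ 0), uSL_zero,
    Finset.sum_congr rfl fun x hx => classFun_apply_of_isConj (Chars.isClassFunction_irr χ)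
      (g := uSL x) (h := uSL 1) (sl_isConj_of_norm_surj
        (by simp [coe_uSL, IsScalar2, Finset.ne_of_mem_erase hx]) (by simp [coe_uSL, IsScalar2])
        (by simp [coe_uSL, Matrix.trace_fin_two]) fun r => norm_surj_even r),
    Finset.sum_const, Finset.card_erase_of_mem (Finset.mem_univ _), Finset.card_univ, nsmul_eq_mul,
    CharApps.deg_eq] at h1
  have h2 : 1 < Fintype.card F := Fintype.one_lt_card
  push_cast [h2.le] at h1
  obtain ⟨m, -, hm⟩ := exists_int_mul (Chars.char_isIntegral (Chars.isCharacter_of_irr χ.2) (uSL 1))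
    (d := (Fintype.card F : ℤ) - 1) (e := -(charDegree (χ : SL₂ → ℂ) : ℤ)) (by omega)
    (by push_cast; linear_combination h1)
  have h3 : ((Fintype.card F : ℤ) - 1) ∣ (charDegree (χ : SL₂ → ℂ) : ℤ) := ⟨-m, by linear_combination hm⟩
  have h4 : ((Fintype.card F - 1 : ℕ) : ℤ) = (Fintype.card F : ℤ) - 1 := by omega
  exact Int.natCast_dvd_natCast.1 (h4 ▸ h3)

lemma two_mul_card_cSetSL_even : 2 * (cSetSL (F := F)).card = Fintype.card F := by
  have h := sl_partition_even (F := F) (fun _ => 1)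
  simp only [Finset.sum_const, smul_eq_mul, mul_one, Finset.card_univ] at h
  rw [← Nat.card_eq_fintype_card, Chars.card_irr_eq_card_classes, Cfsg.Agent.S2331.result] at h
  have := two_mul_card_pSetSL_even (F := F)
  omega

lemma deg_cSetSL_even {χ : IrrCharacter SL₂} (h : χ ∈ cSetSL) :
    charDegree (χ : SL₂ → ℂ) = Fintype.card F - 1 := by
  have hs := sum_deg_sq (G := SL₂)
  rw [sl_partition_even, deg_principal, deg_stIrrSL,
    Finset.sum_congr (s₁ := pSetSL) rfl fun χ h => by rw [deg_pSetSL h]] at hs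
  simp only [Finset.sum_const, smul_eq_mul, card_sl] at hs
  have hC2 := two_mul_card_cSetSL_even (F := F)
  have hP2 := two_mul_card_pSetSL_even (F := F)
  have hge : ∀ χ ∈ cSetSL (F := F), (Fintype.card F - 1) ^ 2 ≤ charDegree (χ : SL₂ → ℂ) ^ 2 :=
    fun χ h => Nat.pow_le_pow_left (Nat.le_of_dvd (CharApps.deg_pos χ) (sub_one_dvd_deg_even h)) 2
  have hsum : ∑ χ ∈ cSetSL (F := F), charDegree (χ : SL₂ → ℂ) ^ 2 ≤
      ∑ _χ ∈ cSetSL (F := F), (Fintype.card F - 1) ^ 2 := by
    rw [Finset.sum_const, smul_eq_mul]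
    have hq : 1 < Fintype.card F := Fintype.one_lt_card
    obtain ⟨n, hn⟩ : ∃ n, Fintype.card F = n + 2 := ⟨Fintype.card F - 2, by omega⟩
    rw [hn] at hs hC2 hP2 ⊢
    rw [show n + 2 - 1 = n + 1 by omega]
    have e1 : (n + 2) ^ 2 - 1 = n ^ 2 + 4 * n + 3 := by ring_nf; omega
    rw [e1] at hs
    zify at hs hC2 hP2 ⊢
    nlinarith
  have h0 := (Finset.sum_eq_sum_iff_of_le hge).1 (le_antisymm (Finset.sum_le_sum hge) hsum) χ h
  exact (Nat.pow_left_injective two_ne_zero h0).symm

end Even
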