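import Cfsg.Agent.Lib.CharsMore.TwoByTwo.SL
import Cfsg.Agent.S2325

/-!
# The irreducible characters of the special linear group of degree two in odd characteristic
-/

set_option autoImplicit false
set_option linter.unusedSectionVars false
set_option linter.style.haveILetI false

namespace CfsgLib.CharsMore.TwoByTwo

open Cfsg CfsgLib.GLTwo
open CfsgLib.Involutions.PrincipalSeries (mem_upper)
open scoped ComplexConjugate

section Reg

variable {G H : Type*} [Group G] [Group H] [Fintype G] [Fintype H]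

/-- The regular character restricted along an injective homomorphism. -/
lemma sum_deg_mul_inner_comp [Fintype (IrrCharacter G)] (f : H →* G) (hf : Function.Injective f)
    (a : IrrCharacter H) :
    ∑ ψ : IrrCharacter G, (ψ : G → ℂ) 1 * classInner ((ψ : G → ℂ) ∘ f) (a : H → ℂ) =
      (Nat.card G : ℂ) / (Nat.card H : ℂ) * (a : H → ℂ) 1 := by
  classical
  simp only [Chars.inner_def, Function.comp, ← mul_assoc, Finset.mul_sum]
  rw [Finset.sum_comm, Finset.sum_eq_single (1 : H)]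
  · rw [map_one, CharApps.conj_deg, ← Finset.sum_mul, div_eq_inv_mul]
    refine congrArg₂ (· * ·) ?_ rfl
    have := Chars.sum_degree_mul (G := G) 1
    rw [if_pos rfl] at this
    rw [← this, Finset.mul_sum]
    exact Finset.sum_congr rfl fun ψ _ => by ring
  · intro h _ hne
    have := Chars.sum_degree_mul (G := G) (f h)
    rw [if_neg fun e => hne (hf (e.trans (map_one f).symm))] at this
    rw [← Finset.sum_mul]
    refine mul_eq_zero_of_left ?_ _
    rw [← mul_zero ((Nat.card H : ℂ)⁻¹), ← this, Finset.mul_sum]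
    exact Finset.sum_congr rfl fun ψ _ => by ring
  · simp

end Reg

variable {F : Type*} [Field F] [Fintype F] [DecidableEq F]

local notation "SL₂" => Matrix.SpecialLinearGroup (Fin 2) F
local notation "ι" => Matrix.SpecialLinearGroup.toGL (n := Fin 2) (R := F)

noncomputable local instance : Fintype ↥(borelSL F) := Fintype.ofFinite _
noncomputable local instance : Fintype ↥(upperTriangularGL 2 F) := Fintype.ofFinite _
noncomputable local instance : DecidableEq (MulChar F ℂ) := _root_.Classical.decEq _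
noncomputable local instance : Fintype (IrrCharacter SL₂) := Chars.irrFintype _
noncomputable local instance : DecidableEq (IrrCharacter SL₂) := _root_.Classical.decEq _
noncomputable local instance : Fintype (IrrCharacter (GL (Fin 2) F)) := Chars.irrFintype _
noncomputable local instance : DecidableEq (IrrCharacter (GL (Fin 2) F)) := _root_.Classical.decEq _

/-! ### The quadratic character -/

variable (F) in
/-- The complex quadratic character. -/
noncomputable def etaC : MulChar F ℂ := (quadraticChar F).ringHomComp (Int.castRingHom ℂ)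

lemma etaC_of_isSquare {a : F} (ha : a ≠ 0) (h : IsSquare a) : etaC F a = 1 := by
  simp [etaC, MulChar.ringHomComp_apply, (quadraticChar_one_iff_isSquare ha).2 h]

lemma etaC_of_not_isSquare {a : F} (h : ¬ IsSquare a) : etaC F a = -1 := by
  simp [etaC, MulChar.ringHomComp_apply, quadraticChar_neg_one_iff_not_isSquare.2 h]

lemma etaC_inv : (etaC F)⁻¹ = etaC F := by
  refine MulChar.ext fun a => ?_
  rw [MulChar.inv_apply']
  have h : ∀ b : F, IsSquare b → IsSquare b⁻¹ := fun b ⟨c, hc⟩ => ⟨c⁻¹, by rw [hc, mul_inv]⟩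
  by_cases hs : IsSquare (a : F)
  · rw [etaC_of_isSquare a.ne_zero hs, etaC_of_isSquare (inv_ne_zero a.ne_zero) (h _ hs)]
  · rw [etaC_of_not_isSquare hs, etaC_of_not_isSquare fun h' => hs (inv_inv (a : F) ▸ h _ h')]

lemma isSquare_mul_of_not {a b : F} (_hF : ringChar F ≠ 2) (ha : ¬ IsSquare a) (hb : ¬ IsSquare b) :
    IsSquare (a * b) := by
  have ha0 : a ≠ 0 := fun h => ha (h ▸ IsSquare.zero)
  have hb0 : b ≠ 0 := fun h => hb (h ▸ IsSquare.zero)
  rw [← quadraticChar_one_iff_isSquare (mul_ne_zero ha0 hb0), map_mul,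
    quadraticChar_neg_one_iff_not_isSquare.2 ha, quadraticChar_neg_one_iff_not_isSquare.2 hb]
  norm_num

lemma not_isSquare_mul {a b : F} (ha0 : a ≠ 0) (ha : IsSquare a) (hb : ¬ IsSquare b) : ¬ IsSquare (a * b) := by
  obtain ⟨c, rfl⟩ := ha
  rintro ⟨d, hd⟩
  have hc : c ≠ 0 := left_ne_zero_of_mul ha0
  exact hb ⟨d / c, by field_simp; linear_combination hd⟩

variable (hodd : Odd (Fintype.card F))
include hodd

lemma etaC_ne_one : etaC F ≠ 1 := by
  obtain ⟨ν, hν⟩ := FiniteField.exists_nonsquare (ringChar_ne_two hodd)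
  intro h
  have h1 := congrArg (fun χ : MulChar F ℂ => χ ν) h
  rw [etaC_of_not_isSquare hν, MulChar.one_apply (IsUnit.mk0 _ fun e => hν (by rw [e]; exact IsSquare.zero))] at h1
  norm_num at h1

lemma eq_etaC {α : MulChar F ℂ} (h1 : α ≠ 1) (h : α = α⁻¹) : α = etaC F := by
  have hsq : ∀ a : F, a ≠ 0 → α a * α a = 1 := fun a ha => by
    conv_lhs => arg 2; rw [h]
    rw [← MulChar.mul_apply, mul_inv_cancel]
    exact MulChar.one_apply (IsUnit.mk0 a ha)
  have hs1 : ∀ a : F, a ≠ 0 → IsSquare a → α a = 1 := by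
    rintro a ha ⟨c, rfl⟩
    rw [map_mul, hsq c (left_ne_zero_of_mul ha)]
  obtain ⟨ν, hν, hν1⟩ : ∃ ν : F, ¬ IsSquare ν ∧ α ν = -1 := by
    by_contra! hn
    refine h1 (MulChar.ext fun a => ?_)
    rw [MulChar.one_apply_coe]
    by_cases hs : IsSquare (a : F)
    · exact hs1 _ a.ne_zero hs
    · exact (mul_self_eq_one_iff.1 (hsq _ a.ne_zero)).resolve_right (hn _ hs)
  refine MulChar.ext fun a => ?_
  by_cases hs : IsSquare (a : F)
  · rw [hs1 _ a.ne_zero hs, etaC_of_isSquare a.ne_zero hs]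
  · have h2 := hs1 _ (mul_ne_zero a.ne_zero fun e => hν (by rw [e]; exact IsSquare.zero))
      (isSquare_mul_of_not (ringChar_ne_two hodd) hs hν)
    rw [map_mul, hν1] at h2
    rw [etaC_of_not_isSquare hs]
    linear_combination -h2

lemma two_mul_card_pSetSL_odd : 2 * (pSetSL (F := F)).card + 3 = Fintype.card F := by
  rw [two_mul_card_pSetSL]
  have h : (Finset.univ.filter fun α : MulChar F ℂ => α ≠ α⁻¹) =
      (Finset.univ.erase 1).erase (etaC F) := by
    ext α
    simp only [Finset.mem_filter, Finset.mem_univ, true_and, Finset.mem_erase, and_true]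
    constructor
    · exact fun h => ⟨fun e => h (by rw [e, etaC_inv]), fun e => h (by rw [e, inv_one])⟩
    · exact fun h e => h.1 (eq_etaC hodd h.2 e)
  rw [h, Finset.card_erase_of_mem (by simp [etaC_ne_one hodd]), Finset.card_erase_of_mem (Finset.mem_univ _),
    Finset.card_univ, card_mulChar]
  have := two_lt_card_of_odd hodd
  omega

omit hodd

/-! ### The diagonal automorphisms -/

/-- Conjugation by a diagonal element with entries `r` and `1`. -/
def dConj (r : Fˣ) : SL₂ →* SL₂ where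
  toFun g := mkSL !![(g : Matrix (Fin 2) (Fin 2) F) 0 0, (r : F) * (g : Matrix (Fin 2) (Fin 2) F) 0 1;
    ((r⁻¹ : Fˣ) : F) * (g : Matrix (Fin 2) (Fin 2) F) 1 0, (g : Matrix (Fin 2) (Fin 2) F) 1 1] (by
      have := g.2
      rw [Matrix.det_fin_two] at this
      rw [Matrix.det_fin_two_of]
      have e : (r : F) * ((r⁻¹ : Fˣ) : F) = 1 := r.mul_inv
      linear_combination this - (g : Matrix (Fin 2) (Fin 2) F) 0 1 * (g : Matrix (Fin 2) (Fin 2) F) 1 0 * e)
  map_one' := by
    refine Subtype.ext ?_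
    ext i j
    fin_cases i <;> fin_cases j <;> simp [coe_mkSL]
  map_mul' g h := by
    refine Subtype.ext ?_
    have e : (r : F) * ((r⁻¹ : Fˣ) : F) = 1 := r.mul_inv
    ext i j
    fin_cases i <;> fin_cases j <;> simp [coe_mkSL, Matrix.mul_apply, Fin.sum_univ_two] <;> field_simp

lemma coe_dConj (r : Fˣ) (g : SL₂) : ((dConj r g : SL₂) : Matrix (Fin 2) (Fin 2) F) =
    !![(g : Matrix (Fin 2) (Fin 2) F) 0 0, (r : F) * (g : Matrix (Fin 2) (Fin 2) F) 0 1;
      ((r⁻¹ : Fˣ) : F) * (g : Matrix (Fin 2) (Fin 2) F) 1 0, (g : Matrix (Fin 2) (Fin 2) F) 1 1] := rfl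

lemma dConj_dConj (r : Fˣ) (g : SL₂) : dConj r⁻¹ (dConj r g) = g := by
  refine Subtype.ext ?_
  ext i j
  fin_cases i <;> fin_cases j <;> simp [coe_dConj]

/-- Conjugation by a diagonal element as an automorphism. -/
def dEquiv (r : Fˣ) : SL₂ ≃* SL₂ :=
  { dConj r with
    invFun := dConj r⁻¹
    left_inv := dConj_dConj r
    right_inv := fun g => by simpa using dConj_dConj r⁻¹ g }

lemma dConj_surjective (r : Fˣ) : Function.Surjective (dConj (F := F) r) := (dEquiv r).surjective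

lemma dConj_mem_borelSL_iff (r : Fˣ) (g : SL₂) : dConj r g ∈ borelSL F ↔ g ∈ borelSL F := by
  rw [mem_borelSL, mem_borelSL, coe_dConj]
  simp

lemma piSL_comp_dConj (α : MulChar F ℂ) (r : Fˣ) : piSL α ∘ dConj r = piSL α := by
  funext g
  simp only [Function.comp, piSL, Chars.indFun_apply]
  refine congrArg₂ (· * ·) rfl ?_
  refine (Fintype.sum_equiv (dEquiv r).toEquiv _ _ fun x => ?_).symm
  show _ = extendByZero (borelSL F) _ ((dConj r x)⁻¹ * dConj r g * dConj r x)
  rw [← map_inv, ← map_mul, ← map_mul]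
  by_cases h : x⁻¹ * g * x ∈ borelSL F
  · rw [Chars.extendByZero_of_mem _ _ h,
      Chars.extendByZero_of_mem _ _ ((dConj_mem_borelSL_iff r _).2 h)]
    rfl
  · rw [Chars.extendByZero_of_not_mem _ _ h,
      Chars.extendByZero_of_not_mem _ _ fun h' => h ((dConj_mem_borelSL_iff r _).1 h')]

lemma isIrr_comp_dConj (r : Fˣ) {χ : SL₂ → ℂ} (h : IsIrrCharacter SL₂ χ) :
    IsIrrCharacter SL₂ (χ ∘ dConj r) :=
  Chars.isIrrCharacter_comp _ (dConj_surjective r) h

lemma inner_comp_dConj (r : Fˣ) (φ ψ : SL₂ → ℂ) :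
    classInner (φ ∘ dConj r) (ψ ∘ dConj r) = classInner φ ψ := by
  rw [Chars.inner_def, Chars.inner_def]
  exact congrArg₂ (· * ·) rfl (Fintype.sum_equiv (dEquiv r).toEquiv _ _ fun x => rfl)

lemma dConj_uSL (r : Fˣ) (x : F) : dConj r (uSL x) = uSL ((r : F) * x) := by
  refine Subtype.ext ?_
  rw [coe_dConj, coe_uSL, coe_uSL]
  ext i j
  fin_cases i <;> fin_cases j <;> simp

/-- When the centralizer reaches the inverse of `r`, conjugation by `diag(r, 1)` preserves the class. -/
lemma apply_dConj_of_isNorm {χ : SL₂ → ℂ} (hχ : IsClassFunction SL₂ χ) {g : SL₂}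
    (hg : ¬ IsScalar2 (g : Matrix (Fin 2) (Fin 2) F)) (r : Fˣ)
    (hn : IsNorm (g : Matrix (Fin 2) (Fin 2) F) (r : F)⁻¹) : χ (dConj r g) = χ g := by
  refine (classFun_apply_of_isConj hχ ((sl_isConj_iff_norm hg (X := !![(r : F), 0; 0, 1]) ?_ ?_).2 ?_)).symm
  · simp [Matrix.det_fin_two_of]
  · rw [coe_dConj]
    ext i j
    fin_cases i <;> fin_cases j <;> simp [Matrix.mul_apply, Fin.sum_univ_two]
    all_goals field_simp
  · simpa [Matrix.det_fin_two_of] using hn

lemma isConj_uSL {x y : F} (hx : x ≠ 0) (hy : y ≠ 0) (h : IsSquare (x * y)) : IsConj (uSL x) (uSL y) := by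
  have e : ∀ z : F, (uSL z : SL₂) = jordanSL 1 z (one_mul 1) := fun z => by
    simp only [uSL, jordanSL, one_mul]
  rw [e, e]
  exact (jordan_isConj_iff 1 x y (one_mul 1) hx hy).2 h

include hodd

lemma two_mul_uSumSL {χ : SL₂ → ℂ} (hχ : IsClassFunction SL₂ χ) {ν : F} (hν : ¬ IsSquare ν) :
    2 * uSumSL χ = 2 * χ 1 + ((Fintype.card F : ℂ) - 1) * (χ (uSL 1) + χ (uSL ν)) := by
  have hν0 : ν ≠ 0 := fun h => hν (h ▸ IsSquare.zero)
  have h1 : ∑ x : F, χ (uSL (ν * x)) = uSumSL χ := Fintype.sum_equiv (Equiv.mulLeft₀ ν hν0) _ _ fun x => rfl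
  rw [two_mul]
  nth_rewrite 2 [← h1]
  rw [uSumSL, ← Finset.sum_add_distrib, ← Finset.add_sum_erase _ _ (Finset.mem_univ 0), mul_zero, uSL_zero,
    Finset.sum_congr rfl (g := fun _ => χ (uSL 1) + χ (uSL ν)) fun x hx => ?_, Finset.sum_const,
    Finset.card_erase_of_mem (Finset.mem_univ _), Finset.card_univ, nsmul_eq_mul,
    Nat.cast_sub Fintype.card_pos, Nat.cast_one, two_mul]
  have hx0 : x ≠ 0 := Finset.ne_of_mem_erase hx
  by_cases hs : IsSquare x
  · rw [classFun_apply_of_isConj hχ (isConj_uSL hx0 one_ne_zero (by rwa [mul_one])),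
      classFun_apply_of_isConj hχ (isConj_uSL (mul_ne_zero hν0 hx0) hν0
        (by rw [mul_comm ν x, mul_assoc]; exact hs.mul ⟨ν, rfl⟩))]
  · rw [classFun_apply_of_isConj hχ (isConj_uSL hx0 hν0 (isSquare_mul_of_not (ringChar_ne_two hodd) hs hν)),
      classFun_apply_of_isConj hχ (isConj_uSL (mul_ne_zero hν0 hx0) one_ne_zero
        (by rw [mul_one]; exact isSquare_mul_of_not (ringChar_ne_two hodd) hν hs))]
    ring

omit hodd

lemma sum_if_eq_uSumSL (χ : SL₂ → ℂ) :
    (∑ g : SL₂, if (g : Matrix (Fin 2) (Fin 2) F) 1 0 = 0 ∧ (g : Matrix (Fin 2) (Fin 2) F) 0 0 = 1 ∧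
      (g : Matrix (Fin 2) (Fin 2) F) 1 1 = 1 then χ g else 0) = uSumSL χ := by
  rw [← Finset.sum_filter]
  refine (Finset.sum_bij (fun x _ => uSL x) (fun x _ => by simp [coe_uSL]) (fun x _ y _ h => ?_)
    (fun g hg => ?_) (fun x _ => rfl)).symm
  · simpa [coe_uSL] using congrArg (fun g : SL₂ => (g : Matrix (Fin 2) (Fin 2) F) 0 1) h
  · simp only [Finset.mem_filter, Finset.mem_univ, true_and] at hg
    refine ⟨(g : Matrix (Fin 2) (Fin 2) F) 0 1, Finset.mem_univ _, Subtype.ext ?_⟩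
    ext i j
    fin_cases i <;> fin_cases j <;> simp [coe_uSL, hg]

/-! ### Restriction from the general linear group -/

lemma toGL_injective : Function.Injective (ι : SL₂ → GL (Fin 2) F) := fun _ _ h =>
  Subtype.ext (congrArg Units.val h :)

lemma card_gl_div : (Nat.card (GL (Fin 2) F) : ℂ) / (Nat.card SL₂ : ℂ) = (Fintype.card F : ℂ) - 1 := by
  have hq : 1 < Fintype.card F := Fintype.one_lt_card
  rw [CfsgLib.Classical.card_GL_eq_mul_card_SL, Nat.card_eq_fintype_card (α := F),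
    Nat.cast_mul, mul_div_assoc, div_self (Nat.cast_ne_zero.2 Nat.card_pos.ne'), mul_one,
    Nat.cast_sub hq.le, Nat.cast_one]

lemma detChar_comp_toGL (α : MulChar F ℂ) : detChar α ∘ ι = fun _ : SL₂ => (1 : ℂ) := by
  funext g
  rw [Function.comp, detChar_apply, coe_toGL, g.2, map_one]

lemma piGL_comp_toGL (α β : MulChar F ℂ) : piGL α β ∘ ι = piSL (α * β⁻¹) := by
  funext g
  let D : Fˣ → GL (Fin 2) F := fun r =>
    Matrix.GeneralLinearGroup.mkOfDetNeZero !![(r : F), 0; 0, 1] (by simp [Matrix.det_fin_two])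
  have hbij : Function.Bijective fun p : SL₂ × Fˣ => ι p.1 * D p.2 := by
    constructor
    · rintro ⟨s, r⟩ ⟨s', r'⟩ h
      have hd := congrArg (fun x : GL (Fin 2) F => (x : Matrix (Fin 2) (Fin 2) F).det) h
      simp [D, Matrix.det_mul, Matrix.det_fin_two_of, Matrix.GeneralLinearGroup.mkOfDetNeZero] at hd
      obtain rfl : r = r' := Units.ext hd
      exact Prod.ext (toGL_injective (mul_right_cancel h)) rfl
    · intro x
      refine ⟨(mkSL ((x * (D (Matrix.GeneralLinearGroup.det x))⁻¹ : GL (Fin 2) F) : Matrix (Fin 2) (Fin 2) F)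
        ?_, Matrix.GeneralLinearGroup.det x), ?_⟩
      · rw [Units.val_mul, Matrix.det_mul, Matrix.coe_units_inv, Matrix.det_nonsing_inv]
        simp [D, Matrix.det_fin_two_of, Matrix.GeneralLinearGroup.mkOfDetNeZero,
          Ring.inverse_eq_inv', Matrix.GeneralLinearGroup.det_ne_zero x]
      · show _ * _ = x
        rw [show ι (mkSL ((x * (D (Matrix.GeneralLinearGroup.det x))⁻¹ : GL (Fin 2) F) :
          Matrix (Fin 2) (Fin 2) F) _) = x * (D (Matrix.GeneralLinearGroup.det x))⁻¹ from Units.ext rfl,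
          inv_mul_cancel_right]
  have hterm : ∀ (s : SL₂) (r : Fˣ), extendByZero (upperTriangularGL 2 F)
      (fun b => α (((b : GL (Fin 2) F) : Matrix (Fin 2) (Fin 2) F) 0 0) *
        β (((b : GL (Fin 2) F) : Matrix (Fin 2) (Fin 2) F) 1 1)) ((ι s * D r)⁻¹ * ι g * (ι s * D r)) =
      extendByZero (borelSL F) (fun b => (α * β⁻¹) (((b : SL₂) : Matrix (Fin 2) (Fin 2) F) 0 0)) (s⁻¹ * g * s) := by
    intro s r
    have e : (ι s * D r)⁻¹ * ι g * (ι s * D r) = ι (dConj r⁻¹ (s⁻¹ * g * s)) := by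
      rw [show (ι s * D r)⁻¹ * ι g * (ι s * D r) = (D r)⁻¹ * ι (s⁻¹ * g * s) * D r by
        simp only [mul_inv_rev, map_mul, map_inv]; group, mul_assoc, inv_mul_eq_iff_eq_mul]
      refine Units.ext ?_
      rw [Units.val_mul, Units.val_mul, coe_toGL, coe_toGL, coe_dConj]
      ext i j
      fin_cases i <;> fin_cases j <;>
        simp [D, Matrix.mul_apply, Fin.sum_univ_two, Matrix.GeneralLinearGroup.mkOfDetNeZero] <;> field_simp
    rw [e]
    clear e
    generalize s⁻¹ * g * s = w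
    by_cases h : w ∈ borelSL F
    · have h' : ι (dConj r⁻¹ w) ∈ upperTriangularGL 2 F := (dConj_mem_borelSL_iff _ _).2 h
      rw [Chars.extendByZero_of_mem _ _ h, Chars.extendByZero_of_mem _ _ h', coe_toGL, coe_dConj,
        MulChar.mul_apply, MulChar.inv_apply']
      have hw : ((w : SL₂) : Matrix (Fin 2) (Fin 2) F) 0 0 * (w : Matrix (Fin 2) (Fin 2) F) 1 1 = 1 :=
        diag_mul ⟨w, h⟩
      rw [inv_eq_of_mul_eq_one_right hw]
      simp
    · have h' : ι (dConj r⁻¹ w) ∉ upperTriangularGL 2 F := fun h' =>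
        h ((dConj_mem_borelSL_iff r⁻¹ _).1 h')
      rw [Chars.extendByZero_of_not_mem _ _ h, Chars.extendByZero_of_not_mem _ _ h']
  have hq : 1 < Fintype.card F := Fintype.one_lt_card
  simp only [Function.comp, piGL, piSL, Chars.indFun_apply]
  rw [← (Equiv.ofBijective _ hbij).sum_comp, Fintype.sum_prod_type]
  simp only [Equiv.ofBijective_apply, hterm, Finset.sum_const, Finset.card_univ, Fintype.card_units,
    nsmul_eq_mul, ← Finset.mul_sum]
  rw [card_upper, card_borelSL, Nat.cast_mul, Nat.cast_sub hq.le, Nat.cast_one]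
  have h0 : (Fintype.card F : ℂ) ≠ 0 := by exact_mod_cast (by omega : Fintype.card F ≠ 0)
  have h1 : (Fintype.card F : ℂ) - 1 ≠ 0 := sub_ne_zero.2 (by exact_mod_cast hq.ne')
  field_simp

lemma stGL_comp_toGL (α : MulChar F ℂ) : stGL α ∘ ι = (stSL : SL₂ → ℂ) := by
  have h1 := piGL_comp_toGL α α
  rw [mul_inv_cancel] at h1
  show (piGL α α ∘ ι) - (detChar α ∘ ι) = _
  rw [h1, detChar_comp_toGL]
  rfl

include hodd

/-! ### The halves of the principal series of the quadratic character -/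

lemma sub_one_mul_deg_ge {a : IrrCharacter SL₂} (h : classInner (piSL (etaC F)) (a : SL₂ → ℂ) ≠ 0) :
    Fintype.card F + 1 ≤ 2 * charDegree (a : SL₂ → ℂ) := by
  classical
  have hηne : ∀ lam : MulChar F ℂ, etaC F * lam ≠ lam := fun lam e => etaC_ne_one hodd (mul_eq_right.1 e)
  let S : Finset (IrrCharacter (GL (Fin 2) F)) := Finset.univ.image fun lam => pIrr (etaC F * lam, lam)
  have hval : ∀ lam, (pIrr (etaC F * lam, lam) : GL (Fin 2) F → ℂ) = piGL (etaC F * lam) lam := fun lam =>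
    pIrr_val (p := (etaC F * lam, lam)) (hηne lam)
  have hcard : Fintype.card F - 1 ≤ 2 * S.card := by
    rw [← card_mulChar (F := F), ← Finset.card_univ]
    refine Finset.card_le_mul_card_image _ 2 fun ψ hψ => ?_
    obtain ⟨l₀, -, rfl⟩ := Finset.mem_image.1 hψ
    refine (Finset.card_le_card (t := {l₀, etaC F * l₀}) ?_).trans Finset.card_le_two
    intro lam hlam
    have e := congrArg Subtype.val (Finset.mem_filter.1 hlam).2
    rw [hval, hval] at e
    rcases (piGL_eq_iff (hηne l₀)).1 e with ⟨-, h2⟩ | ⟨-, h2⟩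
    · simp [h2]
    · simp [h2]
  choose m hm using fun ψ : IrrCharacter (GL (Fin 2) F) =>
    Chars.inner_irr_right_nat (Chars.isCharacter_comp ι (Chars.isCharacter_of_irr ψ.2)) a
  have hm' : ∀ ψ : IrrCharacter (GL (Fin 2) F), classInner ((ψ : GL (Fin 2) F → ℂ) ∘ ι) (a : SL₂ → ℂ) = (m ψ : ℂ) := hm
  have hsum : ∑ ψ : IrrCharacter (GL (Fin 2) F), charDegree (ψ : GL (Fin 2) F → ℂ) * m ψ =
      (Fintype.card F - 1) * charDegree (a : SL₂ → ℂ) := by
    have := sum_deg_mul_inner_comp ι toGL_injective a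
    simp only [hm', card_gl_div, CharApps.deg_eq] at this
    have hq : 1 ≤ Fintype.card F := Fintype.card_pos
    apply Nat.cast_injective (R := ℂ)
    push_cast [hq]
    exact this
  have hS : ∀ ψ ∈ S, Fintype.card F + 1 ≤ charDegree (ψ : GL (Fin 2) F → ℂ) * m ψ := by
    intro ψ hψ
    obtain ⟨lam, -, rfl⟩ := Finset.mem_image.1 hψ
    have hd : charDegree (pIrr (etaC F * lam, lam) : GL (Fin 2) F → ℂ) = Fintype.card F + 1 :=
      deg_pSetGL (Finset.mem_image.2 ⟨_, by simp [hηne lam], rfl⟩)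
    have hne : m (pIrr (etaC F * lam, lam)) ≠ 0 := fun e => h (by
      have := hm' (pIrr (etaC F * lam, lam))
      rwa [hval, piGL_comp_toGL, mul_inv_cancel_right, e, Nat.cast_zero] at this)
    rw [hd]
    exact Nat.le_mul_of_pos_right _ (Nat.pos_of_ne_zero hne)
  have h3 : S.card * (Fintype.card F + 1) ≤ (Fintype.card F - 1) * charDegree (a : SL₂ → ℂ) := by
    rw [← hsum, ← smul_eq_mul, ← Finset.sum_const]
    exact (Finset.sum_le_sum hS).trans (Finset.sum_le_sum_of_subset (Finset.subset_univ S))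
  have hq := two_lt_card_of_odd hodd
  have h4 : (Fintype.card F - 1) * (Fintype.card F + 1) ≤
      (Fintype.card F - 1) * (2 * charDegree (a : SL₂ → ℂ)) := by
    calc (Fintype.card F - 1) * (Fintype.card F + 1) ≤ 2 * S.card * (Fintype.card F + 1) :=
          Nat.mul_le_mul_right _ hcard
      _ = 2 * (S.card * (Fintype.card F + 1)) := by ring
      _ ≤ 2 * ((Fintype.card F - 1) * charDegree (a : SL₂ → ℂ)) := Nat.mul_le_mul_left _ h3
      _ = _ := by ring
  exact Nat.le_of_mul_le_mul_left h4 (by omega)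

lemma sum_inner_half {a : SL₂ → ℂ} (ha : IsIrrCharacter SL₂ a) (h : classInner a (piSL (etaC F)) = 1) :
    ∑ α : MulChar F ℂ, classInner a (piSL α) = 1 := by
  rw [Finset.sum_eq_single (etaC F), h]
  · intro α _ hα
    obtain ⟨n, hn⟩ := Chars.inner_char_nat (Chars.isCharacter_of_irr ha) (isChar_piSL α)
    by_contra h0
    have h1 : classInner (piSL (etaC F)) a = 1 := by
      rw [← inner_nat_comm (Chars.isCharacter_of_irr ha) (isChar_piSL _), h]
    have hd : (Fintype.card F + 1) ≤ 2 * charDegree a :=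
      sub_one_mul_deg_ge hodd (a := ⟨a, ha⟩) (by rw [h1]; exact one_ne_zero)
    have hd' := CharApps.deg_eq (⟨a, ha⟩ : IrrCharacter SL₂)
    by_cases h1' : α = 1
    · subst h1'
      rw [piSL_one_eq, Chars.inner_add_right, Chars.inner_irr_of_isIrr ha isIrr_stSL,
        Chars.inner_irr_of_isIrr ha Chars.isIrrCharacter_one] at h0
      have ha1 : a = stSL ∨ a = fun _ => 1 := by
        by_contra hn; rw [not_or] at hn; simp [hn.1, hn.2] at h0
      rcases ha1 with e | e
      · have : classInner a (piSL (1 : MulChar F ℂ)) = 1 := by rw [e, inner_stSL_piSL_one]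
        have h5 := inner_piSL (1 : MulChar F ℂ) (etaC F)
        rw [piSL_one_eq, ← e, Chars.inner_add_left, h,
          inner_nat_comm Chars.isCharacter_one (isChar_piSL _)] at h5
        simp [Ne.symm (etaC_ne_one hodd), etaC_inv] at h5
        obtain ⟨k, hk⟩ := Chars.inner_char_nat (isChar_piSL (etaC F)) (Chars.isCharacter_one (G := SL₂))
        rw [hk] at h5
        have : ((1 + k : ℕ) : ℂ) = ((0 : ℕ) : ℂ) := by push_cast; exact h5
        have := Nat.cast_injective this
        omega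
      · simp only [e] at hd hd'
        have : charDegree (fun _ : SL₂ => (1 : ℂ)) = 1 := deg_principal
        have := two_lt_card_of_odd hodd
        omega
    · by_cases h2 : α = α⁻¹
      · exact hα (eq_etaC hodd h1' h2)
      · rw [Chars.inner_irr_of_isIrr ha (isIrr_piSL h2)] at h0
        have e : a = piSL α := by by_contra hn; simp [hn] at h0
        have h5 := inner_piSL α (etaC F)
        rw [← e, h, etaC_inv] at h5
        simp [hα] at h5
  · simp

lemma exists_halves : ∃ a b : IrrCharacter SL₂, a ≠ b ∧ piSL (etaC F) = (a : SL₂ → ℂ) + (b : SL₂ → ℂ) ∧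
    classInner (a : SL₂ → ℂ) (piSL (etaC F)) = 1 ∧ classInner (b : SL₂ → ℂ) (piSL (etaC F)) = 1 ∧
    2 * charDegree (a : SL₂ → ℂ) = Fintype.card F + 1 ∧ 2 * charDegree (b : SL₂ → ℂ) = Fintype.card F + 1 := by
  obtain ⟨a, b, hab, he, ha, hb⟩ := exists_two_of_char (isChar_piSL (etaC F))
    (by rw [inner_piSL, etaC_inv]; norm_num)
  have ha' := (inner_nat_comm (Chars.isCharacter_of_irr a.2) (isChar_piSL _)).trans ha
  have hb' := (inner_nat_comm (Chars.isCharacter_of_irr b.2) (isChar_piSL _)).trans hb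
  have h1 := sub_one_mul_deg_ge hodd (a := a) (by rw [ha]; exact one_ne_zero)
  have h2 := sub_one_mul_deg_ge hodd (a := b) (by rw [hb]; exact one_ne_zero)
  have h3 := congrFun he 1
  rw [piSL_one, Pi.add_apply, CharApps.deg_eq, CharApps.deg_eq] at h3
  have h4 : Fintype.card F + 1 = charDegree (a : SL₂ → ℂ) + charDegree (b : SL₂ → ℂ) := by exact_mod_cast h3
  exact ⟨a, b, hab, he, ha', hb', by omega, by omega⟩

lemma uSumSL_half {a : SL₂ → ℂ} (ha : IsIrrCharacter SL₂ a) (h : classInner a (piSL (etaC F)) = 1) :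
    uSumSL a = (Fintype.card F : ℂ) := by
  rw [uSumSL_eq (Chars.isClassFunction_irr ⟨a, ha⟩), sum_inner_half hodd ha h, mul_one]

/-- The two halves are swapped by a diagonal element of non-square determinant. -/
lemma half_comp_dConj {a b : IrrCharacter SL₂} (_hab : a ≠ b)
    (he : piSL (etaC F) = (a : SL₂ → ℂ) + (b : SL₂ → ℂ))
    (ha : classInner (a : SL₂ → ℂ) (piSL (etaC F)) = 1)
    (hd : 2 * charDegree (a : SL₂ → ℂ) = Fintype.card F + 1) (r : Fˣ) (hr : ¬ IsSquare (r : F)) :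
    (a : SL₂ → ℂ) ∘ dConj r = (b : SL₂ → ℂ) := by
  have hc := isIrr_comp_dConj r a.2
  have h1 : classInner ((a : SL₂ → ℂ) ∘ dConj r) (piSL (etaC F)) = 1 := by
    rw [← piSL_comp_dConj (etaC F) r, inner_comp_dConj, ha]
  rw [he, Chars.inner_add_right, Chars.inner_irr_of_isIrr hc a.2, Chars.inner_irr_of_isIrr hc b.2] at h1
  by_contra hn
  have hca : (a : SL₂ → ℂ) ∘ dConj r = (a : SL₂ → ℂ) := by by_contra hn'; simp [hn, hn'] at h1
  have hu : (a : SL₂ → ℂ) (uSL (r : F)) = (a : SL₂ → ℂ) (uSL 1) := by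
    have := congrFun hca (uSL 1)
    rwa [Function.comp, dConj_uSL, mul_one] at this
  have h2 := two_mul_uSumSL hodd (Chars.isClassFunction_irr a) hr
  rw [uSumSL_half hodd a.2 ha, hu, CharApps.deg_eq] at h2
  have hd' : 2 * (charDegree (a : SL₂ → ℂ) : ℂ) = (Fintype.card F : ℂ) + 1 := by exact_mod_cast hd
  have hq := two_lt_card_of_odd hodd
  have h3 : ((Fintype.card F : ℂ) - 1) ≠ 0 := sub_ne_zero.2 (by exact_mod_cast (by omega : Fintype.card F ≠ 1))
  have h4 : ((2 : ℤ) : ℂ) * (a : SL₂ → ℂ) (uSL 1) = ((1 : ℤ) : ℂ) := by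
    push_cast
    exact mul_left_cancel₀ h3 (by linear_combination -h2 - hd')
  obtain ⟨m, -, hm⟩ := exists_int_mul (Chars.char_isIntegral (Chars.isCharacter_of_irr a.2) _) two_ne_zero h4
  omega

/-! ### The table in odd characteristic -/

omit hodd

open _root_.Classical in
/-- The halves of the principal series of the quadratic character. -/
noncomputable def hSetSL : Finset (IrrCharacter SL₂) :=
  Finset.univ.filter fun χ => classInner (χ : SL₂ → ℂ) (piSL (etaC F)) ≠ 0

lemma mem_hSetSL {χ : IrrCharacter SL₂} :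
    χ ∈ hSetSL ↔ classInner (χ : SL₂ → ℂ) (piSL (etaC F)) ≠ 0 := by simp [hSetSL]

include hodd

lemma hSetSL_eq : ∃ a b : IrrCharacter SL₂, a ≠ b ∧ hSetSL (F := F) = {a, b} ∧
    piSL (etaC F) = (a : SL₂ → ℂ) + (b : SL₂ → ℂ) ∧
    classInner (a : SL₂ → ℂ) (piSL (etaC F)) = 1 ∧ classInner (b : SL₂ → ℂ) (piSL (etaC F)) = 1 ∧
    2 * charDegree (a : SL₂ → ℂ) = Fintype.card F + 1 ∧ 2 * charDegree (b : SL₂ → ℂ) = Fintype.card F + 1 := by
  obtain ⟨a, b, hab, he, ha, hb, hda, hdb⟩ := exists_halves hodd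
  refine ⟨a, b, hab, ?_, he, ha, hb, hda, hdb⟩
  ext χ
  rw [mem_hSetSL, Finset.mem_insert, Finset.mem_singleton]
  constructor
  · intro h
    rw [he, Chars.inner_add_right, Chars.inner_irr χ a, Chars.inner_irr χ b] at h
    by_contra hn
    rw [not_or] at hn
    simp [hn.1, hn.2] at h
  · rintro (rfl | rfl)
    · rw [ha]; exact one_ne_zero
    · rw [hb]; exact one_ne_zero

lemma card_hSetSL : (hSetSL (F := F)).card = 2 := by
  obtain ⟨a, b, hab, h, -⟩ := hSetSL_eq hodd
  rw [h, Finset.card_pair hab]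

lemma of_mem_hSetSL {χ : IrrCharacter SL₂} (h : χ ∈ hSetSL) :
    classInner (χ : SL₂ → ℂ) (piSL (etaC F)) = 1 ∧ 2 * charDegree (χ : SL₂ → ℂ) = Fintype.card F + 1 := by
  obtain ⟨a, b, -, hs, -, ha, hb, hda, hdb⟩ := hSetSL_eq hodd
  rw [hs, Finset.mem_insert, Finset.mem_singleton] at h
  rcases h with rfl | rfl
  · exact ⟨ha, hda⟩
  · exact ⟨hb, hdb⟩

lemma sl_cases_odd (χ : IrrCharacter SL₂) :
    χ = Chars.principal _ ∨ χ = stIrrSL ∨ χ ∈ pSetSL ∨ χ ∈ hSetSL ∨ χ ∈ cSetSL := by
  rcases sl_cases χ with h | h | h | ⟨α, h1, h2, h3⟩ | h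
  · exact Or.inl (Subtype.ext h)
  · exact Or.inr (Or.inl (Subtype.ext h))
  · exact Or.inr (Or.inr (Or.inl (mem_pSetSL.2 h)))
  · rw [eq_etaC hodd h1 h2] at h3
    exact Or.inr (Or.inr (Or.inr (Or.inl (mem_hSetSL.2 h3))))
  · exact Or.inr (Or.inr (Or.inr (Or.inr (mem_cSetSL.2 h))))

lemma sl_partition_odd {M : Type*} [AddCommMonoid M] (f : IrrCharacter SL₂ → M) :
    ∑ χ : IrrCharacter SL₂, f χ = f (Chars.principal _) + f stIrrSL + ∑ χ ∈ pSetSL, f χ +
      ∑ χ ∈ hSetSL, f χ + ∑ χ ∈ cSetSL, f χ := by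
  have hq := two_lt_card_of_odd hodd
  have h1 : (Chars.principal SL₂ : IrrCharacter SL₂) ≠ stIrrSL := fun e =>
    principal_ne_stSL (congrArg Subtype.val e)
  rw [show (Finset.univ : Finset (IrrCharacter SL₂)) =
      ((({Chars.principal _, stIrrSL} : Finset (IrrCharacter SL₂)) ∪ pSetSL) ∪ hSetSL) ∪ cSetSL by
    ext χ
    simpa [Finset.mem_union, or_assoc] using sl_cases_odd hodd χ,
    Finset.sum_union, Finset.sum_union, Finset.sum_union, Finset.sum_pair h1]
  · refine Finset.disjoint_left.2 fun χ ha hb => ?_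
    have := deg_pSetSL hb
    simp only [Finset.mem_insert, Finset.mem_singleton] at ha
    rcases ha with rfl | rfl
    · rw [deg_principal] at this; omega
    · rw [deg_stIrrSL] at this; omega
  · refine Finset.disjoint_left.2 fun χ ha hb => ?_
    have := (of_mem_hSetSL hodd hb).2
    simp only [Finset.mem_union, Finset.mem_insert, Finset.mem_singleton] at ha
    rcases ha with (rfl | rfl) | ha
    · rw [deg_principal] at this; omega
    · rw [deg_stIrrSL] at this; omega
    · have := deg_pSetSL ha; omega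
  · refine Finset.disjoint_left.2 fun χ ha hb => ?_
    simp only [Finset.mem_union, Finset.mem_insert, Finset.mem_singleton] at ha
    rcases ha with ((rfl | rfl) | ha) | ha
    · exact principal_notMem_cSetSL hb
    · exact stIrrSL_notMem_cSetSL hb
    · exact Finset.disjoint_left.1 disjoint_pSetSL_cSetSL ha hb
    · exact mem_hSetSL.1 ha (mem_cSetSL.1 hb _)

lemma deg_cSetSL_dvd {χ : IrrCharacter SL₂} (h : χ ∈ cSetSL) :
    ∃ b : ℕ, 2 * charDegree (χ : SL₂ → ℂ) = b * (Fintype.card F - 1) := by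
  obtain ⟨ν, hν⟩ := FiniteField.exists_nonsquare (ringChar_ne_two hodd)
  have h1 := two_mul_uSumSL hodd (Chars.isClassFunction_irr χ) hν
  rw [(mem_cSetSL.1 h).uSum (Chars.isClassFunction_irr χ), CharApps.deg_eq] at h1
  have hq := two_lt_card_of_odd hodd
  obtain ⟨m, -, hm⟩ := exists_int_mul ((Chars.char_isIntegral (Chars.isCharacter_of_irr χ.2) (uSL 1)).add
      (Chars.char_isIntegral (Chars.isCharacter_of_irr χ.2) (uSL ν)))
    (d := (Fintype.card F : ℤ) - 1) (e := -(2 * (charDegree (χ : SL₂ → ℂ) : ℤ))) (by omega)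
    (by push_cast; linear_combination -h1)
  refine ⟨(-m).toNat, ?_⟩
  have hm0 : 0 ≤ -m := by nlinarith [Int.natCast_nonneg (charDegree (χ : SL₂ → ℂ))]
  zify [(by omega : 1 ≤ Fintype.card F)]
  rw [Int.toNat_of_nonneg hm0]
  linear_combination hm

lemma deg_cSetSL_le {χ : IrrCharacter SL₂} (h : χ ∈ cSetSL) :
    charDegree (χ : SL₂ → ℂ) ≤ Fintype.card F - 1 := by
  have hq := two_lt_card_of_odd hodd
  obtain ⟨ψ, hψ⟩ : ∃ ψ : IrrCharacter (GL (Fin 2) F),
      classInner ((ψ : GL (Fin 2) F → ℂ) ∘ ι) (χ : SL₂ → ℂ) ≠ 0 := by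
    by_contra! hn
    have := sum_deg_mul_inner_comp ι toGL_injective χ
    simp only [hn, mul_zero, Finset.sum_const_zero, card_gl_div] at this
    refine mul_ne_zero ?_ (CharApps.deg_ne_zero χ) this.symm
    exact sub_ne_zero.2 (by exact_mod_cast (by omega : Fintype.card F ≠ 1))
  have hz : ∀ α : MulChar F ℂ, classInner (piSL α) (χ : SL₂ → ℂ) = 0 := fun α =>
    (inner_nat_comm (isChar_piSL α) (Chars.isCharacter_of_irr χ.2)).trans (mem_cSetSL.1 h α)
  have hne1 : (fun _ : SL₂ => (1 : ℂ)) ≠ (χ : SL₂ → ℂ) := fun e =>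
    principal_notMem_cSetSL (show Chars.principal SL₂ ∈ cSetSL by
      rw [show (Chars.principal SL₂ : IrrCharacter SL₂) = χ from Subtype.ext e]; exact h)
  have hne2 : (stSL : SL₂ → ℂ) ≠ (χ : SL₂ → ℂ) := fun e =>
    stIrrSL_notMem_cSetSL (show stIrrSL ∈ cSetSL by
      rw [show (stIrrSL : IrrCharacter SL₂) = χ from Subtype.ext e]; exact h)
  rcases gl_cases ψ with hψ' | hψ' | hψ' | hψ'
  · obtain ⟨α, e⟩ := mem_dSetGL hψ'
    rw [e, detChar_comp_toGL] at hψ
    exact absurd (inner_irr_of_ne' Chars.isIrrCharacter_one χ.2 hne1) hψ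
  · obtain ⟨α, e⟩ := mem_sSetGL hψ'
    rw [e, stGL_comp_toGL] at hψ
    exact absurd (inner_irr_of_ne' isIrr_stSL χ.2 hne2) hψ
  · obtain ⟨α, β, -, e⟩ := mem_pSetGL hψ'
    rw [e, piGL_comp_toGL] at hψ
    exact absurd (hz _) hψ
  · have h1 := Chars.re_le_of_inner_ne_zero χ.2 (Chars.isCharacter_comp ι (Chars.isCharacter_of_irr ψ.2)) hψ
    simp only [map_one, CharApps.deg_eq, Complex.natCast_re, Nat.cast_le,
      deg_cSetGL hψ'] at h1
    exact h1

/-- The two possible degrees of the cuspidal characters. -/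
lemma deg_cSetSL_odd {χ : IrrCharacter SL₂} (h : χ ∈ cSetSL) :
    charDegree (χ : SL₂ → ℂ) = Fintype.card F - 1 ∨ 2 * charDegree (χ : SL₂ → ℂ) = Fintype.card F - 1 := by
  obtain ⟨b, hb⟩ := deg_cSetSL_dvd hodd h
  have hle := deg_cSetSL_le hodd h
  have hpos := CharApps.deg_pos χ
  have hq := two_lt_card_of_odd hodd
  have hb2 : b ≤ 2 := Nat.le_of_mul_le_mul_right (show b * (Fintype.card F - 1) ≤ 2 * (Fintype.card F - 1) by omega)
    (by omega)
  interval_cases b <;> omega

omit hodd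

open _root_.Classical in
/-- The cuspidal characters of full degree. -/
noncomputable def cBigSL : Finset (IrrCharacter SL₂) :=
  (cSetSL (F := F)).filter fun χ => charDegree (χ : SL₂ → ℂ) = Fintype.card F - 1

open _root_.Classical in
/-- The cuspidal characters of half degree. -/
noncomputable def cHalfSL : Finset (IrrCharacter SL₂) :=
  (cSetSL (F := F)).filter fun χ => ¬ charDegree (χ : SL₂ → ℂ) = Fintype.card F - 1

lemma deg_cBigSL {χ : IrrCharacter SL₂} (h : χ ∈ cBigSL) :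
    charDegree (χ : SL₂ → ℂ) = Fintype.card F - 1 := by
  simp only [cBigSL, Finset.mem_filter] at h; exact h.2

include hodd

lemma deg_cHalfSL {χ : IrrCharacter SL₂} (h : χ ∈ cHalfSL) :
    2 * charDegree (χ : SL₂ → ℂ) = Fintype.card F - 1 := by
  simp only [cHalfSL, Finset.mem_filter] at h
  exact (deg_cSetSL_odd hodd h.1).resolve_left h.2

lemma card_cuspSL : (cHalfSL (F := F)).card = 2 ∧ 2 * (cBigSL (F := F)).card + 1 = Fintype.card F := by
  classical
  have hq := two_lt_card_of_odd hodd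
  have hsplit : ∀ f : IrrCharacter SL₂ → ℕ, ∑ χ ∈ cSetSL, f χ = ∑ χ ∈ cBigSL, f χ + ∑ χ ∈ cHalfSL, f χ :=
    fun f => (Finset.sum_filter_add_sum_filter_not _ _ _).symm
  have h1 := sl_partition_odd hodd (fun _ => 1)
  rw [hsplit] at h1
  simp only [Finset.sum_const, smul_eq_mul, mul_one, Finset.card_univ] at h1
  rw [← Nat.card_eq_fintype_card, Chars.card_irr_eq_card_classes, Cfsg.Agent.S2325.result hodd,
    card_hSetSL hodd] at h1
  have h2 := sum_deg_sq (G := SL₂)
  rw [sl_partition_odd hodd, deg_principal, deg_stIrrSL, hsplit,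
    Finset.sum_congr (s₁ := pSetSL) rfl fun χ h => by rw [deg_pSetSL h],
    Finset.sum_congr (s₁ := cBigSL) rfl fun χ h => by rw [deg_cBigSL h]] at h2
  have hH : 4 * ∑ χ ∈ hSetSL (F := F), charDegree (χ : SL₂ → ℂ) ^ 2 =
      ∑ _χ ∈ hSetSL (F := F), (Fintype.card F + 1) ^ 2 := by
    rw [Finset.mul_sum]
    exact Finset.sum_congr rfl fun χ h => by rw [← (of_mem_hSetSL hodd h).2]; ring
  have hC : 4 * ∑ χ ∈ cHalfSL (F := F), charDegree (χ : SL₂ → ℂ) ^ 2 =
      ∑ _χ ∈ cHalfSL (F := F), (Fintype.card F - 1) ^ 2 := by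
    rw [Finset.mul_sum]
    exact Finset.sum_congr rfl fun χ h => by rw [← deg_cHalfSL hodd h]; ring
  simp only [Finset.sum_const, smul_eq_mul, card_hSetSL hodd, card_sl] at hH hC h2
  have hP := two_mul_card_pSetSL_odd hodd
  generalize (pSetSL (F := F)).card = P at *
  generalize (cBigSL (F := F)).card = N₂ at *
  generalize (cHalfSL (F := F)).card = N₁ at *
  generalize ∑ χ ∈ hSetSL (F := F), charDegree (χ : SL₂ → ℂ) ^ 2 = X at *
  generalize ∑ χ ∈ cHalfSL (F := F), charDegree (χ : SL₂ → ℂ) ^ 2 = Y at *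
  obtain ⟨k, hk⟩ : ∃ k, Fintype.card F = 2 * k + 3 := ⟨P, by omega⟩
  obtain rfl : P = k := by omega
  rw [hk] at h1 h2 hH hC ⊢
  rw [show 2 * P + 3 - 1 = 2 * P + 2 by omega] at h2 hC
  have e : (2 * P + 3) ^ 2 - 1 = 4 * P ^ 2 + 12 * P + 8 := by ring_nf; omega
  rw [e] at h2
  have hN : N₁ + 4 * N₂ = 4 * P + 6 := by
    have : (N₁ + 4 * N₂) * (2 * P + 2) ^ 2 = (4 * P + 6) * (2 * P + 2) ^ 2 := by
      zify at h2 hH hC ⊢
      linear_combination 4 * h2 - hH - hC
    exact Nat.eq_of_mul_eq_mul_right (by positivity) this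
  omega

end CfsgLib.CharsMore.TwoByTwo
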