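import Cfsg.Agent.Lib.CharsMore.TwoByTwo.Values

/-!
# Values of the half degree characters at transvections
-/

set_option autoImplicit false
set_option linter.unusedSectionVars false
set_option linter.style.haveILetI false

namespace CfsgLib.CharsMore.TwoByTwo

open Cfsg CfsgLib.GLTwo
open scoped ComplexConjugate

variable {F : Type*} [Field F] [Fintype F] [DecidableEq F]

local notation "SL₂" => Matrix.SpecialLinearGroup (Fin 2) F

noncomputable local instance : Fintype (IrrCharacter SL₂) := Chars.irrFintype _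
noncomputable local instance : DecidableEq (IrrCharacter SL₂) := _root_.Classical.decEq _
noncomputable local instance : DecidableEq (MulChar F ℂ) := _root_.Classical.decEq _

/-- A central element acts by a scalar on an irreducible character. -/
lemma exists_center_scalar {G : Type*} [Group G] [Finite G] (χ : IrrCharacter G) {z : G}
    (hz : z ∈ Subgroup.center G) : ∃ c : ℂ, ∀ g, (χ : G → ℂ) (z * g) = c * (χ : G → ℂ) g := by
  obtain ⟨n, ρ, hρ, e⟩ := χ.2
  haveI := hρ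
  obtain ⟨c, hc⟩ := Chars.exists_scalar_of_mem_center ρ z hz
  refine ⟨c, fun g => ?_⟩
  rw [show (χ : G → ℂ) = ρ.character from e.symm, Representation.character, Representation.character, map_mul, hc, smul_mul_assoc,
    show (LinearMap.id : (Fin n → ℂ) →ₗ[ℂ] Fin n → ℂ) * ρ g = ρ g from one_mul _, map_smul, smul_eq_mul]

lemma uSL_inv (x : F) : (uSL x : SL₂)⁻¹ = uSL (-x) := by
  refine Subtype.ext ?_
  rw [Matrix.SpecialLinearGroup.coe_inv, coe_uSL, coe_uSL, Matrix.adjugate_fin_two]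
  ext i j
  fin_cases i <;> fin_cases j <;> simp

lemma uSL_not_scalar {x : F} (hx : x ≠ 0) : ¬ IsScalar2 ((uSL x : SL₂) : Matrix (Fin 2) (Fin 2) F) := by
  intro h
  have := h.1
  rw [coe_uSL] at this
  simp at this
  exact hx this

lemma dConj_negOne (r : Fˣ) : dConj r (negOne F) = negOne F := by
  refine Subtype.ext ?_
  rw [coe_dConj, coe_negOne]
  ext i j
  fin_cases i <;> fin_cases j <;> simp

lemma negOne_mul_negOne : negOne F * negOne F = 1 := by
  refine Subtype.ext ?_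
  rw [Matrix.SpecialLinearGroup.coe_mul, coe_negOne, Matrix.SpecialLinearGroup.coe_one]
  ext i j
  fin_cases i <;> fin_cases j <;> simp [Matrix.mul_apply, Fin.sum_univ_two]

variable (hodd : Odd (Fintype.card F))
include hodd

lemma not_isConj_uSL_one {ν : F} (hν : ¬ IsSquare ν) : ¬ IsConj (uSL 1 : SL₂) (uSL ν) := by
  have e : ∀ z : F, (uSL z : SL₂) = jordanSL 1 z (one_mul 1) := fun z => by
    simp only [uSL, jordanSL, one_mul]
  rw [e, e, jordan_isConj_iff 1 1 ν (one_mul 1) one_ne_zero fun h => hν (h ▸ IsSquare.zero), one_mul]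
  exact hν

lemma not_isConj_negOne_mul {x y : F} : ¬ IsConj (negOne F * uSL x) (uSL y) := by
  intro h
  obtain ⟨c, hc⟩ := isConj_iff.1 h
  have h1 : ((uSL y : SL₂) : Matrix (Fin 2) (Fin 2) F).trace =
      ((negOne F * uSL x : SL₂) : Matrix (Fin 2) (Fin 2) F).trace := by
    rw [← hc, Matrix.SpecialLinearGroup.coe_mul, Matrix.trace_mul_comm, ← Matrix.SpecialLinearGroup.coe_mul,
      ← mul_assoc, inv_mul_cancel, one_mul]
  simp [coe_uSL, coe_negOne, Matrix.mul_apply, Matrix.trace_fin_two, Fin.sum_univ_two] at h1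
  have h2 := two_ne_zero' hodd
  exact h2 (mul_right_cancel₀ h2 (by linear_combination h1))

lemma card_centralizer_uSL : Nat.card (Subgroup.centralizer ({uSL (1 : F)} : Set SL₂)) = 2 * Fintype.card F := by
  have e : ∀ p : F × F, p.1 ^ 2 + p.1 * p.2 * ((uSL 1 : SL₂) : Matrix (Fin 2) (Fin 2) F).trace + p.2 ^ 2 = 1 ↔
      p.1 + p.2 = 1 ∨ p.1 + p.2 = -1 := fun p => by
    rw [← mul_self_eq_one_iff, coe_uSL, Matrix.trace_fin_two_of]
    constructor <;> intro h <;> linear_combination h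
  rw [sl_card_centralizer (uSL_not_scalar one_ne_zero), Nat.card_congr (Equiv.subtypeEquivRight e)]
  let f : F × Bool → {p : F × F // p.1 + p.2 = 1 ∨ p.1 + p.2 = -1} := fun t =>
    ⟨(t.1, (if t.2 then 1 else -1) - t.1), by
      cases t.2
      · exact Or.inr (add_sub_cancel t.1 _)
      · exact Or.inl (add_sub_cancel t.1 _)⟩
  rw [← Nat.card_congr (Equiv.ofBijective f ⟨?_, ?_⟩), Nat.card_eq_fintype_card, Fintype.card_prod,
    Fintype.card_bool, mul_comm]
  · rintro ⟨x, b⟩ ⟨y, c⟩ h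
    simp only [f, Subtype.mk.injEq, Prod.mk.injEq] at h
    obtain ⟨rfl, h⟩ := h
    rw [sub_left_inj] at h
    cases b <;> cases c
    · rfl
    · exact absurd h (neg_one_ne_one' hodd)
    · exact absurd h (neg_one_ne_one' hodd).symm
    · rfl
  · rintro ⟨⟨x, y⟩, h | h⟩
    · exact ⟨(x, true), Subtype.ext (Prod.ext rfl (sub_eq_iff_eq_add'.2 h.symm))⟩
    · exact ⟨(x, false), Subtype.ext (Prod.ext rfl (sub_eq_iff_eq_add'.2 h.symm))⟩

lemma cHalfSL_eq {ν : F} (hν0 : ν ≠ 0) (hν : ¬ IsSquare ν) : ∃ γ γ' : IrrCharacter SL₂, γ ≠ γ' ∧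
    cHalfSL (F := F) = {γ, γ'} ∧ (γ : SL₂ → ℂ) ∘ dConj (Units.mk0 ν hν0) = (γ' : SL₂ → ℂ) := by
  classical
  have hq := two_lt_card_of_odd hodd
  obtain ⟨χ, hχ⟩ : (cHalfSL (F := F)).Nonempty := Finset.card_pos.1 (by rw [(card_cuspSL hodd).1]; norm_num)
  let χ' : IrrCharacter SL₂ := ⟨_, isIrr_comp_dConj (Units.mk0 ν hν0) χ.2⟩
  have hχc : χ ∈ cSetSL := (Finset.mem_filter.1 hχ).1
  have hχd := deg_cHalfSL hodd hχ
  have hd' : charDegree (χ' : SL₂ → ℂ) = charDegree (χ : SL₂ → ℂ) :=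
    deg_eq_of_val (by show (χ : SL₂ → ℂ) (dConj _ 1) = _; rw [map_one, CharApps.deg_eq])
  have hχ'c : χ' ∈ cSetSL := mem_cSetSL.2 fun α => by
    show classInner ((χ : SL₂ → ℂ) ∘ dConj _) (piSL α) = 0
    rw [← piSL_comp_dConj α (Units.mk0 ν hν0), inner_comp_dConj]
    exact mem_cSetSL.1 hχc α
  have hχ' : χ' ∈ cHalfSL := by
    have := (Finset.mem_filter.1 hχ).2
    simp [cHalfSL, hχ'c, hd', this]
  have hne : χ ≠ χ' := by
    intro e
    have e' : (χ : SL₂ → ℂ) (uSL ν) = (χ : SL₂ → ℂ) (uSL 1) := by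
      have := congrFun (congrArg Subtype.val e) (uSL 1)
      rw [this]
      show _ = (χ : SL₂ → ℂ) (dConj _ (uSL 1))
      rw [dConj_uSL, mul_one]; rfl
    have h2 := two_mul_uSumSL hodd (Chars.isClassFunction_irr χ) hν
    rw [(mem_cSetSL.1 hχc).uSum (Chars.isClassFunction_irr χ), e', CharApps.deg_eq] at h2
    have h3 : 2 * (charDegree (χ : SL₂ → ℂ) : ℂ) = (Fintype.card F : ℂ) - 1 := by
      have := congrArg (Nat.cast : ℕ → ℂ) hχd
      push_cast [(by omega : 1 ≤ Fintype.card F)] at this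
      exact this
    have h4 : ((Fintype.card F : ℂ) - 1) ≠ 0 := sub_ne_zero.2 (by exact_mod_cast (by omega : Fintype.card F ≠ 1))
    have h5 : ((2 : ℤ) : ℂ) * (χ : SL₂ → ℂ) (uSL 1) = ((-1 : ℤ) : ℂ) := by
      push_cast
      exact mul_left_cancel₀ h4 (by linear_combination -h2 - h3)
    obtain ⟨m, -, hm⟩ := exists_int_mul (Chars.char_isIntegral (Chars.isCharacter_of_irr χ.2) _) two_ne_zero h5
    omega
  refine ⟨χ, χ', hne, (Finset.eq_of_subset_of_card_le ?_ ?_).symm, rfl⟩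
  · intro x hx
    simp only [Finset.mem_insert, Finset.mem_singleton] at hx
    rcases hx with rfl | rfl <;> assumption
  · rw [Finset.card_pair hne, (card_cuspSL hodd).1]

/-- The values of the four half degree characters at a transvection. -/
theorem half_table_uSL :
    (∀ χ ∈ hSetSL (F := F), (2 * (χ : SL₂ → ℂ) (uSL 1) - 1) ^ 2 =
      (-1 : ℂ) ^ ((Fintype.card F - 1) / 2) * (Fintype.card F : ℂ)) ∧
    (∀ χ ∈ cHalfSL (F := F), (2 * (χ : SL₂ → ℂ) (uSL 1) + 1) ^ 2 =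
      (-1 : ℂ) ^ ((Fintype.card F - 1) / 2) * (Fintype.card F : ℂ)) ∧
    (∀ χ₁ ∈ hSetSL (F := F), ∀ χ₂ ∈ hSetSL (F := F), χ₁ ≠ χ₂ →
      (χ₁ : SL₂ → ℂ) (uSL 1) + (χ₂ : SL₂ → ℂ) (uSL 1) = 1) ∧
    (∀ χ₁ ∈ cHalfSL (F := F), ∀ χ₂ ∈ cHalfSL (F := F), χ₁ ≠ χ₂ →
      (χ₁ : SL₂ → ℂ) (uSL 1) + (χ₂ : SL₂ → ℂ) (uSL 1) = -1) := by
  classical
  have hq := two_lt_card_of_odd hodd
  have hF := ringChar_ne_two hodd
  obtain ⟨ν, hν⟩ := FiniteField.exists_nonsquare hF
  have hν0 : ν ≠ 0 := fun e => hν (by rw [e]; exact IsSquare.zero)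
  set r : Fˣ := Units.mk0 ν hν0 with hr
  have hru : dConj r (uSL 1) = uSL ν := by rw [dConj_uSL, mul_one, hr, Units.val_mk0]
  obtain ⟨a, b, hab, hhs, hp, ha, hb, hda, hdb⟩ := hSetSL_eq hodd
  obtain ⟨γ, γ', hγ, hcs, hγsw⟩ := cHalfSL_eq hodd hν0 hν
  rw [← hr] at hγsw
  have hasw := half_comp_dConj hodd hab hp ha hda r (by rw [hr, Units.val_mk0]; exact hν)
  have hγc : γ ∈ cHalfSL := by rw [hcs]; exact Finset.mem_insert_self _ _
  have hsq : IsConj (uSL (ν * ν) : SL₂) (uSL 1) :=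
    isConj_uSL (mul_ne_zero hν0 hν0) one_ne_zero (by rw [mul_one]; exact ⟨ν, rfl⟩)
  have swap : ∀ (f : IrrCharacter SL₂) (f' : SL₂ → ℂ), (f : SL₂ → ℂ) ∘ dConj r = f' →
      f' (uSL 1) = (f : SL₂ → ℂ) (uSL ν) ∧ f' (uSL ν) = (f : SL₂ → ℂ) (uSL 1) := by
    intro f f' h
    subst h
    refine ⟨?_, ?_⟩
    · show (f : SL₂ → ℂ) (dConj r (uSL 1)) = _
      rw [hru]
    · show (f : SL₂ → ℂ) (dConj r (uSL ν)) = _
      rw [dConj_uSL, hr, Units.val_mk0, classFun_apply_of_isConj (Chars.isClassFunction_irr f) hsq]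
  obtain ⟨hbu, hbv⟩ := swap a _ hasw
  obtain ⟨hγu, hγv⟩ := swap γ _ hγsw
  have h1ne : ((Fintype.card F : ℂ) - 1) ≠ 0 := sub_ne_zero.2 (by exact_mod_cast (by omega : Fintype.card F ≠ 1))
  have hsa : (a : SL₂ → ℂ) (uSL 1) + (b : SL₂ → ℂ) (uSL 1) = 1 := by
    have h2 := two_mul_uSumSL hodd (Chars.isClassFunction_irr a) hν
    rw [uSumSL_half hodd a.2 ha, CharApps.deg_eq, ← hbu] at h2
    have hd' : 2 * (charDegree (a : SL₂ → ℂ) : ℂ) = (Fintype.card F : ℂ) + 1 := by exact_mod_cast hda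
    exact mul_left_cancel₀ h1ne (by linear_combination -h2 - hd')
  have hsγ : (γ : SL₂ → ℂ) (uSL 1) + (γ' : SL₂ → ℂ) (uSL 1) = -1 := by
    have h2 := two_mul_uSumSL hodd (Chars.isClassFunction_irr γ) hν
    rw [(mem_cSetSL.1 (Finset.mem_filter.1 hγc).1).uSum (Chars.isClassFunction_irr γ), CharApps.deg_eq, ← hγu] at h2
    have hd' : 2 * (charDegree (γ : SL₂ → ℂ) : ℂ) = (Fintype.card F : ℂ) - 1 := by
      have := congrArg (Nat.cast : ℕ → ℂ) (deg_cHalfSL hodd hγc)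
      push_cast [(by omega : 1 ≤ Fintype.card F)] at this
      exact this
    exact mul_left_cancel₀ h1ne (by linear_combination -h2 - hd')
  set D : ℂ := (a : SL₂ → ℂ) (uSL 1) - (b : SL₂ → ℂ) (uSL 1) with hD
  set D' : ℂ := (γ : SL₂ → ℂ) (uSL 1) - (γ' : SL₂ → ℂ) (uSL 1) with hD'
  have hC2 : ∀ F' : IrrCharacter SL₂ → ℂ, ∑ ψ ∈ cSetSL (F := F), F' ψ =
      ∑ ψ ∈ cBigSL (F := F), F' ψ + ∑ ψ ∈ cHalfSL (F := F), F' ψ :=
    fun F' => (Finset.sum_filter_add_sum_filter_not _ _ _).symm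
  have hsum : ∀ g : SL₂,
      (∑ χ : IrrCharacter SL₂, (χ : SL₂ → ℂ) g * conj ((χ : SL₂ → ℂ) (uSL 1))) -
        ∑ χ : IrrCharacter SL₂, (χ : SL₂ → ℂ) g * conj ((χ : SL₂ → ℂ) (uSL ν)) =
      ((a : SL₂ → ℂ) g - (b : SL₂ → ℂ) g) * conj D + ((γ : SL₂ → ℂ) g - (γ' : SL₂ → ℂ) g) * conj D' := by
    intro g
    have hinv : ∀ f : SL₂ → ℂ, f ∘ dConj r = f → f (uSL ν) = f (uSL 1) := fun f hf => by
      have := congrFun hf (uSL 1)
      rwa [Function.comp, hru] at this
    rw [← Finset.sum_sub_distrib, sl_partition_odd hodd, hhs, Finset.sum_pair hab,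
      hC2, hcs, Finset.sum_pair hγ,
      Finset.sum_eq_zero (s := pSetSL) fun ψ hψ => by
        obtain ⟨α, -, e⟩ := mem_pSetSL.1 hψ
        rw [hinv (ψ : SL₂ → ℂ) (by rw [e]; exact piSL_comp_dConj α r), sub_self],
      Finset.sum_eq_zero (s := cBigSL) fun ψ hψ => by
        rw [hinv (ψ : SL₂ → ℂ) (funext fun x => cBigSL_comp_dConj hodd hψ r x), sub_self],
      show ((stIrrSL : IrrCharacter SL₂) : SL₂ → ℂ) (uSL ν) = ((stIrrSL : IrrCharacter SL₂) : SL₂ → ℂ) (uSL 1) from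
        hinv _ (by
          funext x
          show piSL (1 : MulChar F ℂ) (dConj r x) - 1 = piSL (1 : MulChar F ℂ) x - 1
          exact congrArg (· - (1 : ℂ)) (congrFun (piSL_comp_dConj (1 : MulChar F ℂ) r) x))]
    simp only [Chars.principal_apply, hbu, hbv, hγu, hγv, hD, hD', map_sub, map_one]
    ring
  have heq1 : D * conj D + D' * conj D' = 2 * (Fintype.card F : ℂ) := by
    have h := hsum (uSL 1)
    rw [Chars.second_orthogonality, Chars.second_orthogonality, if_pos (IsConj.refl _),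
      if_neg (fun h => not_isConj_uSL_one hodd hν h.symm), card_centralizer_uSL hodd, sub_zero] at h
    rw [hD, hD', ← h]
    push_cast
    ring
  obtain ⟨ω, hω⟩ := exists_center_scalar a (negOne_mem_center (F := F))
  obtain ⟨ω', hω'⟩ := exists_center_scalar γ (negOne_mem_center (F := F))
  have hsq1 : ∀ (f : IrrCharacter SL₂) (w : ℂ), (∀ g, (f : SL₂ → ℂ) (negOne F * g) = w * (f : SL₂ → ℂ) g) →
      w * w = 1 := fun f w hw => by
    have h1 := hw (negOne F)
    have h2 := hw 1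
    rw [negOne_mul_negOne] at h1
    rw [mul_one] at h2
    rw [h2, ← mul_assoc] at h1
    exact mul_right_cancel₀ (CharApps.deg_ne_zero f) (by rw [one_mul]; exact h1.symm)
  have hswz : ∀ (f : IrrCharacter SL₂) (f' : SL₂ → ℂ) (w : ℂ), (f : SL₂ → ℂ) ∘ dConj r = f' →
      (∀ g, (f : SL₂ → ℂ) (negOne F * g) = w * (f : SL₂ → ℂ) g) →
      f' (negOne F * uSL 1) = w * (f : SL₂ → ℂ) (uSL ν) := fun f f' w h hw => by
    subst h
    show (f : SL₂ → ℂ) (dConj r _) = _
    rw [map_mul, dConj_negOne, hru, hw]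
  have heq2 : ω * (D * conj D) + ω' * (D' * conj D') = 0 := by
    have h := hsum (negOne F * uSL 1)
    rw [Chars.second_orthogonality, Chars.second_orthogonality,
      if_neg (fun h => not_isConj_negOne_mul hodd h.symm), if_neg (fun h => not_isConj_negOne_mul hodd h.symm),
      hω, hswz a _ ω hasw hω, hω', hswz γ _ ω' hγsw hω', ← hbu, ← hγu, sub_zero] at h
    rw [hD, hD']
    linear_combination -h
  have hn : D * conj D = (Fintype.card F : ℂ) ∧ D' * conj D' = (Fintype.card F : ℂ) := by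
    have hq0 : (Fintype.card F : ℂ) ≠ 0 := Nat.cast_ne_zero.2 Fintype.card_ne_zero
    rcases mul_self_eq_one_iff.1 (hsq1 a ω hω) with e | e <;>
      rcases mul_self_eq_one_iff.1 (hsq1 γ ω' hω') with e' | e' <;> rw [e, e'] at heq2
    · exact absurd (by linear_combination (heq1 - heq2) * (-1 / 2)) hq0
    · exact ⟨by linear_combination (heq1 + heq2) / 2, by linear_combination (heq1 - heq2) / 2⟩
    · exact ⟨by linear_combination (heq1 - heq2) / 2, by linear_combination (heq1 + heq2) / 2⟩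
    · exact absurd (by linear_combination (heq1 + heq2) * (-1 / 2)) hq0
  set δ : ℂ := (-1 : ℂ) ^ ((Fintype.card F - 1) / 2) with hδ
  have hδ1 : δ * δ = 1 := by rw [hδ, ← mul_pow]; norm_num
  have hconj : ∀ (f : IrrCharacter SL₂) (f' : SL₂ → ℂ), (f : SL₂ → ℂ) ∘ dConj r = f' →
      conj ((f : SL₂ → ℂ) (uSL 1) - f' (uSL 1)) = δ * ((f : SL₂ → ℂ) (uSL 1) - f' (uSL 1)) := by
    intro f f' h
    rw [(swap f f' h).1, map_sub, ← Chars.char_inv (Chars.isCharacter_of_irr f.2),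
      ← Chars.char_inv (Chars.isCharacter_of_irr f.2), uSL_inv, uSL_inv]
    have hcf := Chars.isClassFunction_irr f
    have hm1 : (-1 : F) ≠ 0 := neg_ne_zero.2 one_ne_zero
    have hmod : Fintype.card F % 2 = 1 := Nat.odd_iff.1 hodd
    by_cases hm : IsSquare (-1 : F)
    · have h4 := FiniteField.isSquare_neg_one_iff.1 hm
      have hd : δ = 1 := by rw [hδ, Even.neg_one_pow (Nat.even_iff.2 (by omega))]
      rw [classFun_apply_of_isConj hcf (isConj_uSL hm1 one_ne_zero (by rwa [mul_one])),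
        classFun_apply_of_isConj hcf (isConj_uSL (neg_ne_zero.2 hν0) hν0
          (by rw [← neg_one_mul, mul_assoc]; exact hm.mul ⟨ν, rfl⟩)), hd, one_mul]
    · have h4 : Fintype.card F % 4 = 3 := by
        by_contra h'
        exact hm (FiniteField.isSquare_neg_one_iff.2 h')
      have hd : δ = -1 := by rw [hδ, Odd.neg_one_pow (Nat.odd_iff.2 (by omega))]
      rw [classFun_apply_of_isConj hcf (isConj_uSL hm1 hν0 (isSquare_mul_of_not hF hm hν)),
        classFun_apply_of_isConj hcf (isConj_uSL (neg_ne_zero.2 hν0) one_ne_zero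
          (by rw [mul_one, ← neg_one_mul]; exact isSquare_mul_of_not hF hm hν)), hd]
      ring
  have key : D ^ 2 = δ * (Fintype.card F : ℂ) ∧ D' ^ 2 = δ * (Fintype.card F : ℂ) := by
    have h1 : conj D = δ * D := hconj a _ hasw
    have h2 : conj D' = δ * D' := hconj γ _ hγsw
    obtain ⟨n1, n2⟩ := hn
    rw [h1] at n1
    rw [h2] at n2
    exact ⟨by linear_combination δ * n1 - D ^ 2 * hδ1, by linear_combination δ * n2 - D' ^ 2 * hδ1⟩
  rw [hhs, hcs]
  simp only [Finset.mem_insert, Finset.mem_singleton, forall_eq_or_imp, forall_eq]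
  refine ⟨⟨?_, ?_⟩, ⟨?_, ?_⟩, ⟨⟨fun h => absurd rfl h, fun _ => hsa⟩, ⟨fun _ => by linear_combination hsa, fun h => absurd rfl h⟩⟩,
    ⟨⟨fun h => absurd rfl h, fun _ => hsγ⟩, ⟨fun _ => by linear_combination hsγ, fun h => absurd rfl h⟩⟩⟩
  · rw [← key.1]; congr 1; rw [hD]; linear_combination hsa
  · rw [← key.1, show 2 * (b : SL₂ → ℂ) (uSL 1) - 1 = -D by rw [hD]; linear_combination hsa, neg_sq]
  · rw [← key.2]; congr 1; rw [hD']; linear_combination hsγ
  · rw [← key.2, show 2 * (γ' : SL₂ → ℂ) (uSL 1) + 1 = -D' by rw [hD']; linear_combination hsγ, neg_sq]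

omit hodd

lemma mem_hSetSL_of_deg (hodd : Odd (Fintype.card F)) (hq : 5 ≤ Fintype.card F) {χ : IrrCharacter SL₂}
    (h : charDegree (χ : SL₂ → ℂ) = (Fintype.card F + 1) / 2) : χ ∈ hSetSL := by
  obtain ⟨k, hk⟩ := id hodd
  rcases sl_cases_odd hodd χ with hc | hc | hc | hc | hc
  · rw [hc, deg_principal] at h; omega
  · rw [hc, deg_stIrrSL] at h; omega
  · rw [deg_pSetSL hc] at h; omega
  · exact hc
  · rcases deg_cSetSL_odd hodd hc with e | e <;> omega

lemma mem_cHalfSL_of_deg (hodd : Odd (Fintype.card F)) (hq : 5 ≤ Fintype.card F) {χ : IrrCharacter SL₂}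
    (h : charDegree (χ : SL₂ → ℂ) = (Fintype.card F - 1) / 2) : χ ∈ cHalfSL := by
  classical
  obtain ⟨k, hk⟩ := id hodd
  rcases sl_cases_odd hodd χ with hc | hc | hc | hc | hc
  · rw [hc, deg_principal] at h; omega
  · rw [hc, deg_stIrrSL] at h; omega
  · rw [deg_pSetSL hc] at h; omega
  · have := (of_mem_hSetSL hodd hc).2; omega
  · simp only [cHalfSL, Finset.mem_filter]
    exact ⟨hc, by omega⟩

end CfsgLib.CharsMore.TwoByTwo
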