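import Cfsg.Agent.Lib.CharsMore.TwoByTwo.Cusp

/-!
# Values of the Steinberg and cuspidal characters of the two by two linear groups
-/

set_option autoImplicit false
set_option linter.unusedSectionVars false
set_option linter.style.haveILetI false

namespace CfsgLib.CharsMore.TwoByTwo

open Cfsg CfsgLib.GLTwo
open CfsgLib.Involutions.PrincipalSeries (mem_upper)
open scoped ComplexConjugate

variable {F : Type*} [Field F] [Fintype F] [DecidableEq F]

local notation "SL₂" => Matrix.SpecialLinearGroup (Fin 2) F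
local notation "ι" => Matrix.SpecialLinearGroup.toGL (n := Fin 2) (R := F)

noncomputable local instance : Fintype ↥(borelSL F) := Fintype.ofFinite _
noncomputable local instance : Fintype ↥(upperTriangularGL 2 F) := Fintype.ofFinite _
noncomputable local instance : DecidableEq (MulChar F ℂ) := _root_.Classical.decEq _
noncomputable local instance : Fintype (IrrCharacter SL₂) := Chars.irrFintype _
noncomputable local instance : DecidableEq (IrrCharacter SL₂) := _root_.Classical.decEq _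
noncomputable local instance : Fintype (IrrCharacter (GL (Fin 2) F)) := Chars.irrFintype _
noncomputable local instance : DecidableEq (IrrCharacter (GL (Fin 2) F)) := _root_.Classical.decEq _

lemma piGL_one_one_eq (g : GL (Fin 2) F) : piGL (1 : MulChar F ℂ) 1 g =
    fixedPointCharacter (upperTriangularGL 2 F) g := by
  classical
  have h := congrFun (Chars.indFun_stabilizer_one (G := GL (Fin 2) F)
    ((1 : GL (Fin 2) F) : GL (Fin 2) F ⧸ upperTriangularGL 2 F)) g
  rw [MulAction.stabilizer_quotient] at h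
  rw [fixedPointCharacter, ← h, piGL]
  refine congrFun (congrArg (indFun (upperTriangularGL 2 F)) (funext fun b => ?_)) g
  rw [one_mulChar_apply (CfsgLib.Involutions.PrincipalSeries.diag_ne_zero b).1,
    one_mulChar_apply (CfsgLib.Involutions.PrincipalSeries.diag_ne_zero b).2, mul_one]

lemma piGL_one_one_elliptic (g : GL (Fin 2) F)
    (hno : ∀ (c : F) (v : Fin 2 → F), v ≠ 0 → (g : Matrix (Fin 2) (Fin 2) F).mulVec v ≠ c • v) :
    piGL (1 : MulChar F ℂ) 1 g = 0 := piGL_apply_elliptic 1 1 g hno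

lemma piGL_one_one_diag (g : GL (Fin 2) F) (h01 : (g : Matrix (Fin 2) (Fin 2) F) 0 1 = 0)
    (h10 : (g : Matrix (Fin 2) (Fin 2) F) 1 0 = 0)
    (hne : (g : Matrix (Fin 2) (Fin 2) F) 0 0 ≠ (g : Matrix (Fin 2) (Fin 2) F) 1 1) :
    piGL (1 : MulChar F ℂ) 1 g = 2 := by
  rw [piGL_one_one_eq, fixedPointCharacter_eq]
  have h : ∀ o : Option F,
      (((g : Matrix (Fin 2) (Fin 2) F).mulVec (linePoint o)) 0 * linePoint o 1 =
        ((g : Matrix (Fin 2) (Fin 2) F).mulVec (linePoint o)) 1 * linePoint o 0) ↔ (o = none ∨ o = some 0) := by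
    intro o
    cases o with
    | none => simp [linePoint, Matrix.mulVec, dotProduct, Fin.sum_univ_two, h01]
    | some c =>
      simp [linePoint, Matrix.mulVec, dotProduct, Fin.sum_univ_two, h01, h10]
      exact fun h => absurd h hne
  rw [Nat.card_congr (Equiv.subtypeEquivRight h), Nat.card_eq_fintype_card, Fintype.card_subtype]
  rw [show (Finset.univ.filter fun o : Option F => o = none ∨ o = some 0) = {none, some 0} by ext; simp,
    Finset.card_pair (by simp)]
  norm_num

lemma piGL_one_one_unip (g : GL (Fin 2) F) (h10 : (g : Matrix (Fin 2) (Fin 2) F) 1 0 = 0)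
    (h00 : (g : Matrix (Fin 2) (Fin 2) F) 0 0 = (g : Matrix (Fin 2) (Fin 2) F) 1 1)
    (h01 : (g : Matrix (Fin 2) (Fin 2) F) 0 1 ≠ 0) : piGL (1 : MulChar F ℂ) 1 g = 1 := by
  rw [piGL_one_one_eq, fixedPointCharacter_eq]
  have h : ∀ o : Option F,
      (((g : Matrix (Fin 2) (Fin 2) F).mulVec (linePoint o)) 0 * linePoint o 1 =
        ((g : Matrix (Fin 2) (Fin 2) F).mulVec (linePoint o)) 1 * linePoint o 0) ↔ o = some 0 := by
    intro o
    cases o with
    | none => simp [linePoint, Matrix.mulVec, dotProduct, Fin.sum_univ_two, h01]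
    | some c =>
      simp [linePoint, Matrix.mulVec, dotProduct, Fin.sum_univ_two, h10, h00]
      exact fun h => absurd h h01
  rw [Nat.card_congr (Equiv.subtypeEquivRight h)]
  simp

lemma piGL_self_eq (α : MulChar F ℂ) (g : GL (Fin 2) F) :
    piGL α α g = detChar α g * piGL (1 : MulChar F ℂ) 1 g := by
  have h := congrFun (Chars.indFun_mul_restrict (upperTriangularGL 2 F) (θ := fun b =>
    (1 : MulChar F ℂ) (((b : GL (Fin 2) F) : Matrix (Fin 2) (Fin 2) F) 0 0) *
      (1 : MulChar F ℂ) (((b : GL (Fin 2) F) : Matrix (Fin 2) (Fin 2) F) 1 1))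
    (Chars.isClassFunction_of_isCharacter (Chars.isCharacter_of_irr (isIrr_detChar α)))) g
  simp only [piGL]
  rw [← h]
  refine congrFun (congrArg (indFun (upperTriangularGL 2 F)) (funext fun b => ?_)) g
  rw [detChar_apply, Matrix.det_fin_two, mem_upper.1 b.2, mul_zero, sub_zero, map_mul,
    one_mulChar_apply (CfsgLib.Involutions.PrincipalSeries.diag_ne_zero b).1,
    one_mulChar_apply (CfsgLib.Involutions.PrincipalSeries.diag_ne_zero b).2, mul_one, mul_one]

lemma stGL_eq_mul (α : MulChar F ℂ) (g : GL (Fin 2) F) :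
    stGL α g = detChar α g * (piGL (1 : MulChar F ℂ) 1 g - 1) := by
  rw [stGL, Pi.sub_apply, piGL_self_eq, mul_sub, mul_one]

lemma norm_detChar (α : MulChar F ℂ) (g : GL (Fin 2) F) : ‖detChar α g‖ = 1 := by
  exact Complex.norm_eq_one_of_pow_eq_one
    (n := orderOf g) (by rw [detChar, ← Units.val_pow_eq_pow_val, ← map_pow, pow_orderOf_eq_one, map_one,
      Units.val_one]) (orderOf_pos g).ne'

lemma piSL_one_eq_piGL (g : SL₂) : piSL (1 : MulChar F ℂ) g = piGL (1 : MulChar F ℂ) 1 (ι g) := by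
  have h := congrFun (piGL_comp_toGL (1 : MulChar F ℂ) 1) g
  rw [inv_one, mul_one] at h
  exact h.symm

lemma stSL_apply (g : SL₂) : (stSL : SL₂ → ℂ) g = piGL (1 : MulChar F ℂ) 1 (ι g) - 1 := by
  rw [stSL, Pi.sub_apply, piSL_one_eq_piGL]

lemma eq_stSL {χ : IrrCharacter SL₂} (h : (χ : SL₂ → ℂ) 1 = (Fintype.card F : ℂ)) :
    (χ : SL₂ → ℂ) = stSL := by
  have hd := deg_eq_of_val h
  have hq : 1 < Fintype.card F := Fintype.one_lt_card
  rcases Nat.even_or_odd (Fintype.card F) with he | ho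
  · have : CharP F 2 := by
      have h2 : ringChar F = 2 := FiniteField.even_card_iff_char_two.2 (Nat.even_iff.1 he)
      exact h2 ▸ ringChar.charP F
    rcases sl_cases_even χ with h | h | h | h
    · rw [h, deg_principal] at hd; omega
    · rw [h]; rfl
    · rw [deg_pSetSL h] at hd; omega
    · rw [deg_cSetSL_even h] at hd; omega
  · rcases sl_cases_odd ho χ with h | h | h | h | h
    · rw [h, deg_principal] at hd; omega
    · rw [h]; rfl
    · rw [deg_pSetSL h] at hd; omega
    · have := (of_mem_hSetSL ho h).2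
      rw [hd] at this
      omega
    · rcases deg_cSetSL_odd ho h with e | e <;> rw [hd] at e <;> omega

/-- A character without fixed vectors on the unipotent subgroup vanishes on regular split elements. -/
lemma apply_diag_of_uSumSL_eq_zero {χ : SL₂ → ℂ} (hχ : IsIrrCharacter SL₂ χ) (h0 : uSumSL χ = 0) (g : SL₂)
    (h01 : (g : Matrix (Fin 2) (Fin 2) F) 0 1 = 0) (h10 : (g : Matrix (Fin 2) (Fin 2) F) 1 0 = 0)
    (ha : (g : Matrix (Fin 2) (Fin 2) F) 0 0 ^ 2 ≠ 1) : χ g = 0 := by
  obtain ⟨n, ρ, -, rfl⟩ := hχ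
  set A := ∑ x : F, ρ (uSL x) with hA
  have hq0 : (Fintype.card F : ℂ) ≠ 0 := Nat.cast_ne_zero.2 Fintype.card_ne_zero
  have hA0 : LinearMap.trace ℂ _ A = 0 := by rw [hA, map_sum]; exact h0
  have humul : ∀ x y : F, (uSL x : SL₂) * uSL y = uSL (x + y) := fun x y => by
    refine Subtype.ext ?_
    ext i j
    fin_cases i <;> fin_cases j <;> simp [coe_uSL, Matrix.mul_apply, Fin.sum_univ_two, add_comm]
  have hAA : A * A = (Fintype.card F : ℂ) • A := by
    rw [hA, Finset.sum_mul, Nat.cast_smul_eq_nsmul, ← Finset.card_univ, ← Finset.sum_const]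
    refine Finset.sum_congr rfl fun x _ => ?_
    rw [Finset.mul_sum]
    exact Fintype.sum_equiv (Equiv.addLeft x) _ _ fun y => by
      rw [← map_mul, humul, Equiv.coe_addLeft]
  have hid : IsIdempotentElem ((Fintype.card F : ℂ)⁻¹ • A) := by
    show ((Fintype.card F : ℂ)⁻¹ • A) * ((Fintype.card F : ℂ)⁻¹ • A) = _
    rw [smul_mul_smul_comm, hAA, smul_smul, mul_assoc, inv_mul_cancel₀ hq0, mul_one]
  have hzero := LinearMap.IsIdempotentElem.eq_zero_of_trace_eq_zero hid (by rw [map_smul, hA0, smul_zero])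
  have hAz : A = 0 := (smul_eq_zero.1 hzero).resolve_left (inv_ne_zero hq0)
  have hsum : ∑ x : F, ρ.character (g * uSL x) = 0 := by
    simp only [Representation.character, map_mul]
    rw [← map_sum, ← Finset.mul_sum, ← hA, hAz, mul_zero, map_zero]
  have hd := diag_mul ⟨g, mem_borelSL.2 h10⟩
  have hne : (g : Matrix (Fin 2) (Fin 2) F) 0 0 ≠ (g : Matrix (Fin 2) (Fin 2) F) 1 1 := fun e =>
    ha (by rw [sq]; nth_rewrite 2 [e]; exact hd)
  have hnorm : ∀ r : F, IsNorm (g : Matrix (Fin 2) (Fin 2) F) r := by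
    rcases Nat.even_or_odd (Fintype.card F) with he | ho
    · have : CharP F 2 := by
        have h2 : ringChar F = 2 := FiniteField.even_card_iff_char_two.2 (Nat.even_iff.1 he)
        exact h2 ▸ ringChar.charP F
      exact fun r => norm_surj_even r
    · refine fun r => norm_surj_odd (ringChar_ne_two ho) (fun e => hne ?_) r
      rw [Matrix.trace_fin_two] at e
      have : ((g : Matrix (Fin 2) (Fin 2) F) 0 0 - (g : Matrix (Fin 2) (Fin 2) F) 1 1) *
          ((g : Matrix (Fin 2) (Fin 2) F) 0 0 - (g : Matrix (Fin 2) (Fin 2) F) 1 1) = 0 := by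
        linear_combination e - 4 * hd
      exact sub_eq_zero.1 (mul_self_eq_zero.1 this)
  have hconj : ∀ x : F, ρ.character (g * uSL x) = ρ.character g := by
    intro x
    refine (classFun_apply_of_isConj (Chars.isClassFunction_character ρ) ?_).symm
    refine sl_isConj_of_norm_surj (fun h => hne h.2.2) ?_ ?_ hnorm <;>
      simp [coe_uSL, IsScalar2, Matrix.mul_apply, Matrix.trace_fin_two, Fin.sum_univ_two, h01, h10, hne]
  rw [Finset.sum_congr rfl fun x _ => hconj x, Finset.sum_const, Finset.card_univ, nsmul_eq_mul] at hsum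
  exact (mul_eq_zero.1 hsum).resolve_left hq0

lemma uSumSL_split_even [CharP F 2] {χ : SL₂ → ℂ} (hχ : IsClassFunction SL₂ χ) :
    uSumSL χ = χ 1 + ((Fintype.card F : ℂ) - 1) * χ (uSL 1) := by
  rw [uSumSL, ← Finset.add_sum_erase _ _ (Finset.mem_univ 0), uSL_zero,
    Finset.sum_congr rfl fun x hx => classFun_apply_of_isConj hχ (g := uSL x) (h := uSL 1) (sl_isConj_of_norm_surj
        (by simp [coe_uSL, IsScalar2, Finset.ne_of_mem_erase hx]) (by simp [coe_uSL, IsScalar2])
        (by simp [coe_uSL, Matrix.trace_fin_two]) fun r => norm_surj_even r),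
    Finset.sum_const, Finset.card_erase_of_mem (Finset.mem_univ _), Finset.card_univ, nsmul_eq_mul,
    Nat.cast_sub Fintype.card_pos, Nat.cast_one]

lemma uSumSL_split_of_invariant (ho : Odd (Fintype.card F)) {χ : SL₂ → ℂ} (hχ : IsClassFunction SL₂ χ)
    (hinv : ∀ r g, χ (dConj r g) = χ g) :
    uSumSL χ = χ 1 + ((Fintype.card F : ℂ) - 1) * χ (uSL 1) := by
  obtain ⟨ν, hν⟩ := FiniteField.exists_nonsquare (ringChar_ne_two ho)
  have hν0 : ν ≠ 0 := fun e => hν (by rw [e]; exact IsSquare.zero)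
  have e := hinv (Units.mk0 ν hν0) (uSL 1)
  rw [dConj_uSL, Units.val_mk0, mul_one] at e
  have h2 := two_mul_uSumSL ho hχ hν
  rw [e] at h2
  linear_combination h2 / 2

variable (hodd : Odd (Fintype.card F))
include hodd

/-- The full degree cuspidal characters extend to the general linear group. -/
lemma exists_ext_cBigSL {χ : IrrCharacter SL₂} (h : χ ∈ cBigSL) :
    ∃ ψ : IrrCharacter (GL (Fin 2) F), (χ : SL₂ → ℂ) = (ψ : GL (Fin 2) F → ℂ) ∘ ι := by
  have hq := two_lt_card_of_odd hodd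
  have hc : χ ∈ cSetSL := (Finset.mem_filter.1 h).1
  obtain ⟨ψ, hψ⟩ : ∃ ψ : IrrCharacter (GL (Fin 2) F),
      classInner ((ψ : GL (Fin 2) F → ℂ) ∘ ι) (χ : SL₂ → ℂ) ≠ 0 := by
    by_contra! hn
    have := sum_deg_mul_inner_comp ι toGL_injective χ
    simp only [hn, mul_zero, Finset.sum_const_zero, card_gl_div] at this
    refine mul_ne_zero ?_ (CharApps.deg_ne_zero χ) this.symm
    exact sub_ne_zero.2 (by exact_mod_cast (by omega : Fintype.card F ≠ 1))
  have hd : charDegree (ψ : GL (Fin 2) F → ℂ) ≤ Fintype.card F - 1 ∨ ψ ∉ cSetGL := by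
    by_cases hm : ψ ∈ cSetGL
    · exact Or.inl (deg_cSetGL hm).le
    · exact Or.inr hm
  have hψc : charDegree (ψ : GL (Fin 2) F → ℂ) ≤ Fintype.card F - 1 := by
    rcases gl_cases ψ with hψ' | hψ' | hψ' | hψ'
    · obtain ⟨α, e⟩ := mem_dSetGL hψ'
      rw [e, detChar_comp_toGL] at hψ
      refine absurd (inner_irr_of_ne' Chars.isIrrCharacter_one χ.2 fun e' => principal_notMem_cSetSL (F := F) ?_) hψ
      rw [show (Chars.principal SL₂ : IrrCharacter SL₂) = χ from Subtype.ext e']
      exact hc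
    · obtain ⟨α, e⟩ := mem_sSetGL hψ'
      rw [e, stGL_comp_toGL] at hψ
      refine absurd (inner_irr_of_ne' isIrr_stSL χ.2 fun e' => stIrrSL_notMem_cSetSL (F := F) ?_) hψ
      rw [show (stIrrSL : IrrCharacter SL₂) = χ from Subtype.ext e']
      exact hc
    · obtain ⟨α, β, -, e⟩ := mem_pSetGL hψ'
      rw [e, piGL_comp_toGL] at hψ
      exact absurd ((inner_nat_comm (isChar_piSL _) (Chars.isCharacter_of_irr χ.2)).trans (mem_cSetSL.1 hc _)) hψ
    · exact (deg_cSetGL hψ').le
  refine ⟨ψ, (CharsMore.eq_of_constituent_degree (Chars.isCharacter_comp ι (Chars.isCharacter_of_irr ψ.2)) χ.2 hψ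
    (d := charDegree (ψ : GL (Fin 2) F → ℂ)) ?_ (e := charDegree (χ : SL₂ → ℂ)) (CharApps.deg_eq χ)
    (by rw [deg_cBigSL h]; exact hψc)).symm⟩
  show (ψ : GL (Fin 2) F → ℂ) (ι 1) = _
  rw [map_one, CharApps.deg_eq]

lemma cBigSL_comp_dConj {χ : IrrCharacter SL₂} (h : χ ∈ cBigSL) (r : Fˣ) (g : SL₂) :
    (χ : SL₂ → ℂ) (dConj r g) = (χ : SL₂ → ℂ) g := by
  obtain ⟨ψ, e⟩ := exists_ext_cBigSL hodd h
  rw [e]
  show (ψ : GL (Fin 2) F → ℂ) (ι (dConj r g)) = (ψ : GL (Fin 2) F → ℂ) (ι g)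
  refine (classFun_apply_of_isConj (Chars.isClassFunction_irr ψ) (isConj_iff.2
    ⟨Matrix.GeneralLinearGroup.mkOfDetNeZero !![(r : F), 0; 0, 1] (by simp [Matrix.det_fin_two]), ?_⟩)).symm
  rw [mul_inv_eq_iff_eq_mul]
  refine Units.ext ?_
  rw [Units.val_mul, Units.val_mul, coe_toGL, coe_toGL, coe_dConj]
  ext i j
  fin_cases i <;> fin_cases j <;>
    simp [Matrix.mul_apply, Fin.sum_univ_two, Matrix.GeneralLinearGroup.mkOfDetNeZero] <;> field_simp

lemma card_ne_three_of_split (g : SL₂) (_h01 : (g : Matrix (Fin 2) (Fin 2) F) 0 1 = 0)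
    (h10 : (g : Matrix (Fin 2) (Fin 2) F) 1 0 = 0) (ha : (g : Matrix (Fin 2) (Fin 2) F) 0 0 ^ 2 ≠ 1) :
    Fintype.card F ≠ 3 := fun h3 => by
  have h0 : (g : Matrix (Fin 2) (Fin 2) F) 0 0 ≠ 0 := left_ne_zero_of_mul_eq_one (diag_mul ⟨g, mem_borelSL.2 h10⟩)
  have := FiniteField.pow_card_sub_one_eq_one _ h0
  rw [h3] at this
  exact ha this

/-- The halves of the principal series vanish at elements without eigenvector. -/
lemma half_apply_elliptic {χ : IrrCharacter SL₂} (hχ : χ ∈ hSetSL) {g : SL₂} (he : Elliptic g) :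
    (χ : SL₂ → ℂ) g = 0 := by
  obtain ⟨a, b, hab, hset, hp, ha, hb, hda, hdb⟩ := hSetSL_eq hodd
  obtain ⟨ν, hν⟩ := FiniteField.exists_nonsquare (ringChar_ne_two hodd)
  have hν0 : ν ≠ 0 := fun e => hν (by rw [e]; exact IsSquare.zero)
  have hswap := half_comp_dConj hodd hab hp ha hda (Units.mk0 ν hν0) hν
  have hba : (b : SL₂ → ℂ) g = (a : SL₂ → ℂ) g := by
    rw [← hswap]
    exact apply_dConj_of_isNorm (Chars.isClassFunction_irr a) he.not_scalar _
      (norm_surj_odd (ringChar_ne_two hodd) (he.trace_sq_ne_four hodd) _)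
  have h0 := congrFun hp g
  rw [piSL_elliptic hodd _ he, Pi.add_apply, hba] at h0
  rw [hset, Finset.mem_insert, Finset.mem_singleton] at hχ
  rcases hχ with rfl | rfl
  · linear_combination -h0 / 2
  · rw [hba]; linear_combination -h0 / 2

/-- In the field of three elements the cuspidal character of degree two vanishes at elliptic elements. -/
lemma cBigSL_apply_elliptic_of_three (h3 : Fintype.card F = 3) {χ : IrrCharacter SL₂} (hχ : χ ∈ cBigSL)
    {g : SL₂} (he : Elliptic g) : (χ : SL₂ → ℂ) g = 0 := by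
  obtain ⟨T, hT, hTc, hgT⟩ := exists_torus hodd he
  obtain ⟨μ, hμ⟩ := exists_faithful hT hTc
  obtain ⟨α, θ, -, ⟨d, hd⟩, e⟩ := (torus_table hodd hT hTc μ hμ).1 χ hχ
  set c : T := ⟨g, hgT⟩
  have hz : (c : SL₂) ∉ Subgroup.center SL₂ := fun h => he.not_scalar (mem_center_sl.1 h)
  have hc2 : c ^ 2 ≠ 1 := fun h => hz (mem_center_of_sq hodd (by
    rw [← SubmonoidClass.coe_pow, h, OneMemClass.coe_one]))
  have hc4 : c ^ 4 = 1 := by
    have := pow_card_eq_one' (x := c)
    rwa [hTc, h3] at this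
  have hgen : ∀ x : T, x ∈ Subgroup.zpowers c := by
    have ho : orderOf c = 4 := by
      have h1 := orderOf_dvd_of_pow_eq_one hc4
      have h2 : ¬ orderOf c ∣ 2 := fun h => hc2 (orderOf_dvd_iff_pow_eq_one.1 h)
      have h5 := Nat.le_of_dvd (by norm_num) h1
      have h6 : 0 < orderOf c := orderOf_pos c
      interval_cases h : orderOf c <;> simp_all
    intro x
    have hcard' : Nat.card (Subgroup.zpowers c) = Nat.card T := by rw [Nat.card_zpowers, ho, hTc, h3]
    rw [Subgroup.eq_top_of_card_eq _ hcard']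
    exact Subgroup.mem_top x
  have hs : ((θ c : ℂˣ) : ℂ) ^ 2 = -1 := by
    have h4 : (((θ c : ℂˣ) : ℂ) ^ 2) * ((θ c : ℂˣ) : ℂ) ^ 2 = 1 := by
      rw [← pow_add, ← Units.val_pow_eq_pow_val, ← map_pow, hc4, map_one, Units.val_one]
    refine (mul_self_eq_one_iff.1 h4).resolve_left fun h => hd ?_
    obtain ⟨n, rfl⟩ := Subgroup.mem_zpowers_iff.1 (hgen d)
    have h' : θ c ^ 2 = 1 := Units.ext (by rw [Units.val_pow_eq_pow_val, h, Units.val_one])
    rw [map_zpow, ← zpow_natCast, ← zpow_mul, mul_comm, zpow_mul, zpow_natCast, h', one_zpow]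
  show (χ : SL₂ → ℂ) (c : SL₂) = 0
  rw [e, cuspFun_elliptic hodd hT hTc α θ c hz, Units.val_inv_eq_inv_val]
  have hne := (θ c).ne_zero
  field_simp
  linear_combination -hs

omit hodd in
lemma apply_uSL_of_top {χ : IrrCharacter SL₂} (hq : 4 ≤ Fintype.card F)
    (h : (χ : SL₂ → ℂ) 1 = (Fintype.card F : ℂ) + 1) :
    uSumSL (χ : SL₂ → ℂ) = (χ : SL₂ → ℂ) 1 + ((Fintype.card F : ℂ) - 1) * (χ : SL₂ → ℂ) (uSL 1) ∧
      uSumSL (χ : SL₂ → ℂ) = 2 * (Fintype.card F : ℂ) := by
  have hd : charDegree (χ : SL₂ → ℂ) = Fintype.card F + 1 := deg_eq_of_val (by rw [h]; push_cast; rfl)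
  rcases Nat.even_or_odd (Fintype.card F) with he | ho
  · have : CharP F 2 := by
      have h2 : ringChar F = 2 := FiniteField.even_card_iff_char_two.2 (Nat.even_iff.1 he)
      exact h2 ▸ ringChar.charP F
    refine ⟨uSumSL_split_even (Chars.isClassFunction_irr χ), ?_⟩
    rcases sl_cases_even χ with hc | hc | hc | hc
    · rw [hc, deg_principal] at hd; omega
    · rw [hc, deg_stIrrSL] at hd; omega
    · obtain ⟨α, -, e⟩ := mem_pSetSL.1 hc
      rw [e, uSumSL_piSL]
    · rw [deg_cSetSL_even hc] at hd; omega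
  · rcases sl_cases_odd ho χ with hc | hc | hc | hc | hc
    · rw [hc, deg_principal] at hd; omega
    · rw [hc, deg_stIrrSL] at hd; omega
    · obtain ⟨α, -, e⟩ := mem_pSetSL.1 hc
      refine ⟨uSumSL_split_of_invariant ho (Chars.isClassFunction_irr χ) fun r g => ?_, ?_⟩
      · rw [e]; exact congrFun (piSL_comp_dConj α r) g
      · rw [e, uSumSL_piSL]
    · have := (of_mem_hSetSL ho hc).2; omega
    · rcases deg_cSetSL_odd ho hc with e | e <;> omega

omit hodd in
lemma apply_uSL_of_cusp {χ : IrrCharacter SL₂} (hq : 4 ≤ Fintype.card F)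
    (h : (χ : SL₂ → ℂ) 1 = (Fintype.card F : ℂ) - 1) :
    uSumSL (χ : SL₂ → ℂ) = (χ : SL₂ → ℂ) 1 + ((Fintype.card F : ℂ) - 1) * (χ : SL₂ → ℂ) (uSL 1) ∧
      uSumSL (χ : SL₂ → ℂ) = 0 := by
  have hd : charDegree (χ : SL₂ → ℂ) = Fintype.card F - 1 :=
    deg_eq_of_val (by rw [h]; push_cast [(by omega : 1 ≤ Fintype.card F)]; rfl)
  rcases Nat.even_or_odd (Fintype.card F) with he | ho
  · have : CharP F 2 := by
      have h2 : ringChar F = 2 := FiniteField.even_card_iff_char_two.2 (Nat.even_iff.1 he)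
      exact h2 ▸ ringChar.charP F
    refine ⟨uSumSL_split_even (Chars.isClassFunction_irr χ), ?_⟩
    rcases sl_cases_even χ with hc | hc | hc | hc
    · rw [hc, deg_principal] at hd; omega
    · rw [hc, deg_stIrrSL] at hd; omega
    · rw [deg_pSetSL hc] at hd; omega
    · exact (mem_cSetSL.1 hc).uSum (Chars.isClassFunction_irr χ)
  · obtain ⟨k, hk⟩ := id ho
    rcases sl_cases_odd ho χ with hc | hc | hc | hc | hc
    · rw [hc, deg_principal] at hd; omega
    · rw [hc, deg_stIrrSL] at hd; omega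
    · rw [deg_pSetSL hc] at hd; omega
    · have := (of_mem_hSetSL ho hc).2; omega
    · refine ⟨uSumSL_split_of_invariant ho (Chars.isClassFunction_irr χ) fun r g => ?_,
        (mem_cSetSL.1 hc).uSum (Chars.isClassFunction_irr χ)⟩
      exact cBigSL_comp_dConj ho (by simp [cBigSL, hc, hd]) r g

end CfsgLib.CharsMore.TwoByTwo
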